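import Cfsg.Agent.Lib.GL2Char.Counts
import Cfsg.Agent.Lib.GL.Basic
import Cfsg.Agent.Lib.Char.Product

/-!
`GL₂ ≃ SL₂ × Fˣ` in characteristic two, and the irreducible characters of `SL₂` there.
-/

set_option autoImplicit false
set_option linter.style.haveILetI false

namespace Cfsg.Agent.GL2Char

open Cfsg.Agent.Char Matrix
open scoped MatrixGroups

variable {F : Type*} [Field F] [Fintype F] [DecidableEq F] [CharP F 2]

/-- Multiplication by scalars. -/
noncomputable def slScalarHom : SpecialLinearGroup (Fin 2) F × Fˣ →* GL (Fin 2) F :=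
  MonoidHom.noncommCoprod SpecialLinearGroup.toGL (GeneralLinearGroup.scalar (Fin 2))
    fun g z => Units.ext (by
      show ((SpecialLinearGroup.toGL g : GL (Fin 2) F) : Matrix (Fin 2) (Fin 2) F) *
          Matrix.scalar (Fin 2) (z : F) = Matrix.scalar (Fin 2) (z : F) *
          ((SpecialLinearGroup.toGL g : GL (Fin 2) F) : Matrix (Fin 2) (Fin 2) F)
      exact ((Matrix.scalar_commute _ (fun _ => Commute.all _ _) _).symm).eq)

omit [Fintype F] [DecidableEq F] [CharP F 2] in
theorem slScalarHom_apply (g : SpecialLinearGroup (Fin 2) F) (z : Fˣ) :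
    slScalarHom (g, z) = SpecialLinearGroup.toGL g * GeneralLinearGroup.scalar (Fin 2) z := rfl

omit [DecidableEq F] in
theorem slScalarHom_bijective : Function.Bijective (slScalarHom (F := F)) := by
  classical
  haveI := Fintype.ofFinite (GL (Fin 2) F)
  haveI := Fintype.ofFinite (SpecialLinearGroup (Fin 2) F × Fˣ)
  refine (Fintype.bijective_iff_injective_and_card _).2 ⟨?_, ?_⟩
  · refine (injective_iff_map_eq_one _).2 fun p hp => ?_
    obtain ⟨g, z⟩ := p
    have h := congrArg (fun x : GL (Fin 2) F => (x : Matrix (Fin 2) (Fin 2) F).det) hp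
    simp only [slScalarHom_apply, GeneralLinearGroup.coe_mul, det_mul,
      GeneralLinearGroup.coe_one, det_one] at h
    rw [show ((SpecialLinearGroup.toGL g : GL (Fin 2) F) : Matrix (Fin 2) (Fin 2) F).det = 1 from g.2,
      one_mul] at h
    have hz : z = 1 := by
      have h' : (z : F) ^ 2 = 1 := by
        simpa [GeneralLinearGroup.scalar, det_fin_two, sq] using h
      refine Units.ext ?_
      rw [Units.val_one]
      have h2 : ((z : F) + 1) ^ 2 = 0 := by rw [CharTwo.add_sq, h', one_pow, CharTwo.add_self_eq_zero]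
      have := eq_zero_of_pow_eq_zero h2
      rwa [CharTwo.add_eq_zero] at this
    subst hz
    simp only [slScalarHom_apply, map_one, mul_one] at hp
    rw [SpecialLinearGroup.toGL_injective (hp.trans (map_one _).symm)]
    rfl
  · rw [← Nat.card_eq_fintype_card, ← Nat.card_eq_fintype_card, Nat.card_prod,
      GL.card_GL_eq_SL_mul_units]

/-- `GL₂ ≃ SL₂ × Fˣ`. -/
noncomputable def slScalarEquiv : SpecialLinearGroup (Fin 2) F × Fˣ ≃* GL (Fin 2) F :=
  MulEquiv.ofBijective slScalarHom slScalarHom_bijective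

/-- Irreducible characters of `GL₂` from pairs. -/
noncomputable def pairChar (p : IrrCharacter (SpecialLinearGroup (Fin 2) F) × IrrCharacter Fˣ) :
    IrrCharacter (GL (Fin 2) F) :=
  irrCongr slScalarEquiv ⟨_, isIrrCharacter_prod_mul p.1.2 p.2.2⟩

theorem pairChar_apply_one (p : IrrCharacter (SpecialLinearGroup (Fin 2) F) × IrrCharacter Fˣ) :
    (pairChar p).1 1 = p.1.1 1 := by
  simp [pairChar, irrCongr, apply_one_of_comm (fun a b : Fˣ => mul_comm a b) p.2]

theorem pairChar_bijective : Function.Bijective (pairChar (F := F)) := by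
  constructor
  · rintro ⟨φ, ψ⟩ ⟨φ', ψ'⟩ h
    have h := congrArg Subtype.val ((irrCongr slScalarEquiv).injective h)
    have h1 : φ = φ' := Subtype.ext (funext fun g => by
      simpa [apply_one_of_comm (fun a b : Fˣ => mul_comm a b)] using congrFun h (g, 1))
    subst h1
    refine Prod.ext rfl (Subtype.ext (funext fun z => ?_))
    exact mul_left_cancel₀ (IsIrrCharacter.apply_one_ne_zero φ.2) (congrFun h (1, z))
  · intro χ
    obtain ⟨θ, rfl⟩ := (irrCongr (slScalarEquiv (F := F))).surjective χ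
    obtain ⟨φ, ψ, hφ, hψ, e⟩ := exists_eq_prod_mul θ.2
    exact ⟨(⟨φ, hφ⟩, ⟨ψ, hψ⟩), congrArg _ (Subtype.ext e.symm)⟩

theorem card_degree_mul (d : ℂ) :
    Nat.card {χ : IrrCharacter (GL (Fin 2) F) // χ.1 1 = d} =
      Nat.card {φ : IrrCharacter (SpecialLinearGroup (Fin 2) F) // φ.1 1 = d} *
        (Fintype.card F - 1) := by
  rw [← Nat.card_congr ((Equiv.ofBijective _ (pairChar_bijective (F := F))).subtypeEquiv
      (p := fun p => p.1.1 1 = d) fun p => by rw [Equiv.ofBijective_apply, pairChar_apply_one]),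
    ← Nat.card_congr ((Equiv.prodSubtypeFstEquivSubtypeProd
      (p := fun φ : IrrCharacter (SpecialLinearGroup (Fin 2) F) => φ.1 1 = d) (β := IrrCharacter Fˣ)).symm),
    Nat.card_prod, card_irr]
  congr 1
  haveI : Finite (ConjClasses Fˣ) := Finite.of_surjective _ ConjClasses.mk_surjective
  rw [← Nat.card_congr (Equiv.ofBijective (ConjClasses.mk : Fˣ → ConjClasses Fˣ)
    ⟨ConjClasses.mk_injective, ConjClasses.mk_surjective⟩), card_units]

theorem degree_mem_SL (φ : IrrCharacter (SpecialLinearGroup (Fin 2) F)) :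
    φ.1 1 = 1 ∨ φ.1 1 = (Fintype.card F : ℂ) - 1 ∨ φ.1 1 = (Fintype.card F : ℂ) ∨
      φ.1 1 = (Fintype.card F : ℂ) + 1 := by
  rw [← pairChar_apply_one (φ, trivialChar Fˣ)]
  exact degree_mem _

theorem card_degrees_SL (h4 : 4 ≤ Fintype.card F) :
    Nat.card {φ : IrrCharacter (SpecialLinearGroup (Fin 2) F) // φ.1 1 = 1} = 1 ∧
    Nat.card {φ : IrrCharacter (SpecialLinearGroup (Fin 2) F) // φ.1 1 = (Fintype.card F : ℂ)} = 1 ∧
    Nat.card {φ : IrrCharacter (SpecialLinearGroup (Fin 2) F) //
      φ.1 1 = (Fintype.card F : ℂ) + 1} = (Fintype.card F - 2) / 2 ∧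
    Nat.card {φ : IrrCharacter (SpecialLinearGroup (Fin 2) F) //
      φ.1 1 = (Fintype.card F : ℂ) - 1} = Fintype.card F / 2 := by
  have hq : 3 ≤ Fintype.card F := by omega
  have hev : Even (Fintype.card F) := by
    obtain ⟨n, -, hn⟩ := FiniteField.card F 2
    rw [hn]
    exact Nat.even_pow.2 ⟨even_two, n.ne_zero⟩
  obtain ⟨m, hm⟩ := hev
  have hpos : 0 < Fintype.card F - 1 := by omega
  refine ⟨?_, ?_, ?_, ?_⟩ <;> refine Nat.eq_of_mul_eq_mul_right hpos ?_ <;>
    rw [← card_degree_mul]
  · rw [card_degree_one hq, one_mul]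
  · rw [card_degree_q hq, one_mul]
  · rw [card_degree_q_add_one hq, mul_comm ((Fintype.card F - 2) / 2)]
    exact Nat.mul_div_assoc _ ⟨m - 1, by omega⟩
  · rw [card_degree_q_sub_one hq, mul_comm (Fintype.card F) (Fintype.card F - 1),
      mul_comm (Fintype.card F / 2)]
    exact Nat.mul_div_assoc _ ⟨m, by omega⟩

end Cfsg.Agent.GL2Char
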