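import Cfsg.Agent.Lib.GL2Char.Odd
import Cfsg.Agent.Lib.PSL2.Centralizer

/-!
Irreducible characters of `SL₂` below those of `GL₂`, and the values of the Steinberg character.
-/

set_option autoImplicit false
set_option linter.style.haveILetI false

namespace Cfsg.Agent.GL2Char

open Cfsg.Agent.Char Matrix
open scoped ComplexConjugate MatrixGroups

variable {F : Type*} [Field F] [Fintype F] [DecidableEq F]

theorem PS_twist (α β γ : MulChar F ℂ) (g : GL (Fin 2) F) :
    PS (α * γ) (β * γ) g = γ ((g : Matrix (Fin 2) (Fin 2) F).det) * PS α β g := by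
  have h : theta (α * γ) (β * γ) = fun b : BB F => theta α β b * (detChar γ (b : GL (Fin 2) F)) := by
    funext b
    rw [detChar_apply, det_fin_two, mem_BB.1 b.2, mul_zero, sub_zero, map_mul]
    simp only [theta, MulChar.mul_apply]
    ring
  rw [PS, h, indFun_mul_restrict (BB F) (theta α β)
    (IsCharacter.isClassFunction (IsIrrCharacter.isCharacter (isIrrCharacter_of_monoidHom (detChar γ)))),
    Pi.mul_apply, detChar_apply, mul_comm]
  rfl

theorem res_PS (α β : MulChar F ℂ) (g : SpecialLinearGroup (Fin 2) F) :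
    PS α β (SpecialLinearGroup.toGL g) = PSS (α * β⁻¹) g := by
  have h := PS_twist (α * β⁻¹) 1 β (SpecialLinearGroup.toGL g)
  rw [inv_mul_cancel_right, one_mul] at h
  rw [h, PSS_eq, show ((SpecialLinearGroup.toGL g : GL (Fin 2) F) : Matrix (Fin 2) (Fin 2) F).det = 1
    from g.2, map_one, one_mul]

theorem res_linI (γ : MulChar F ℂ) (g : SpecialLinearGroup (Fin 2) F) :
    (linI γ).1 (SpecialLinearGroup.toGL g) = 1 := by
  rw [linI_apply, show ((SpecialLinearGroup.toGL g : GL (Fin 2) F) : Matrix (Fin 2) (Fin 2) F).det = 1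
    from g.2, map_one]

theorem res_stI (γ : MulChar F ℂ) (g : SpecialLinearGroup (Fin 2) F) :
    (stI γ).1 (SpecialLinearGroup.toGL g) = (stS (F := F)).1 g := by
  show PS γ γ _ - (linI γ).1 _ = PSS 1 g - 1
  rw [res_linI, res_PS, mul_inv_cancel]

/-- An irreducible character of `SL₂` is trivial, the Steinberg character, in a non-trivial
principal series, or below a cuspidal character of `GL₂`. -/
theorem above_cases (θ : IrrCharacter (SpecialLinearGroup (Fin 2) F)) :
    θ = trivialChar (SpecialLinearGroup (Fin 2) F) ∨ θ = stS ∨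
      (∃ γ : MulChar F ℂ, γ ≠ 1 ∧ classInner (PSS γ) θ.1 ≠ 0) ∨
      ∃ χ : IrrCharacter (GL (Fin 2) F), IsCusp χ ∧
        classInner (fun g => χ.1 (SpecialLinearGroup.toGL g)) θ.1 ≠ 0 := by
  classical
  obtain ⟨χ, hχ⟩ := exists_above θ
  rcases classify χ with ⟨γ, e⟩ | ⟨γ, e⟩ | ⟨α, β, hab, e⟩ | e
  · left
    rw [e, show (fun g => (linI γ).1 (SpecialLinearGroup.toGL g)) =
      (trivialChar (SpecialLinearGroup (Fin 2) F)).1 from funext (res_linI γ)] at hχ
    by_contra h
    exact hχ (classInner_irr_of_ne (trivialChar _).2 θ.2 fun h' => h (Subtype.ext h'.symm))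
  · right; left
    rw [e, show (fun g => (stI γ).1 (SpecialLinearGroup.toGL g)) = (stS (F := F)).1 from
      funext (res_stI γ)] at hχ
    by_contra h
    exact hχ (classInner_irr_of_ne stS.2 θ.2 fun h' => h (Subtype.ext h'.symm))
  · right; right; left
    rw [e, show (fun g => PS α β (SpecialLinearGroup.toGL g)) = PSS (α * β⁻¹) from
      funext (res_PS α β)] at hχ
    exact ⟨α * β⁻¹, fun h => hab (mul_inv_eq_one.1 h), hχ⟩
  · exact Or.inr (Or.inr (Or.inr ⟨χ, e, hχ⟩))

omit [Fintype F] [DecidableEq F] in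
/-- The degree of a constituent is at most the degree, with equality only for the whole character. -/
theorem constituent_degree {G : Type*} [Group G] [Fintype G] {χ : G → ℂ} (hχ : IsCharacter G χ)
    (θ : IrrCharacter G) (h : classInner χ θ.1 ≠ 0) :
    ∃ r : G → ℂ, IsCharacter G r ∧ χ = θ.1 + r := by
  classical
  obtain ⟨m, hm, hm'⟩ := IsCharacter.exists_decomp hχ
  have hθ : m θ ≠ 0 := fun h0 => h (by rw [hm' θ, h0, Nat.cast_zero])
  refine ⟨_, isCharacter_sum_nat_smul (fun φ => if φ = θ then m θ - 1 else m φ), ?_⟩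
  rw [hm, ← Finset.add_sum_erase _ _ (Finset.mem_univ θ),
    ← Finset.add_sum_erase _ _ (Finset.mem_univ θ), ← add_assoc]
  simp only [if_true]
  refine congrArg₂ (· + ·) ?_ (Finset.sum_congr rfl fun φ hφ => ?_)
  · rw [Nat.cast_sub (Nat.one_le_iff_ne_zero.2 hθ), Nat.cast_one, sub_smul, one_smul]
    abel
  · rw [if_neg (Finset.ne_of_mem_erase hφ)]

/-- A constituent of the full degree is the whole character. -/
theorem eq_of_constituent_degree {G : Type*} [Group G] [Fintype G] {χ : G → ℂ}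
    (hχ : IsCharacter G χ) (θ : IrrCharacter G) (h : classInner χ θ.1 ≠ 0) (h1 : χ 1 = θ.1 1) :
    χ = θ.1 := by
  obtain ⟨r, hr, e⟩ := constituent_degree hχ θ h
  have := congrFun e 1
  rw [h1, Pi.add_apply] at this
  rw [e, IsCharacter.eq_zero_of_apply_one hr (by linear_combination -this), add_zero]

theorem degree_le_of_constituent {G : Type*} [Group G] [Fintype G] {χ : G → ℂ}
    (hχ : IsCharacter G χ) (θ : IrrCharacter G) (h : classInner χ θ.1 ≠ 0) :
    ∃ n : ℕ, χ 1 = θ.1 1 + n := by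
  obtain ⟨r, hr, e⟩ := constituent_degree hχ θ h
  obtain ⟨n, hn⟩ := IsCharacter.apply_one hr
  exact ⟨n, by rw [e, Pi.add_apply, hn]⟩

omit [DecidableEq F] in
theorem eq_one_of_sq_of_even (hev : Even (Fintype.card F)) {γ : MulChar F ℂ} (h : γ ^ 2 = 1) :
    γ = 1 := by
  classical
  obtain ⟨k, hk⟩ := hev
  have h' := MulChar.pow_card_eq_one γ
  have := Fintype.one_lt_card (α := F)
  rw [Fintype.card_units, hk, show k + k - 1 = 2 * (k - 1) + 1 by omega, pow_succ, pow_mul, h,
    one_pow, one_mul] at h'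
  exact h'

/-- `stS` is the only irreducible character of degree `q`. -/
theorem eq_stS_of_degree (θ : IrrCharacter (SpecialLinearGroup (Fin 2) F))
    (h : θ.1 1 = (Fintype.card F : ℂ)) : θ = stS := by
  classical
  have hq := one_lt_q (F := F)
  rcases above_cases θ with e | e | ⟨γ, hγ1, e⟩ | ⟨χ, hc, e⟩
  · rw [e, trivialChar_apply] at h
    exact absurd h hq
  · exact e
  · exfalso
    by_cases h2 : γ ^ 2 = 1
    · rcases Nat.even_or_odd (Fintype.card F) with hev | hodd
      · exact hγ1 (eq_one_of_sq_of_even hev h2)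
      · obtain ⟨fa, fb, ha, hb, -, hsum, hda, hdb, -⟩ := PSS_order_two hodd γ h2 hγ1
        have hθ : θ.1 = fa ∨ θ.1 = fb := by
          by_contra hc
          simp only [not_or] at hc
          exact e (by rw [hsum, classInner_add_left, classInner_irr_of_ne ha θ.2 (Ne.symm hc.1),
            classInner_irr_of_ne hb θ.2 (Ne.symm hc.2), add_zero])
        have hd : θ.1 1 = (((Fintype.card F + 1) / 2 : ℕ) : ℂ) := by
          rcases hθ with e' | e' <;> rw [e'] <;> assumption
        rw [h, Nat.cast_inj] at hd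
        have := Fintype.one_lt_card (α := F)
        omega
    · have hirr := (isIrrCharacter_PSS_iff γ).2 h2
      by_cases he : PSS γ = θ.1
      · rw [← he, PSS_one'] at h
        simp at h
      · exact e (classInner_irr_of_ne hirr θ.2 he)
  · exfalso
    obtain ⟨n, hn⟩ := degree_le_of_constituent
      (IsCharacter.comp (irr_isCharacter χ) SpecialLinearGroup.toGL) θ e
    simp only [map_one] at hn
    rw [hc.apply_one, h] at hn
    have : ((n + 1 : ℕ) : ℂ) = ((0 : ℕ) : ℂ) := by push_cast; linear_combination -hn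
    exact absurd (Nat.cast_injective this) (Nat.succ_ne_zero n)

/-! ### Values -/

theorem PS_torus (α β : MulChar F ℂ) (g : GL (Fin 2) F)
    (h01 : (g : Matrix (Fin 2) (Fin 2) F) 0 1 = 0) (h10 : (g : Matrix (Fin 2) (Fin 2) F) 1 0 = 0)
    (hne : (g : Matrix (Fin 2) (Fin 2) F) 0 0 ≠ (g : Matrix (Fin 2) (Fin 2) F) 1 1) :
    PS α β g = α ((g : Matrix (Fin 2) (Fin 2) F) 0 0) * β ((g : Matrix (Fin 2) (Fin 2) F) 1 1) +
      α ((g : Matrix (Fin 2) (Fin 2) F) 1 1) * β ((g : Matrix (Fin 2) (Fin 2) F) 0 0) := by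
  rw [PS_borel α β g h10, h01]
  congr 1
  rw [Finset.sum_eq_single (0 : F)]
  · simp
  · intro x _ hx
    rw [if_neg]
    intro h
    exact mul_ne_zero hx (sub_ne_zero.2 (Ne.symm hne)) (by linear_combination -h)
  · exact fun h => absurd (Finset.mem_univ _) h

theorem stS_elliptic (g : SpecialLinearGroup (Fin 2) F)
    (hg : ∀ (c : F) (v : Fin 2 → F), v ≠ 0 → (g : Matrix (Fin 2) (Fin 2) F).mulVec v ≠ c • v) :
    (stS (F := F)).1 g = -1 := by
  show PSS 1 g - 1 = -1
  rw [PSS_eq, PS_eq_zero 1 1 _ hg, zero_sub]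

theorem stS_torus (g : SpecialLinearGroup (Fin 2) F)
    (h01 : (g : Matrix (Fin 2) (Fin 2) F) 0 1 = 0) (h10 : (g : Matrix (Fin 2) (Fin 2) F) 1 0 = 0)
    (ha : (g : Matrix (Fin 2) (Fin 2) F) 0 0 ^ 2 ≠ 1) : (stS (F := F)).1 g = 1 := by
  have hd := g.2
  rw [det_fin_two, h10, mul_zero, sub_zero] at hd
  have hne : (g : Matrix (Fin 2) (Fin 2) F) 0 0 ≠ (g : Matrix (Fin 2) (Fin 2) F) 1 1 := fun h =>
    ha (by rw [sq]; nth_rw 2 [h]; exact hd)
  have h0 : IsUnit ((g : Matrix (Fin 2) (Fin 2) F) 0 0) :=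
    IsUnit.mk0 _ (left_ne_zero_of_mul_eq_one hd)
  have h1 : IsUnit ((g : Matrix (Fin 2) (Fin 2) F) 1 1) :=
    IsUnit.mk0 _ (right_ne_zero_of_mul_eq_one hd)
  show PSS 1 g - 1 = 1
  rw [PSS_eq, PS_torus 1 1 (SpecialLinearGroup.toGL g) h01 h10 hne]
  show ((1 : MulChar F ℂ) ((g : Matrix (Fin 2) (Fin 2) F) 0 0) *
      (1 : MulChar F ℂ) ((g : Matrix (Fin 2) (Fin 2) F) 1 1) +
      (1 : MulChar F ℂ) ((g : Matrix (Fin 2) (Fin 2) F) 1 1) *
      (1 : MulChar F ℂ) ((g : Matrix (Fin 2) (Fin 2) F) 0 0)) - 1 = 1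
  rw [MulChar.one_apply h0, MulChar.one_apply h1]
  norm_num

theorem PS_parabolic (α β : MulChar F ℂ) (g : GL (Fin 2) F)
    (h10 : (g : Matrix (Fin 2) (Fin 2) F) 1 0 = 0)
    (heq : (g : Matrix (Fin 2) (Fin 2) F) 0 0 = (g : Matrix (Fin 2) (Fin 2) F) 1 1)
    (h01 : (g : Matrix (Fin 2) (Fin 2) F) 0 1 ≠ 0) :
    PS α β g = α ((g : Matrix (Fin 2) (Fin 2) F) 0 0) * β ((g : Matrix (Fin 2) (Fin 2) F) 1 1) := by
  rw [PS_borel α β g h10, Finset.sum_eq_zero, add_zero]
  intro x _
  rw [if_neg]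
  intro h
  exact h01 (by rw [h, heq]; ring)

theorem stS_parabolic (g : SpecialLinearGroup (Fin 2) F)
    (h10 : (g : Matrix (Fin 2) (Fin 2) F) 1 0 = 0)
    (heq : (g : Matrix (Fin 2) (Fin 2) F) 0 0 = (g : Matrix (Fin 2) (Fin 2) F) 1 1)
    (h01 : (g : Matrix (Fin 2) (Fin 2) F) 0 1 ≠ 0) : (stS (F := F)).1 g = 0 := by
  have hd := g.2
  rw [det_fin_two, h10, mul_zero, sub_zero] at hd
  show PSS 1 g - 1 = 0
  rw [PSS_eq, PS_parabolic 1 1 (SpecialLinearGroup.toGL g) h10 heq h01]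
  show (1 : MulChar F ℂ) ((g : Matrix (Fin 2) (Fin 2) F) 0 0) *
    (1 : MulChar F ℂ) ((g : Matrix (Fin 2) (Fin 2) F) 1 1) - 1 = 0
  rw [MulChar.one_apply (IsUnit.mk0 _ (left_ne_zero_of_mul_eq_one hd)),
    MulChar.one_apply (IsUnit.mk0 _ (right_ne_zero_of_mul_eq_one hd))]
  norm_num

theorem norm_mulChar (γ : MulChar F ℂ) {x : F} (hx : x ≠ 0) : ‖γ x‖ = 1 := by
  have h := normSq_linear (unitHom γ) (Units.mk0 x hx)
  rw [unitHom_apply, Units.val_mk0, Complex.mul_conj, Complex.ofReal_eq_one,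
    Complex.normSq_eq_norm_sq, pow_eq_one_iff_of_nonneg (norm_nonneg _) two_ne_zero] at h
  exact h

end Cfsg.Agent.GL2Char
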