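import Cfsg.Agent.Lib.GL2Char.SLValues

/-!
The characters of `SL₂` of degree `(q ± 1) / 2`, and zeros at elliptic elements.
-/

set_option autoImplicit false
set_option linter.style.haveILetI false

namespace Cfsg.Agent.GL2Char

open Cfsg.Agent.Char Matrix
open scoped ComplexConjugate MatrixGroups

variable {F : Type*} [Field F] [Fintype F] [DecidableEq F]

theorem degree_eq_of (θ : IrrCharacter (SpecialLinearGroup (Fin 2) F)) (d : ℕ)
    (h : θ.1 1 = (d : ℂ)) : degree θ = d := by
  rw [apply_one_eq_degree] at h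
  exact_mod_cast h

theorem linear_normSq (θ : IrrCharacter (SpecialLinearGroup (Fin 2) F)) (h : θ.1 1 = 1)
    (g : SpecialLinearGroup (Fin 2) F) : Complex.normSq (θ.1 g) = 1 := by
  obtain ⟨lam, hl⟩ := IsCharacter.exists_monoidHom (irr_isCharacter θ) h
  have := normSq_linear lam g
  rw [Complex.mul_conj, Complex.ofReal_eq_one, hl] at this
  exact this

theorem isEll_of_no_eigenvector (g : SpecialLinearGroup (Fin 2) F)
    (hg : ∀ (c : F) (v : Fin 2 → F), v ≠ 0 → (g : Matrix (Fin 2) (Fin 2) F).mulVec v ≠ c • v) :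
    PSL2.IsEll (PSL2.tr g) := by
  intro r hr
  have hd := g.2
  rw [det_fin_two] at hd
  rw [PSL2.tr_def] at hr
  obtain ⟨v, hv, hv'⟩ := (Matrix.exists_mulVec_eq_zero_iff
    (M := (g : Matrix (Fin 2) (Fin 2) F) - r • 1)).2 (by
      rw [det_fin_two]
      simp only [Matrix.sub_apply, Matrix.smul_apply, Matrix.one_apply_eq, smul_eq_mul, mul_one,
        Matrix.one_apply_ne (show (0 : Fin 2) ≠ 1 by decide),
        Matrix.one_apply_ne (show (1 : Fin 2) ≠ 0 by decide), mul_zero, sub_zero]
      linear_combination hd + hr)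
  rw [Matrix.sub_mulVec, Matrix.smul_mulVec, Matrix.one_mulVec, sub_eq_zero] at hv'
  exact hg r v hv hv'

/-- The case `q = 3`: degree two characters vanish at elliptic elements. -/
theorem elliptic_zero_three (h3 : Fintype.card F = 3)
    (θ : IrrCharacter (SpecialLinearGroup (Fin 2) F)) (h : θ.1 1 = 2)
    (g : SpecialLinearGroup (Fin 2) F)
    (hg : ∀ (c : F) (v : Fin 2 → F), v ≠ 0 → (g : Matrix (Fin 2) (Fin 2) F).mulVec v ≠ c • v) :
    θ.1 g = 0 := by
  classical
  have hm : Fintype.card F = 2 * 1 + 1 := h3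
  set T : Finset (IrrCharacter (SpecialLinearGroup (Fin 2) F)) :=
    Finset.univ.filter fun φ => degree φ = 1 ∨ degree φ = 3 with hT
  have hcard : T.card = 4 := by
    rw [hT, Finset.filter_or, Finset.card_union_of_disjoint, ← Fintype.card_subtype,
      ← Fintype.card_subtype, ← Nat.card_eq_fintype_card, ← Nat.card_eq_fintype_card,
      card_degree_SL_odd hm, card_degree_SL_odd hm]
    · norm_num
    · rw [Finset.disjoint_filter]
      intro φ _ h1
      omega
  have hone : ∀ φ ∈ T, Complex.normSq (φ.1 g) = 1 := by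
    intro φ hφ
    rcases (Finset.mem_filter.1 hφ).2 with h1 | h1
    · exact linear_normSq φ (by rw [apply_one_eq_degree, h1, Nat.cast_one]) g
    · rw [eq_stS_of_degree φ (by rw [apply_one_eq_degree, h1, h3]), stS_elliptic g hg]
      simp
  have htot : ∑ φ : IrrCharacter (SpecialLinearGroup (Fin 2) F), Complex.normSq (φ.1 g) = 4 := by
    have h1 := sum_irr_mul_conj g g
    rw [if_pos (IsConj.refl g), (isEll_of_no_eigenvector g hg).card_cent, h3] at h1
    simp only [Complex.mul_conj] at h1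
    rw [← Complex.ofReal_inj, Complex.ofReal_sum, h1]
    norm_num
  rw [← Finset.sum_filter_add_sum_filter_not Finset.univ
    (fun φ : IrrCharacter (SpecialLinearGroup (Fin 2) F) => degree φ = 1 ∨ degree φ = 3),
    Finset.sum_congr rfl hone, Finset.sum_const, hcard] at htot
  have hz := (Finset.sum_eq_zero_iff_of_nonneg fun φ _ => Complex.normSq_nonneg (φ.1 g)).1
    (show ∑ φ ∈ Finset.univ.filter (fun φ : IrrCharacter (SpecialLinearGroup (Fin 2) F) =>
      ¬ (degree φ = 1 ∨ degree φ = 3)), Complex.normSq (φ.1 g) = 0 by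
        norm_num at htot ⊢
        linarith)
  exact Complex.normSq_eq_zero.1 (hz θ (Finset.mem_filter.2 ⟨Finset.mem_univ _, by
    rw [degree_eq_of θ 2 (by rw [h]; norm_num)]; omega⟩))

theorem elliptic_zero (hodd : Odd (Fintype.card F))
    (θ : IrrCharacter (SpecialLinearGroup (Fin 2) F))
    (h : θ.1 1 = (Fintype.card F : ℂ) + 1 ∨ θ.1 1 = (((Fintype.card F + 1) / 2 : ℕ) : ℂ))
    (g : SpecialLinearGroup (Fin 2) F)
    (hg : ∀ (c : F) (v : Fin 2 → F), v ≠ 0 → (g : Matrix (Fin 2) (Fin 2) F).mulVec v ≠ c • v) :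
    θ.1 g = 0 := by
  classical
  obtain ⟨m, hm⟩ := hodd
  have hm1 : 1 ≤ m := by
    have := Fintype.one_lt_card (α := F)
    omega
  have key : ∀ d : ℕ, θ.1 1 = (d : ℂ) → d = 2 * m + 2 ∨ d = m + 1 := by
    intro d hd
    rw [hm, show (2 * m + 1 + 1) / 2 = m + 1 by omega] at h
    rcases h with h | h <;> rw [hd] at h
    · left
      have : (d : ℂ) = ((2 * m + 2 : ℕ) : ℂ) := by push_cast at h ⊢; linear_combination h
      exact Nat.cast_injective this
    · exact Or.inr (Nat.cast_injective h)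
  rcases cases_SL θ with e | e | ⟨γ, hγ, e⟩ | e
  · have := key 1 (by rw [e, trivialChar_apply, Nat.cast_one])
    omega
  · have := key _ (by rw [e, stS_apply_one])
    omega
  · rcases PSS_constituent hγ e with ⟨-, e'⟩ | ⟨-, -, -, -, e'⟩
    · rw [e', PSS_eq]
      exact PS_eq_zero γ 1 _ hg
    · exact e' g hg
  · obtain ⟨n, hn, he⟩ := e.exists_mult ⟨m, hm⟩
    have h' : θ.1 1 = ((n * m : ℕ) : ℂ) := by
      rw [hm] at he
      push_cast at he ⊢
      linear_combination (1 / 2 : ℂ) * he
    have := key _ h'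
    rcases hn with rfl | rfl
    · omega
    · refine elliptic_zero_three (by omega) θ ?_ g hg
      rw [h', show 2 * m = 2 by omega]
      norm_num

section Halves

variable {m : ℕ} (hm : Fintype.card F = 2 * m + 1) (h5 : 5 ≤ Fintype.card F)
include hm h5

/-- A character of degree `(q + 1) / 2` is half of a principal series. -/
theorem half_of_degree (θ : IrrCharacter (SpecialLinearGroup (Fin 2) F))
    (h : θ.1 1 = ((m + 1 : ℕ) : ℂ)) :
    ∃ (σ : MulChar F ℂ) (θ' : IrrCharacter (SpecialLinearGroup (Fin 2) F)),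
      σ ^ 2 = 1 ∧ σ ≠ 1 ∧ θ' ≠ θ ∧ PSS σ = θ.1 + θ'.1 := by
  have hd := degree_eq_of θ _ h
  rcases cases_SL θ with e | e | ⟨γ, hγ, e⟩ | e
  · have := degree_eq_of θ 1 (by rw [e, trivialChar_apply, Nat.cast_one])
    omega
  · have := degree_eq_of θ _ (by rw [e, stS_apply_one, hm])
    omega
  · rcases PSS_constituent hγ e with ⟨-, e'⟩ | ⟨h2, -, -, ⟨θ', hne, hs⟩, -⟩
    · have := degree_eq_of θ (2 * m + 2) (by rw [e', PSS_one', hm]; push_cast; ring)
      omega
    · exact ⟨γ, θ', h2, hγ, hne, hs⟩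
  · obtain ⟨n, hn, he⟩ := e.exists_mult ⟨m, hm⟩
    have := degree_eq_of θ (n * m) (by
      rw [hm] at he
      push_cast at he ⊢
      linear_combination (1 / 2 : ℂ) * he)
    rcases hn with rfl | rfl <;> omega

theorem value_sq_plus (θ : IrrCharacter (SpecialLinearGroup (Fin 2) F))
    (h : θ.1 1 = ((m + 1 : ℕ) : ℂ)) :
    (2 * θ.1 (uni 1) - 1) ^ 2 =
      (-1 : ℂ) ^ ((Fintype.card F - 1) / 2) * (Fintype.card F : ℂ) := by
  classical
  haveI := Fintype.ofFinite (MulChar F ℂ)
  obtain ⟨σ, θ', hσ2, hσ1, hne, hsum⟩ := half_of_degree hm h5 θ h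
  have hodd : Odd (Fintype.card F) := ⟨m, hm⟩
  obtain ⟨σ₀, -, -, hu⟩ := exists_sign (F := F) (Ring.two_ne_zero (ringChar_ne_two hodd))
  have hk : ∑ γ : MulChar F ℂ, γ ((1 : Fˣ) : F) * classInner θ.1 (PSS γ) = ((1 : ℕ) : ℂ) := by
    rw [Finset.sum_eq_single σ, Units.val_one, map_one, one_mul, hsum, classInner_add_right,
      classInner_irr_self θ.2, classInner_irr_of_ne θ.2 θ'.2 fun e => hne (Subtype.ext e.symm),
      add_zero, Nat.cast_one]
    · intro γ _ hγ
      rw [Units.val_one, map_one, one_mul]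
      by_cases h2 : γ ^ 2 = 1
      · rcases hu γ h2 with rfl | rfl
        · rw [show PSS (1 : MulChar F ℂ) = (trivialChar (SpecialLinearGroup (Fin 2) F)).1 + (stS (F := F)).1
            from (add_sub_cancel _ _).symm, classInner_add_right,
            classInner_irr_of_ne θ.2 (trivialChar _).2, classInner_irr_of_ne θ.2 stS.2, add_zero]
          · intro e
            have := congrFun e 1
            rw [h, stS_apply_one, hm, Nat.cast_inj] at this
            omega
          · intro e
            have := congrFun e 1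
            rw [h, trivialChar_apply, Nat.cast_eq_one] at this
            omega
        · rcases hu σ hσ2 with e | e
          · exact absurd e hσ1
          · exact absurd e.symm hγ
      · refine classInner_irr_of_ne θ.2 ((isIrrCharacter_PSS_iff γ).2 h2) fun e => ?_
        have h0 := degree_eq_of θ (2 * m + 2) (by rw [e, PSS_one', hm]; push_cast; ring)
        have h1 := degree_eq_of θ _ h
        omega
    · exact fun h => absurd (Finset.mem_univ σ) h
  refine value_sq hodd θ (Or.inl rfl) ?_ hk (by norm_num)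
  rw [h, hm]
  push_cast
  ring

theorem value_sq_minus (θ : IrrCharacter (SpecialLinearGroup (Fin 2) F))
    (h : θ.1 1 = (m : ℂ)) :
    (2 * θ.1 (uni 1) + 1) ^ 2 =
      (-1 : ℂ) ^ ((Fintype.card F - 1) / 2) * (Fintype.card F : ℂ) := by
  classical
  haveI := Fintype.ofFinite (MulChar F ℂ)
  have hodd : Odd (Fintype.card F) := ⟨m, hm⟩
  have hc : IsCuspS θ := isCuspS_of_degree hodd h5 θ (Or.inr (by
    rw [h, hm, show (2 * m + 1 - 1) / 2 = m by omega]))
  have hk : ∑ γ : MulChar F ℂ, γ ((1 : Fˣ) : F) * classInner θ.1 (PSS γ) = ((0 : ℕ) : ℂ) := by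
    simp [hc _]
  have := value_sq hodd θ (sg := -1) (Or.inr rfl) (by rw [h, hm]; push_cast; ring) hk (by norm_num)
  rw [sub_neg_eq_add] at this
  exact this

theorem value_add_plus (θ₁ θ₂ : IrrCharacter (SpecialLinearGroup (Fin 2) F)) (hne : θ₁ ≠ θ₂)
    (h₁ : θ₁.1 1 = ((m + 1 : ℕ) : ℂ)) (h₂ : θ₂.1 1 = ((m + 1 : ℕ) : ℂ)) :
    θ₁.1 (uni 1) + θ₂.1 (uni 1) = 1 := by
  classical
  obtain ⟨σ, θ', hσ2, hσ1, -, hsum⟩ := half_of_degree hm h5 θ₁ h₁
  obtain ⟨τ, τ', hτ2, hτ1, hτne, hτ⟩ := half_of_degree hm h5 θ₂ h₂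
  obtain ⟨σ₀, -, -, hu⟩ := exists_sign (F := F)
    (Ring.two_ne_zero (ringChar_ne_two (F := F) ⟨m, hm⟩))
  have hστ : τ = σ := by
    rcases hu σ hσ2 with e | e
    · exact absurd e hσ1
    rcases hu τ hτ2 with e' | e'
    · exact absurd e' hτ1
    rw [e, e']
  rw [hστ] at hτ
  have : θ' = θ₂ := by
    by_contra hc
    have h0 : classInner (PSS σ) θ₂.1 = 0 := by
      rw [hsum, classInner_add_left, classInner_irr_of_ne θ₁.2 θ₂.2 fun e => hne (Subtype.ext e),
        classInner_irr_of_ne θ'.2 θ₂.2 fun e => hc (Subtype.ext e), add_zero]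
    rw [hτ, classInner_add_left, classInner_irr_self θ₂.2,
      classInner_irr_of_ne τ'.2 θ₂.2 fun e => hτne (Subtype.ext e), add_zero] at h0
    exact one_ne_zero h0
  rw [← this, ← Pi.add_apply θ₁.1 θ'.1, ← hsum, PSS_eq]
  exact PS_transvection σ 1 _ one_ne_zero rfl

theorem value_add_minus (θ₁ θ₂ : IrrCharacter (SpecialLinearGroup (Fin 2) F)) (hne : θ₁ ≠ θ₂)
    (h₁ : θ₁.1 1 = (m : ℂ)) (h₂ : θ₂.1 1 = (m : ℂ)) :
    θ₁.1 (uni 1) + θ₂.1 (uni 1) = -1 := by
  classical
  have hm2 : 2 ≤ m := by omega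
  have hu1 : (uni (1 : F)) ≠ 1 := fun h => by
    have := congrArg (fun g : SpecialLinearGroup (Fin 2) F => (g : Matrix (Fin 2) (Fin 2) F) 0 1) h
    simp [coe_uni] at this
  have h0 := sum_irr_degree_mul (uni (1 : F))
  rw [if_neg hu1] at h0
  simp only [apply_one_eq_degree] at h0
  have hdeg : ∀ θ ∈ (Finset.univ : Finset (IrrCharacter (SpecialLinearGroup (Fin 2) F))),
      degree θ ∈ ({1, 2 * m + 1, 2 * m + 2, 2 * m, m + 1, m} : Finset ℕ) := by
    intro θ _
    have hh := degree_mem_SL_odd ⟨m, hm⟩ θ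
    rw [hm, show (2 * m + 1 + 1) / 2 = m + 1 by omega,
      show (2 * m + 1 - 1) / 2 = m by omega] at hh
    simp only [Finset.mem_insert, Finset.mem_singleton]
    rcases hh with h | h | h | h | h | h
    · exact Or.inl (degree_eq_of θ 1 (by rw [h, Nat.cast_one]))
    · exact Or.inr (Or.inl (degree_eq_of θ _ h))
    · exact Or.inr (Or.inr (Or.inl (degree_eq_of θ _ (by rw [h]; push_cast; ring))))
    · exact Or.inr (Or.inr (Or.inr (Or.inl (degree_eq_of θ _ (by rw [h]; push_cast; ring)))))
    · exact Or.inr (Or.inr (Or.inr (Or.inr (Or.inl (degree_eq_of θ _ h)))))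
    · exact Or.inr (Or.inr (Or.inr (Or.inr (Or.inr (degree_eq_of θ _ h)))))
  rw [← Finset.sum_fiberwise_of_maps_to hdeg] at h0
  have fib : ∀ d, (Finset.univ.filter fun θ : IrrCharacter (SpecialLinearGroup (Fin 2) F) =>
      degree θ = d).card = Nat.card {θ : IrrCharacter (SpecialLinearGroup (Fin 2) F) // degree θ = d} :=
    fun d => by rw [Nat.card_eq_fintype_card, Fintype.card_subtype]
  have const : ∀ (d : ℕ) (v : ℂ) (N : ℕ),
      Nat.card {θ : IrrCharacter (SpecialLinearGroup (Fin 2) F) // degree θ = d} = N →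
      (∀ θ : IrrCharacter (SpecialLinearGroup (Fin 2) F), degree θ = d → θ.1 (uni 1) = v) →
      ∑ θ ∈ Finset.univ.filter (fun θ : IrrCharacter (SpecialLinearGroup (Fin 2) F) => degree θ = d),
        (degree θ : ℂ) * θ.1 (uni 1) = (N : ℂ) * ((d : ℂ) * v) := by
    intro d v N hN hv
    rw [Finset.sum_congr rfl (g := fun _ => (d : ℂ) * v) fun θ hθ => by
      rw [(Finset.mem_filter.1 hθ).2, hv θ (Finset.mem_filter.1 hθ).2], Finset.sum_const, fib, hN,
      nsmul_eq_mul]
  have hpair : ∀ (d : ℕ) (a b : IrrCharacter (SpecialLinearGroup (Fin 2) F)), a ≠ b →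
      Nat.card {θ : IrrCharacter (SpecialLinearGroup (Fin 2) F) // degree θ = d} = 2 →
      degree a = d → degree b = d →
      ∑ θ ∈ Finset.univ.filter (fun θ : IrrCharacter (SpecialLinearGroup (Fin 2) F) => degree θ = d),
        (degree θ : ℂ) * θ.1 (uni 1) = (d : ℂ) * (a.1 (uni 1) + b.1 (uni 1)) := by
    intro d a b hab hN ha hb
    have hset : Finset.univ.filter
        (fun θ : IrrCharacter (SpecialLinearGroup (Fin 2) F) => degree θ = d) = {a, b} := by
      refine (Finset.eq_of_subset_of_card_le (fun x hx => ?_) ?_).symm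
      · simp only [Finset.mem_insert, Finset.mem_singleton] at hx
        rcases hx with rfl | rfl
        · simp [ha]
        · simp [hb]
      · rw [fib, hN, Finset.card_pair hab]
    rw [hset, Finset.sum_pair hab, ha, hb, mul_add]
  have hc : ∀ d, Nat.card {θ : IrrCharacter (SpecialLinearGroup (Fin 2) F) // degree θ = d} =
      (if 1 = d then 1 else 0) + (if 2 * m + 1 = d then 1 else 0) +
      2 * (if m + 1 = d then 1 else 0) + (m - 1) * (if 2 * m + 2 = d then 1 else 0) +
      2 * (if m = d then 1 else 0) + m * (if 2 * m = d then 1 else 0) := card_degree_SL_odd hm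
  obtain ⟨⟨a, ha⟩⟩ : Nonempty {θ : IrrCharacter (SpecialLinearGroup (Fin 2) F) // degree θ = m + 1} :=
    (Nat.card_pos_iff.1 (by rw [hc]; split_ifs <;> omega)).1
  obtain ⟨σ, a', -, -, hne', hsum⟩ := half_of_degree hm h5 a (by rw [apply_one_eq_degree, ha])
  have ha' : degree a' = m + 1 := degree_eq_of a' _ (by
    have := congrFun hsum 1
    rw [PSS_one', Pi.add_apply, apply_one_eq_degree a, ha, hm] at this
    push_cast at this ⊢
    linear_combination -this)
  rw [Finset.sum_insert (by simp; omega), Finset.sum_insert (by simp; omega),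
    Finset.sum_insert (by simp <;> omega), Finset.sum_insert (by simp <;> omega),
    Finset.sum_insert (by simp <;> omega), Finset.sum_singleton,
    const 1 1 1 (by rw [hc]; split_ifs <;> omega) (fun θ hθ => by
      rcases cases_SL θ with e | e | ⟨γ, hγ, e⟩ | e
      · rw [e, trivialChar_apply]
      · have := degree_eq_of θ _ (by rw [e, stS_apply_one, hm])
        omega
      · rcases PSS_constituent hγ e with ⟨-, e'⟩ | ⟨-, -, e', -, -⟩
        · have := degree_eq_of θ (2 * m + 2) (by rw [e', PSS_one', hm]; push_cast; ring)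
          omega
        · have := degree_eq_of θ _ e'
          omega
      · obtain ⟨n, hn, he⟩ := e.exists_mult ⟨m, hm⟩
        have := degree_eq_of θ (n * m) (by
          rw [hm] at he
          push_cast at he ⊢
          linear_combination (1 / 2 : ℂ) * he)
        rcases hn with rfl | rfl <;> omega),
    const (2 * m + 1) 0 1 (by rw [hc]; split_ifs <;> omega) (fun θ hθ => by
      rw [eq_stS_of_degree θ (by rw [apply_one_eq_degree, hθ, hm])]
      exact stS_parabolic _ rfl rfl (by simp [coe_uni])),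
    const (2 * m + 2) 1 (m - 1) (by rw [hc]; split_ifs <;> omega) (fun θ hθ =>
      value_uni_of_degree_q_add_one θ (by rw [apply_one_eq_degree, hθ, hm]; push_cast; ring)),
    const (2 * m) (-1) m (by rw [hc]; split_ifs <;> omega) (fun θ hθ =>
      value_uni_of_degree_q_sub_one (by omega) θ
        (by rw [apply_one_eq_degree, hθ, hm]; push_cast; ring)),
    hpair (m + 1) a a' (Ne.symm hne') (by rw [hc]; split_ifs <;> omega) ha ha',
    hpair m θ₁ θ₂ hne (by rw [hc]; split_ifs <;> omega) (degree_eq_of θ₁ _ h₁) (degree_eq_of θ₂ _ h₂),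
    show a.1 (uni 1) + a'.1 (uni 1) = 1 by
      rw [← Pi.add_apply a.1 a'.1, ← hsum, PSS_eq]
      exact PS_transvection σ 1 _ one_ne_zero rfl,
    Nat.cast_sub (show 1 ≤ m by omega)] at h0
  push_cast at h0
  have hmC : (m : ℂ) ≠ 0 := by exact_mod_cast (show m ≠ 0 by omega)
  refine mul_left_cancel₀ hmC ?_
  linear_combination h0

end Halves

end Cfsg.Agent.GL2Char
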