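import Cfsg.Agent.Lib.Char.Product
import Cfsg.Agent.Lib.Char.KernelSum
import Cfsg.Prelude.Def_DegreeGraph

/-!
# Degree graphs of groups with degree set `{1, q, q ± 1, divisors of q ± 1}`
-/

set_option autoImplicit false

namespace Cfsg.Agent.GL2Char

open Cfsg Cfsg.Agent

universe u v

theorem charDegrees_congr {G : Type u} [Group G] {H : Type v} [Group H] (e : G ≃* H) :
    charDegrees G = charDegrees H := by
  have hd : ∀ χ : IrrCharacter G, charDegree (Char.irrCongr e χ).1 = charDegree χ.1 := fun χ => by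
    unfold charDegree
    simp [Char.irrCongr]
  ext d
  constructor
  · rintro ⟨χ, rfl⟩
    exact ⟨Char.irrCongr e χ, hd χ⟩
  · rintro ⟨χ, rfl⟩
    exact ⟨(Char.irrCongr e).symm χ, by rw [← hd, Equiv.apply_symm_apply]⟩

theorem mem_charDegrees {G : Type u} [Group G] (χ : IrrCharacter G) {d : ℕ} (h : χ.1 1 = (d : ℂ)) :
    d ∈ charDegrees G :=
  ⟨χ, Nat.cast_injective (R := ℂ) (by rw [Char.charDegree_cast, h])⟩

theorem graph_of_degrees {S : Type u} [Group S] {q t : ℕ} (ht : t.Prime) (hq : ∃ n, q = t ^ n)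
    (hsub : ∀ d ∈ charDegrees S, d = 1 ∨ d = q ∨ d ∣ q + 1 ∨ d ∣ q - 1)
    (h0 : q ∈ charDegrees S) (h1 : q + 1 ∈ charDegrees S) (h2 : q - 1 ∈ charDegrees S) :
    degreePrimes S = {r : ℕ | r.Prime ∧ r ∣ q * (q ^ 2 - 1)} ∧
      ∀ r s : ℕ, (degreeGraph S).Adj r s ↔
        (r ≠ s ∧ r.Prime ∧ s.Prime ∧ ((r ∣ q + 1 ∧ s ∣ q + 1) ∨ (r ∣ q - 1 ∧ s ∣ q - 1))) := by
  obtain ⟨n, hn⟩ := hq
  have hsq : q ^ 2 - 1 = (q + 1) * (q - 1) := by
    have := Nat.sq_sub_sq q 1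
    simpa using this
  refine ⟨?_, fun r s => ?_⟩
  · ext r
    rw [Set.mem_ofPred_eq, hsq]
    constructor
    · rintro ⟨hr, d, hd, hrd⟩
      refine ⟨hr, ?_⟩
      rcases hsub d hd with rfl | rfl | h | h
      · exact absurd (Nat.dvd_one.1 hrd) hr.one_lt.ne'
      · exact hrd.mul_right _
      · exact ((hrd.trans h).mul_right _).mul_left _
      · exact ((hrd.trans h).mul_left _).mul_left _
    · rintro ⟨hr, h⟩
      rcases hr.dvd_mul.1 h with h | h
      · exact ⟨hr, q, h0, h⟩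
      · rcases hr.dvd_mul.1 h with h | h
        · exact ⟨hr, q + 1, h1, h⟩
        · exact ⟨hr, q - 1, h2, h⟩
  · constructor
    · rintro ⟨hrs, hr, hs, d, hd, hdvd⟩
      refine ⟨hrs, hr, hs, ?_⟩
      have hrd : r ∣ d := (dvd_mul_right r s).trans hdvd
      have hsd : s ∣ d := (dvd_mul_left s r).trans hdvd
      rcases hsub d hd with rfl | rfl | h | h
      · exact absurd (Nat.dvd_one.1 hrd) hr.one_lt.ne'
      · exfalso
        rw [hn] at hrd hsd
        exact hrs (((Nat.prime_dvd_prime_iff_eq hr ht).1 (hr.dvd_of_dvd_pow hrd)).trans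
          ((Nat.prime_dvd_prime_iff_eq hs ht).1 (hs.dvd_of_dvd_pow hsd)).symm)
      · exact Or.inl ⟨hrd.trans h, hsd.trans h⟩
      · exact Or.inr ⟨hrd.trans h, hsd.trans h⟩
    · rintro ⟨hrs, hr, hs, h | h⟩
      · exact ⟨hrs, hr, hs, q + 1, h1,
          ((Nat.coprime_primes hr hs).2 hrs).mul_dvd_of_dvd_of_dvd h.1 h.2⟩
      · exact ⟨hrs, hr, hs, q - 1, h2,
          ((Nat.coprime_primes hr hs).2 hrs).mul_dvd_of_dvd_of_dvd h.1 h.2⟩

end Cfsg.Agent.GL2Char
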