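import Cfsg.Agent.Lib.GL2Char.Odd
import Cfsg.Agent.Lib.PSL2.Basic

/-!
The irreducible characters of `SL₂(q)`, `q` odd, by degree.
-/

set_option autoImplicit false
set_option linter.style.haveILetI false

namespace Cfsg.Agent.GL2Char

open Cfsg.Agent.Char Matrix
open scoped ComplexConjugate MatrixGroups

variable {F : Type*} [Field F] [Fintype F] [DecidableEq F]

omit [Fintype F] [DecidableEq F] in
theorem neg_one_units_ne_one (h2 : (2 : F) ≠ 0) : (-1 : Fˣ) ≠ 1 := fun h => h2 (by
  have := congrArg Units.val h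
  simp only [Units.val_neg, Units.val_one] at this
  linear_combination -this)

theorem exists_sign (h2 : (2 : F) ≠ 0) :
    ∃ σ : MulChar F ℂ, σ ^ 2 = 1 ∧ σ ≠ 1 ∧ ∀ γ : MulChar F ℂ, γ ^ 2 = 1 → γ = 1 ∨ γ = σ := by
  obtain ⟨e⟩ := MulChar.mulEquiv_units F ℂ
  refine ⟨e.symm (-1), ?_, ?_, fun γ hγ => ?_⟩
  · rw [← map_pow, neg_one_sq, map_one]
  · exact fun h => neg_one_units_ne_one h2 (e.symm.injective (h.trans (map_one e.symm).symm))
  · have h : ((e γ : Fˣ) : F) * (e γ : Fˣ) = 1 := by
      rw [← Units.val_mul, ← map_mul, ← sq, hγ, map_one, Units.val_one]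
    rcases mul_self_eq_one_iff.1 h with h | h
    · left
      rw [← e.symm_apply_apply γ, Units.ext (h.trans Units.val_one.symm), map_one]
    · right
      rw [← e.symm_apply_apply γ]
      congr 1
      exact Units.ext (by simpa using h)

/-- For any function of the degree, its sum over the irreducible characters of `SL₂`. -/
theorem exists_degree_sum {m : ℕ} (hm : Fintype.card F = 2 * m + 1) :
    ∃ (C : Finset (IrrCharacter (SpecialLinearGroup (Fin 2) F)))
      (k : IrrCharacter (SpecialLinearGroup (Fin 2) F) → ℕ),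
      (∀ θ ∈ C, k θ = 1 ∨ k θ = 2) ∧
      ∀ g : ℕ → ℕ, ∑ θ : IrrCharacter (SpecialLinearGroup (Fin 2) F), g (degree θ) =
        g 1 + g (2 * m + 1) + 2 * g (m + 1) + (m - 1) * g (2 * m + 2) + ∑ θ ∈ C, g (k θ * m) := by
  classical
  haveI := Fintype.ofFinite (MulChar F ℂ)
  have hodd : Odd (Fintype.card F) := ⟨m, hm⟩
  have hm1 : 1 ≤ m := by
    have := Fintype.one_lt_card (α := F)
    omega
  have hF : ringChar F ≠ 2 := fun h => by
    have := FiniteField.even_card_of_char_two h
    rw [Nat.odd_iff] at hodd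
    omega
  have h2 : (2 : F) ≠ 0 := Ring.two_ne_zero hF
  obtain ⟨σ, hσ2, hσ1, hσu⟩ := exists_sign h2
  obtain ⟨fa, fb, ha, hb, hne, hsum, hda, hdb, -⟩ := PSS_order_two hodd σ hσ2 hσ1
  let a : IrrCharacter (SpecialLinearGroup (Fin 2) F) := ⟨fa, ha⟩
  let b : IrrCharacter (SpecialLinearGroup (Fin 2) F) := ⟨fb, hb⟩
  have hab : a ≠ b := fun h => hne (congrArg Subtype.val h)
  let f : {γ : MulChar F ℂ // γ ^ 2 ≠ 1} → IrrCharacter (SpecialLinearGroup (Fin 2) F) := fun γ =>
    ⟨PSS γ.1, (isIrrCharacter_PSS_iff γ.1).2 γ.2⟩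
  set P := (Finset.univ : Finset {γ : MulChar F ℂ // γ ^ 2 ≠ 1}).image f with hP
  have hdeg : ∀ (θ : IrrCharacter (SpecialLinearGroup (Fin 2) F)) (d : ℕ),
      θ.1 1 = (d : ℂ) → degree θ = d := fun θ d h => by
    rw [apply_one_eq_degree] at h
    exact_mod_cast h
  have dT : degree (trivialChar (SpecialLinearGroup (Fin 2) F)) = 1 :=
    hdeg _ _ (by rw [Nat.cast_one, trivialChar_apply])
  have dS : degree (stS (F := F)) = 2 * m + 1 := hdeg _ _ (by rw [stS_apply_one, hm])
  have dA : degree a = m + 1 := hdeg _ _ (by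
    show fa 1 = _
    rw [hda, hm, show (2 * m + 1 + 1) / 2 = m + 1 by omega])
  have dB : degree b = m + 1 := hdeg _ _ (by
    show fb 1 = _
    rw [hdb, hm, show (2 * m + 1 + 1) / 2 = m + 1 by omega])
  have dP : ∀ θ ∈ P, degree θ = 2 * m + 2 := by
    intro θ hθ
    obtain ⟨γ, -, rfl⟩ := Finset.mem_image.1 hθ
    refine hdeg _ _ ?_
    show PSS γ.1 1 = _
    rw [PSS_one', hm]
    push_cast
    ring
  have hT : Fintype.card {γ : MulChar F ℂ // γ ^ 2 ≠ 1} = 2 * (m - 1) := by
    rw [Fintype.card_subtype_compl, Fintype.card_subtype, ← Nat.card_eq_fintype_card, card_mulChar,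
      show Finset.univ.filter (fun γ : MulChar F ℂ => γ ^ 2 = 1) = {1, σ} from ?_,
      Finset.card_pair (Ne.symm hσ1), hm]
    · omega
    · ext γ
      simp only [Finset.mem_filter, Finset.mem_univ, true_and, Finset.mem_insert,
        Finset.mem_singleton]
      exact ⟨hσu γ, by rintro (rfl | rfl) <;> simp [hσ2]⟩
  have hPc : P.card = m - 1 := by
    have h := Finset.card_eq_sum_card_image f (Finset.univ : Finset {γ : MulChar F ℂ // γ ^ 2 ≠ 1})
    rw [Finset.card_univ, hT, ← hP, Finset.sum_congr rfl (g := fun _ => 2), Finset.sum_const,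
      smul_eq_mul] at h
    · omega
    · intro θ hθ
      obtain ⟨γ, -, rfl⟩ := Finset.mem_image.1 hθ
      have hinv : γ.1⁻¹ ^ 2 ≠ 1 := fun h => γ.2 (by rwa [inv_pow, inv_eq_one] at h)
      rw [show Finset.univ.filter (fun δ => f δ = f γ) = {γ, ⟨γ.1⁻¹, hinv⟩} from ?_,
        Finset.card_pair fun h => γ.2 ((inv_eq_self_iff_sq γ.1).1 (congrArg Subtype.val h).symm)]
      ext δ
      simp only [Finset.mem_filter, Finset.mem_univ, true_and, Finset.mem_insert,
        Finset.mem_singleton]
      constructor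
      · intro h
        have h' : PSS δ.1 = PSS γ.1 := congrArg Subtype.val h
        have e := classInner_PSS γ.1 δ.1
        rw [h', classInner_irr_self (f γ).2] at e
        by_cases h1 : γ.1 = δ.1
        · exact Or.inl (Subtype.ext h1.symm)
        · by_cases h2' : γ.1⁻¹ = δ.1
          · exact Or.inr (Subtype.ext h2'.symm)
          · rw [if_neg h1, if_neg h2', add_zero] at e
            exact absurd e one_ne_zero
      · rintro (rfl | rfl)
        · rfl
        · refine Subtype.ext ?_
          show PSS γ.1⁻¹ = PSS γ.1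
          refine sub_eq_zero.1 (classInner_self_eq_zero ?_)
          rw [classInner_sub_left, classInner_sub_right, classInner_sub_right, classInner_PSS,
            classInner_PSS, classInner_PSS, classInner_PSS, inv_inv]
          have h : γ.1⁻¹ ≠ γ.1 := fun h => γ.2 ((inv_eq_self_iff_sq γ.1).1 h)
          simp [h, Ne.symm h]
  have hone : PSS (1 : MulChar F ℂ) = (trivialChar (SpecialLinearGroup (Fin 2) F)).1 + (stS (F := F)).1 :=
    (add_sub_cancel _ _).symm
  set D : Finset (IrrCharacter (SpecialLinearGroup (Fin 2) F)) :=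
    {trivialChar (SpecialLinearGroup (Fin 2) F), stS, a, b} ∪ P with hD
  have hnot : Finset.univ.filter (fun θ : IrrCharacter (SpecialLinearGroup (Fin 2) F) =>
      ¬ IsCuspS θ) = D := by
    ext θ
    simp only [Finset.mem_filter, Finset.mem_univ, true_and, hD, Finset.mem_union,
      Finset.mem_insert, Finset.mem_singleton, IsCuspS, not_forall]
    constructor
    · rintro ⟨γ, hγ⟩
      by_cases h : γ ^ 2 = 1
      · refine Or.inl ?_
        rcases hσu γ h with rfl | rfl
        · rw [hone, classInner_add_right] at hγ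
          by_contra hc
          simp only [not_or] at hc
          exact hγ (by rw [classInner_irr_of_ne θ.2 (trivialChar _).2 fun e => hc.1 (Subtype.ext e),
            classInner_irr_of_ne θ.2 stS.2 fun e => hc.2.1 (Subtype.ext e), add_zero])
        · rw [hsum, classInner_add_right] at hγ
          by_contra hc
          simp only [not_or] at hc
          exact hγ (by rw [classInner_irr_of_ne θ.2 a.2 fun e => hc.2.2.1 (Subtype.ext e),
            classInner_irr_of_ne θ.2 b.2 fun e => hc.2.2.2 (Subtype.ext e), add_zero])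
      · refine Or.inr (Finset.mem_image.2 ⟨⟨γ, h⟩, Finset.mem_univ _, ?_⟩)
        by_contra hc
        exact hγ (classInner_irr_of_ne θ.2 (f ⟨γ, h⟩).2 fun e => hc (Subtype.ext e.symm))
    · rintro ((h | h | h | h) | h)
      · refine ⟨1, ?_⟩
        rw [h, hone, classInner_add_right, classInner_irr_self (trivialChar _).2,
          classInner_irr_of_ne (trivialChar _).2 stS.2 fun e => by
            have e' := congrFun e 1
            rw [trivialChar_apply, stS_apply_one] at e'
            exact one_lt_q e', add_zero]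
        exact one_ne_zero
      · refine ⟨1, ?_⟩
        rw [h, hone, classInner_add_right, classInner_irr_self stS.2,
          classInner_irr_of_ne stS.2 (trivialChar _).2 fun e => by
            have e' := congrFun e 1
            rw [trivialChar_apply, stS_apply_one] at e'
            exact one_lt_q e'.symm, zero_add]
        exact one_ne_zero
      · refine ⟨σ, ?_⟩
        rw [h, hsum, classInner_add_right, classInner_irr_self a.2,
          classInner_irr_of_ne a.2 b.2 hne, add_zero]
        exact one_ne_zero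
      · refine ⟨σ, ?_⟩
        rw [h, hsum, classInner_add_right, classInner_irr_self b.2,
          classInner_irr_of_ne b.2 a.2 (Ne.symm hne), zero_add]
        exact one_ne_zero
      · obtain ⟨γ, -, rfl⟩ := Finset.mem_image.1 h
        refine ⟨γ.1, ?_⟩
        rw [show PSS γ.1 = (f γ).1 from rfl, classInner_irr_self (f γ).2]
        exact one_ne_zero
  choose n hn using fun θ : {θ : IrrCharacter (SpecialLinearGroup (Fin 2) F) // IsCuspS θ} =>
    θ.2.exists_mult hodd
  refine ⟨Finset.univ.filter IsCuspS, fun θ => if h : IsCuspS θ then n ⟨θ, h⟩ else 0,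
    fun θ hθ => ?_, fun g => ?_⟩
  · dsimp only
    rw [dif_pos (Finset.mem_filter.1 hθ).2]
    exact (hn _).1
  rw [← Finset.sum_filter_add_sum_filter_not Finset.univ IsCuspS, hnot, add_comm]
  refine congrArg₂ (· + ·) ?_ (Finset.sum_congr rfl fun θ hθ => ?_)
  · have ne1 : trivialChar (SpecialLinearGroup (Fin 2) F) ∉ ({stS, a, b} : Finset _) := by
      intro h
      simp only [Finset.mem_insert, Finset.mem_singleton] at h
      rcases h with h | h | h <;> have := congrArg degree h <;> simp only [dT, dS, dA, dB] at this <;>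
        omega
    have ne2 : stS (F := F) ∉ ({a, b} : Finset _) := by
      intro h
      simp only [Finset.mem_insert, Finset.mem_singleton] at h
      rcases h with h | h <;> have := congrArg degree h <;> simp only [dS, dA, dB] at this <;> omega
    have disj : Disjoint ({trivialChar (SpecialLinearGroup (Fin 2) F), stS, a, b} : Finset _) P := by
      rw [Finset.disjoint_left]
      intro θ h hθ
      have := dP θ hθ
      simp only [Finset.mem_insert, Finset.mem_singleton] at h
      rcases h with rfl | rfl | rfl | rfl <;> simp only [dT, dS, dA, dB] at this <;> omega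
    rw [hD, Finset.sum_union disj, Finset.sum_insert ne1, Finset.sum_insert ne2,
      Finset.sum_pair hab, dT, dS, dA, dB,
      Finset.sum_congr rfl (fun θ hθ => congrArg g (dP θ hθ)), Finset.sum_const, hPc, smul_eq_mul]
    ring
  · have hc := (Finset.mem_filter.1 hθ).2
    dsimp only
    rw [dif_pos hc]
    refine congrArg g (hdeg θ _ ?_)
    have := (hn ⟨θ, hc⟩).2
    rw [hm] at this
    push_cast at this ⊢
    linear_combination (1 / 2 : ℂ) * this

/-- The number of irreducible characters of each degree. -/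
theorem card_degree_SL_odd {m : ℕ} (hm : Fintype.card F = 2 * m + 1) (d : ℕ) :
    Nat.card {θ : IrrCharacter (SpecialLinearGroup (Fin 2) F) // degree θ = d} =
      (if 1 = d then 1 else 0) + (if 2 * m + 1 = d then 1 else 0) +
      2 * (if m + 1 = d then 1 else 0) + (m - 1) * (if 2 * m + 2 = d then 1 else 0) +
      2 * (if m = d then 1 else 0) + m * (if 2 * m = d then 1 else 0) := by
  classical
  obtain ⟨C, k, hk, hsum⟩ := exists_degree_sum hm
  have hm1 : 1 ≤ m := by
    have := Fintype.one_lt_card (α := F)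
    omega
  set C₂ := C.filter fun θ => k θ = 2 with hC₂
  set C₁ := C.filter fun θ => k θ = 1 with hC₁
  have hsplit : ∀ g : ℕ → ℕ, ∑ θ ∈ C, g (k θ * m) = C₁.card * g m + C₂.card * g (2 * m) := by
    intro g
    rw [← Finset.sum_filter_add_sum_filter_not C (fun θ => k θ = 1)]
    refine congrArg₂ (· + ·) ?_ ?_
    · rw [Finset.sum_congr rfl (g := fun _ => g m) fun θ hθ => by
        rw [(Finset.mem_filter.1 hθ).2, one_mul], Finset.sum_const, smul_eq_mul]
    · have e : C.filter (fun θ => ¬ k θ = 1) = C₂ :=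
        Finset.filter_congr fun θ hθ => by rcases hk θ hθ with h | h <;> simp [h]
      rw [e, Finset.sum_congr rfl (g := fun _ => g (2 * m)) fun θ hθ => by
        rw [(Finset.mem_filter.1 hθ).2], Finset.sum_const, smul_eq_mul]
  have hcls : Fintype.card (IrrCharacter (SpecialLinearGroup (Fin 2) F)) = 2 * m + 5 := by
    rw [← Nat.card_eq_fintype_card, card_irr, card_conjClasses_SL2_odd ⟨m, hm⟩, hm]
  have h1 := hsum fun _ => 1
  rw [hsplit fun _ => 1, Finset.sum_const, Finset.card_univ, hcls, smul_eq_mul] at h1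
  have h2 := hsum fun x => x ^ 2
  rw [hsplit fun x => x ^ 2, sum_degree_sq, PSL2.card_SL, hm] at h2
  have hC : C₁.card + C₂.card = m + 2 := by
    omega
  have hC' : C₁.card + 4 * C₂.card = 4 * m + 2 := by
    rw [show (2 * m + 1) ^ 2 - 1 = 4 * (m * m + m) from Nat.sub_eq_of_eq_add (by ring)] at h2
    obtain ⟨r, rfl⟩ : ∃ r, m = r + 1 := ⟨m - 1, by omega⟩
    rw [Nat.add_sub_cancel] at h2
    refine Nat.eq_of_mul_eq_mul_right (show 0 < (r + 1) * (r + 1) by positivity) ?_
    zify at h2 ⊢
    linear_combination -h2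
  have hv := hsum fun x => if x = d then 1 else 0
  rw [hsplit fun x => if x = d then 1 else 0, ← Finset.card_filter, ← Fintype.card_subtype, ← Nat.card_eq_fintype_card] at hv
  rw [hv, show C₁.card = 2 by omega, show C₂.card = m by omega]
  simp only [eq_comm (b := d)]
  ring

theorem degree_mem_SL_odd (hodd : Odd (Fintype.card F))
    (θ : IrrCharacter (SpecialLinearGroup (Fin 2) F)) :
    θ.1 1 = 1 ∨ θ.1 1 = (Fintype.card F : ℂ) ∨ θ.1 1 = (Fintype.card F : ℂ) + 1 ∨
      θ.1 1 = (Fintype.card F : ℂ) - 1 ∨ θ.1 1 = (((Fintype.card F + 1) / 2 : ℕ) : ℂ) ∨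
        θ.1 1 = (((Fintype.card F - 1) / 2 : ℕ) : ℂ) := by
  obtain ⟨m, hm⟩ := hodd
  have h := card_degree_SL_odd hm (degree θ)
  haveI : Nonempty {φ : IrrCharacter (SpecialLinearGroup (Fin 2) F) // degree φ = degree θ} :=
    ⟨⟨θ, rfl⟩⟩
  have hpos := Nat.card_pos (α := {φ : IrrCharacter (SpecialLinearGroup (Fin 2) F) // degree φ = degree θ})
  rw [h] at hpos
  rw [apply_one_eq_degree, hm, show (2 * m + 1 + 1) / 2 = m + 1 by omega,
    show (2 * m + 1 - 1) / 2 = m by omega]
  have : degree θ = 1 ∨ degree θ = 2 * m + 1 ∨ degree θ = 2 * m + 2 ∨ degree θ = 2 * m ∨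
      degree θ = m + 1 ∨ degree θ = m := by
    by_contra hc
    simp only [not_or] at hc
    rw [if_neg (Ne.symm hc.1), if_neg (Ne.symm hc.2.1), if_neg (Ne.symm hc.2.2.1),
      if_neg (Ne.symm hc.2.2.2.1), if_neg (Ne.symm hc.2.2.2.2.1),
      if_neg (Ne.symm hc.2.2.2.2.2)] at hpos
    omega
  rcases this with h | h | h | h | h | h <;> rw [h]
  · simp
  · exact Or.inr (Or.inl rfl)
  · exact Or.inr (Or.inr (Or.inl (by push_cast; ring)))
  · exact Or.inr (Or.inr (Or.inr (Or.inl (by push_cast; ring))))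
  · exact Or.inr (Or.inr (Or.inr (Or.inr (Or.inl rfl))))
  · exact Or.inr (Or.inr (Or.inr (Or.inr (Or.inr rfl))))

theorem card_degrees_SL_odd (hodd : Odd (Fintype.card F)) (h5 : 5 ≤ Fintype.card F) :
    Nat.card {θ : IrrCharacter (SpecialLinearGroup (Fin 2) F) // θ.1 1 = 1} = 1 ∧
    Nat.card {θ : IrrCharacter (SpecialLinearGroup (Fin 2) F) //
      θ.1 1 = (Fintype.card F : ℂ)} = 1 ∧
    Nat.card {θ : IrrCharacter (SpecialLinearGroup (Fin 2) F) //
      θ.1 1 = (Fintype.card F : ℂ) + 1} = (Fintype.card F - 3) / 2 ∧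
    Nat.card {θ : IrrCharacter (SpecialLinearGroup (Fin 2) F) //
      θ.1 1 = (Fintype.card F : ℂ) - 1} = (Fintype.card F - 1) / 2 ∧
    Nat.card {θ : IrrCharacter (SpecialLinearGroup (Fin 2) F) //
      θ.1 1 = (((Fintype.card F + 1) / 2 : ℕ) : ℂ)} = 2 ∧
    Nat.card {θ : IrrCharacter (SpecialLinearGroup (Fin 2) F) //
      θ.1 1 = (((Fintype.card F - 1) / 2 : ℕ) : ℂ)} = 2 := by
  obtain ⟨m, hm⟩ := hodd
  have hconv : ∀ (c : ℂ) (d : ℕ), c = (d : ℂ) →
      Nat.card {θ : IrrCharacter (SpecialLinearGroup (Fin 2) F) // θ.1 1 = c} =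
        Nat.card {θ : IrrCharacter (SpecialLinearGroup (Fin 2) F) // degree θ = d} := by
    intro c d hc
    exact Nat.card_congr (Equiv.subtypeEquivRight fun θ => by rw [apply_one_eq_degree, hc, Nat.cast_inj])
  rw [hconv 1 1 Nat.cast_one.symm, hconv _ (2 * m + 1) (by rw [hm]),
    hconv _ (2 * m + 2) (by rw [hm]; push_cast; ring),
    hconv _ (2 * m) (by rw [hm]; push_cast; ring),
    hconv _ (m + 1) (by rw [hm]; congr 1; omega), hconv _ m (by rw [hm]; congr 1; omega)]
  simp only [card_degree_SL_odd hm]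
  refine ⟨?_, ?_, ?_, ?_, ?_, ?_⟩ <;>
  · split_ifs <;> omega

end Cfsg.Agent.GL2Char
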