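import Cfsg.Agent.Lib.GL2Char.SLNonCusp
import Cfsg.Agent.Lib.PSL2.Torus
import Cfsg.Agent.Lib.CharInt.Central
import Cfsg.Agent.Lib.Char.Generalized

/-!
The cuspidal characters of `SL₂(q)`, `q` odd, as `YS α - indFun C φ` with `YS α = PSS α * (stS - 1)`
for a non-split torus `C`, and the values of every cuspidal character on `C`.
-/

set_option autoImplicit false
set_option linter.style.haveILetI false

namespace Cfsg.Agent.GL2Char

open Cfsg.Agent.Char Matrix
open scoped ComplexConjugate MatrixGroups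

variable {F : Type*} [Field F]

theorem noEigen_of_isEll {g : SpecialLinearGroup (Fin 2) F} (hg : PSL2.IsEll (PSL2.tr g)) (c : F)
    (v : Fin 2 → F) (hv : v ≠ 0) : (g : Matrix (Fin 2) (Fin 2) F).mulVec v ≠ c • v := by
  intro h
  have h0 : ((g : Matrix (Fin 2) (Fin 2) F) - c • 1).det = 0 :=
    Matrix.exists_mulVec_eq_zero_iff.1
      ⟨v, hv, by rw [sub_mulVec, smul_mulVec, one_mulVec, h, sub_self]⟩
  simp [det_fin_two] at h0
  refine hg c ?_
  rw [PSL2.tr_def]
  linear_combination h0 - PSL2.det_eq g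

theorem center_mul_apply {G : Type*} [Group G] [Finite G] (χ : IrrCharacter G) {z : G}
    (hz : z ∈ Subgroup.center G) (g : G) : χ.1 1 * χ.1 (z * g) = χ.1 z * χ.1 g := by
  obtain ⟨n, ρ, hρ, hχ⟩ := χ.2
  haveI := hρ
  obtain ⟨c, hc⟩ := CharInt.exists_smul_one_of_mem_center ρ hz
  rw [← hχ]
  simp only [Representation.character, map_mul, hc, map_one, smul_mul_assoc, one_mul, map_smul, smul_eq_mul]
  ring

theorem conj_hom_apply {H : Type*} [Group H] [Finite H] (φ : H →* ℂˣ) (c : H) :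
    conj (φ c : ℂ) = ((φ c)⁻¹ : ℂˣ) := by
  rw [Units.val_inv_eq_inv_val]
  refine (Complex.inv_eq_conj (Complex.norm_eq_one_of_pow_eq_one (n := Nat.card H) ?_ Nat.card_pos.ne')).symm
  rw [← Units.val_pow_eq_pow_val, ← map_pow, pow_card_eq_one', map_one, Units.val_one]

variable [Fintype F] [DecidableEq F]

/-- `PSS α` times `stS - 1`. -/
noncomputable def YS (α : MulChar F ℂ) : SpecialLinearGroup (Fin 2) F → ℂ :=
  PSS α * fun g => (stS (F := F)).1 g - 1

theorem PSS_bmkS (α : MulChar F ℂ) (a : Fˣ) (b : F) :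
    PSS α (bmkS (a, b) : SpecialLinearGroup (Fin 2) F) = α (a : F) +
      ∑ x : F, if b = x * ((a⁻¹ : Fˣ) : F) - (a : F) * x then α⁻¹ (a : F) else 0 := by
  rw [PSS_eq, PS_borel α 1 _ rfl]
  rw [show ((SpecialLinearGroup.toGL (bmkS (a, b) : SpecialLinearGroup (Fin 2) F) : GL (Fin 2) F) :
    Matrix (Fin 2) (Fin 2) F) = !![(a : F), b; 0, ((a⁻¹ : Fˣ) : F)] from rfl]
  simp [MulChar.one_apply, MulChar.inv_apply']

omit [Fintype F] [DecidableEq F] in
theorem inv_val_of_sq {a : Fˣ} (ha : (a : F) ^ 2 = 1) : ((a⁻¹ : Fˣ) : F) = a := by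
  rw [Units.val_inv_eq_inv_val]
  exact inv_eq_of_mul_eq_one_right (by rw [← sq]; exact ha)

theorem PSS_bmkS_cases (α : MulChar F ℂ) (a : Fˣ) (b : F) :
    PSS α (bmkS (a, b) : SpecialLinearGroup (Fin 2) F) =
      if (a : F) ^ 2 ≠ 1 then α (a : F) + α⁻¹ (a : F)
      else if b = 0 then ((Fintype.card F : ℂ) + 1) * α (a : F) else α (a : F) := by
  rw [PSS_bmkS]
  split_ifs with h1 h2
  · have hne : ((a⁻¹ : Fˣ) : F) - (a : F) ≠ 0 := fun h => h1 (by
      have := congrArg (· * (a : F)) (sub_eq_zero.1 h)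
      simp only [Units.inv_mul] at this
      rw [sq]; exact this.symm)
    rw [Finset.sum_eq_single (b / (((a⁻¹ : Fˣ) : F) - (a : F))), if_pos (by field_simp)]
    · intro x _ hx
      rw [if_neg]
      intro h
      refine hx ?_
      rw [h, eq_div_iff hne]
      ring
    · exact fun h => absurd (Finset.mem_univ _) h
  · simp only [ne_eq, not_not] at h1
    have hi := inv_val_of_sq h1
    rw [Finset.sum_eq_card_nsmul (b := α⁻¹ (a : F)) fun x _ => if_pos (by rw [h2, hi]; ring),
      Finset.card_univ, nsmul_eq_mul, MulChar.inv_apply', ← Units.val_inv_eq_inv_val, hi]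
    ring
  · simp only [ne_eq, not_not] at h1
    have hi := inv_val_of_sq h1
    rw [Finset.sum_eq_zero fun x _ => if_neg fun h => h2 (h.trans (by rw [hi]; ring)), add_zero]

theorem stS_bmkS (a : Fˣ) (b : F) :
    (stS (F := F)).1 (bmkS (a, b) : SpecialLinearGroup (Fin 2) F) =
      if (a : F) ^ 2 ≠ 1 then 1 else if b = 0 then (Fintype.card F : ℂ) else 0 := by
  show PSS 1 _ - 1 = _
  rw [PSS_bmkS_cases]
  split_ifs <;> simp [MulChar.one_apply_coe]

theorem YS_bmkS (α : MulChar F ℂ) (a : Fˣ) (b : F) :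
    YS α (bmkS (a, b) : SpecialLinearGroup (Fin 2) F) =
      if (a : F) ^ 2 ≠ 1 then 0
      else if b = 0 then α (a : F) * ((Fintype.card F : ℂ) ^ 2 - 1) else -α (a : F) := by
  rw [YS, Pi.mul_apply, PSS_bmkS_cases, stS_bmkS]
  split_ifs <;> ring

theorem YS_elliptic (α : MulChar F ℂ) {g : SpecialLinearGroup (Fin 2) F} (hg : PSL2.IsEll (PSL2.tr g)) :
    YS α g = 0 := by
  rw [YS, Pi.mul_apply, PSS_eq, PS_eq_zero α 1 _ (noEigen_of_isEll hg), zero_mul]

theorem isClassFunction_stS_sub_one :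
    IsClassFunction (SpecialLinearGroup (Fin 2) F) (fun g => (stS (F := F)).1 g - 1) := fun g h => by
  show _ - 1 = _ - 1
  rw [IsCharacter.isClassFunction (irr_isCharacter (stS (F := F))) g h]

theorem YS_eq_indFun (α : MulChar F ℂ) :
    YS α = indFun (BS F) (fun b : BS F => thetaS α b * ((stS (F := F)).1 b - 1)) :=
  (indFun_mul_restrict (BS F) (thetaS α) isClassFunction_stS_sub_one).symm

theorem isGeneralized_YS (α : MulChar F ℂ) :
    IsGeneralizedCharacter (SpecialLinearGroup (Fin 2) F) (YS α) := by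
  refine IsGeneralizedCharacter.mul (IsCharacter.isGeneralized (isCharacter_PSS α)) ?_
  exact IsGeneralizedCharacter.sub (irr_isGeneralized stS)
    (irr_isGeneralized (trivialChar (SpecialLinearGroup (Fin 2) F)))

omit [Fintype F] [DecidableEq F] in
theorem bmkS_one_zero : (bmkS ((1 : Fˣ), (0 : F)) : SpecialLinearGroup (Fin 2) F) = 1 :=
  PSL2.ext2 (by simp [bmkS]) (by simp [bmkS]) (by simp [bmkS]) (by simp [bmkS])

omit [Fintype F] [DecidableEq F] in
theorem bmkS_neg_one_zero : (bmkS ((-1 : Fˣ), (0 : F)) : SpecialLinearGroup (Fin 2) F) = -1 :=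
  PSL2.ext2 (by simp [bmkS]) (by simp [bmkS]) (by simp [bmkS]) (by simp [bmkS])

omit [Fintype F] [DecidableEq F] in
theorem mulChar_neg_one_mul_self (α : MulChar F ℂ) : α (-1) * α (-1) = 1 := by
  rw [← map_mul, neg_one_mul, neg_neg, map_one]

omit [Fintype F] [DecidableEq F] in
theorem conj_mulChar_neg_one (α : MulChar F ℂ) : conj (α (-1)) = α (-1) := by
  rcases mul_self_eq_one_iff.1 (mulChar_neg_one_mul_self α) with h | h <;> simp [h]

theorem classInner_YS (h2 : (2 : F) ≠ 0) {f : SpecialLinearGroup (Fin 2) F → ℂ}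
    (hf : IsClassFunction (SpecialLinearGroup (Fin 2) F) f) (α : MulChar F ℂ) :
    (Fintype.card F : ℂ) * ((Fintype.card F : ℂ) - 1) * classInner f (YS α) =
      ((Fintype.card F : ℂ) * f 1 - ∑ b, f (bmkS ((1 : Fˣ), b) : SpecialLinearGroup (Fin 2) F)) +
        α (-1) * ((Fintype.card F : ℂ) * f (-1) - ∑ b, f (bmkS ((-1 : Fˣ), b) : SpecialLinearGroup (Fin 2) F)) := by
  classical
  have hq : (Fintype.card F : ℂ) * ((Fintype.card F : ℂ) - 1) = ((Nat.card (BS F) : ℕ) : ℂ) := by
    rw [card_BS, Nat.cast_mul, Nat.cast_sub (show 1 ≤ Fintype.card F from Fintype.card_pos), Nat.cast_one]; ring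
  rw [hq, YS_eq_indFun, classInner_indFun_right (BS F) _ hf, classInner, ← mul_assoc,
    mul_inv_cancel₀ card_ne_zero, one_mul, ← (Equiv.ofBijective _ (bmkS_bijective (F := F))).sum_comp,
    Fintype.sum_prod_type]
  simp only [Equiv.ofBijective_apply]
  have key : ∀ a : Fˣ, (a : F) ^ 2 = 1 →
      ∑ b : F, f (bmkS (a, b) : SpecialLinearGroup (Fin 2) F) *
        conj (thetaS α (bmkS (a, b)) * ((stS (F := F)).1 (bmkS (a, b) : SpecialLinearGroup (Fin 2) F) - 1)) =
      conj (α (a : F)) * ((Fintype.card F : ℂ) * f (bmkS (a, (0 : F)) : SpecialLinearGroup (Fin 2) F) -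
        ∑ b, f (bmkS (a, b) : SpecialLinearGroup (Fin 2) F)) := by
    intro a ha
    have e : ∀ b : F, f (bmkS (a, b) : SpecialLinearGroup (Fin 2) F) *
        conj (thetaS α (bmkS (a, b)) * ((stS (F := F)).1 (bmkS (a, b) : SpecialLinearGroup (Fin 2) F) - 1)) =
        conj (α (a : F)) * ((if b = 0 then (Fintype.card F : ℂ) * f (bmkS (a, b) : SpecialLinearGroup (Fin 2) F) else 0) -
          f (bmkS (a, b) : SpecialLinearGroup (Fin 2) F)) := by
      intro b
      rw [stS_bmkS, if_neg (not_not.2 ha), show thetaS α (bmkS (a, b)) = α (a : F) from rfl]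
      split_ifs <;> simp <;> ring
    rw [Finset.sum_congr rfl fun b _ => e b, ← Finset.mul_sum, Finset.sum_sub_distrib, Finset.sum_ite_eq',
      if_pos (Finset.mem_univ _)]
  rw [Finset.sum_eq_add (1 : Fˣ) (-1) (neg_one_units_ne_one h2).symm]
  · rw [key 1 (by simp), key (-1) (by simp), bmkS_one_zero, bmkS_neg_one_zero]
    simp [conj_mulChar_neg_one]
  · intro a _ ha
    refine Finset.sum_eq_zero fun b _ => ?_
    rw [stS_bmkS, if_pos]
    · simp
    · intro hsq
      rcases sq_eq_one_iff.1 hsq with h | h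
      · exact ha.1 (Units.ext h)
      · exact ha.2 (Units.ext (by simpa using h))
  · exact fun h => absurd (Finset.mem_univ _) h
  · exact fun h => absurd (Finset.mem_univ _) h

/-! ### A non-split torus -/

/-- A non-split torus. -/
structure Torus (C : Subgroup (SpecialLinearGroup (Fin 2) F)) : Prop where
  two_ne : (2 : F) ≠ 0
  card : Nat.card C = Fintype.card F + 1
  cyclic : IsCyclic C

variable {C : Subgroup (SpecialLinearGroup (Fin 2) F)}

theorem Torus.exists_gen (hC : Torus C) : ∃ c0 : C, PSL2.IsEll (PSL2.tr (c0 : SpecialLinearGroup (Fin 2) F)) ∧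
    C = PSL2.cent (c0 : SpecialLinearGroup (Fin 2) F) ∧ ∀ x : C, x ∈ Subgroup.zpowers c0 := by
  haveI := hC.cyclic
  obtain ⟨c0, h0⟩ := IsCyclic.exists_generator (α := C)
  have hq := PSL2.one_lt_q (F := F)
  have hord : orderOf c0 = Fintype.card F + 1 := by rw [orderOf_eq_card_of_forall_mem_zpowers h0, hC.card]
  have hnc : (c0 : SpecialLinearGroup (Fin 2) F) ∉ Subgroup.center (SpecialLinearGroup (Fin 2) F) := by
    intro hc
    have : Fintype.card F + 1 ≤ 2 := by
      rw [← hord, ← Subgroup.orderOf_coe]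
      rcases PSL2.mem_center_iff_pm.1 hc with h | h <;> rw [h]
      · simp
      · exact Nat.le_of_dvd two_pos (orderOf_dvd_of_pow_eq_one (by simp))
    omega
  have hle : C ≤ PSL2.cent (c0 : SpecialLinearGroup (Fin 2) F) := by
    intro x hx
    obtain ⟨i, hi⟩ := h0 ⟨x, hx⟩
    rw [PSL2.mem_cent, show x = (c0 : SpecialLinearGroup (Fin 2) F) ^ i by
      rw [← Subgroup.coe_zpow]; exact (congrArg Subtype.val hi).symm]
    exact (Commute.refl _).zpow_left i
  have hdvd := Subgroup.card_dvd_of_le hle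
  rw [hC.card] at hdvd
  have hcard : Nat.card (PSL2.cent (c0 : SpecialLinearGroup (Fin 2) F)) = Fintype.card F + 1 := by
    rcases PSL2.card_cent hnc with h | h | h
    · have := Nat.le_of_dvd (h ▸ Nat.card_pos) (h ▸ hdvd)
      omega
    · exfalso
      have hg : Nat.gcd 2 (Fintype.card F - 1) ≤ 2 := Nat.le_of_dvd two_pos (Nat.gcd_dvd_left _ _)
      rw [h] at hdvd
      have h' : Fintype.card F + 1 ∣ Nat.gcd 2 (Fintype.card F - 1) :=
        (Nat.Coprime.dvd_of_dvd_mul_right (by simp) hdvd)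
      have := Nat.le_of_dvd (Nat.gcd_pos_of_pos_left _ two_pos) h'
      omega
    · exact h
  refine ⟨c0, ?_, Subgroup.eq_of_le_of_card_ge hle (by rw [hcard, hC.card]), h0⟩
  rcases PSL2.trichotomy hnc with ⟨k, a, ha, h⟩ | ⟨k, s, hs, h⟩ | h
  · rw [h, PSL2.card_cent_conj, PSL2.cent_dd ha, PSL2.card_torus'] at hcard
    omega
  · exfalso
    have hg : Nat.gcd 2 (Fintype.card F - 1) ≤ 2 := Nat.le_of_dvd two_pos (Nat.gcd_dvd_left _ _)
    have hcard' : Nat.gcd 2 (Fintype.card F - 1) * Fintype.card F = Fintype.card F + 1 := by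
      rw [← hcard]
      rcases h with h | h <;> rw [h]
      · rw [PSL2.card_cent_conj, PSL2.cent_uu hs, PSL2.card_pmUnip]
      · rw [PSL2.cent_neg, PSL2.card_cent_conj, PSL2.cent_uu hs, PSL2.card_pmUnip]
    rcases Nat.lt_or_ge (Nat.gcd 2 (Fintype.card F - 1)) 2 with hl | hl
    · interval_cases hgg : Nat.gcd 2 (Fintype.card F - 1) <;> omega
    · rw [le_antisymm hg hl] at hcard'
      omega
  · exact h

theorem Torus.isEll (hC : Torus C) {c : SpecialLinearGroup (Fin 2) F} (hc : c ∈ C)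
    (hnc : c ∉ Subgroup.center (SpecialLinearGroup (Fin 2) F)) :
    PSL2.IsEll (PSL2.tr c) ∧ C = PSL2.cent c := by
  obtain ⟨c0, hell, hcent, -⟩ := hC.exists_gen
  rw [hcent] at hc ⊢
  exact ⟨hell.of_commute hnc (PSL2.mem_cent.1 hc),
    (PSL2.cent_eq_cent hell.not_mem_center hnc (PSL2.mem_cent.1 hc)).symm⟩

theorem Torus.center_le (hC : Torus C) : Subgroup.center (SpecialLinearGroup (Fin 2) F) ≤ C := by
  obtain ⟨c0, -, hcent, -⟩ := hC.exists_gen
  rw [hcent]
  exact PSL2.center_le_cent _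

theorem Torus.neg_one_mem (hC : Torus C) : (-1 : SpecialLinearGroup (Fin 2) F) ∈ C :=
  hC.center_le PSL2.neg_one_mem_center

/-- A homomorphism on `C` as a function. -/
noncomputable def homFun (φ : C →* ℂˣ) : C → ℂ := fun c => (φ c : ℂ)

theorem isGeneralized_homFun (φ : C →* ℂˣ) : IsGeneralizedCharacter C (homFun φ) :=
  IsCharacter.isGeneralized (IsIrrCharacter.isCharacter
    (isIrrCharacter_of_monoidHom ((Units.coeHom ℂ).comp φ)))

theorem Torus.indC_center (hC : Torus C) (φ : C →* ℂˣ) {z : SpecialLinearGroup (Fin 2) F}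
    (hz : z ∈ Subgroup.center (SpecialLinearGroup (Fin 2) F)) :
    indFun C (homFun φ) z = (φ ⟨z, hC.center_le hz⟩ : ℂ) * ((Fintype.card F : ℂ) * ((Fintype.card F : ℂ) - 1)) := by
  have e : ∀ x : SpecialLinearGroup (Fin 2) F, x⁻¹ * z * x = z := fun x => by
    rw [mul_assoc, ← Subgroup.mem_center_iff.1 hz x, inv_mul_cancel_left]
  simp only [indFun, e, extendByZero_of_mem C (homFun φ) (hC.center_le hz), Finset.sum_const, Finset.card_univ,
    nsmul_eq_mul, ← Nat.card_eq_fintype_card, PSL2.card_SL', hC.card]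
  rw [Nat.card_eq_fintype_card]
  have : ((Fintype.card F : ℂ) + 1) ≠ 0 := by exact_mod_cast Nat.succ_ne_zero (Fintype.card F)
  rw [Nat.cast_mul, Nat.cast_mul, Nat.cast_sub (show 1 ≤ Fintype.card F from Fintype.card_pos)]
  simp only [homFun]
  field_simp
  push_cast
  ring

theorem Torus.indC_noncentral (hC : Torus C) (φ : C →* ℂˣ) (c : C)
    (hnc : (c : SpecialLinearGroup (Fin 2) F) ∉ Subgroup.center (SpecialLinearGroup (Fin 2) F)) :
    indFun C (homFun φ) (c : SpecialLinearGroup (Fin 2) F) = (φ c : ℂ) + ((φ c)⁻¹ : ℂˣ) := by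
  classical
  obtain ⟨hell, hcent⟩ := hC.isEll c.2 hnc
  set g := (c : SpecialLinearGroup (Fin 2) F)
  have h4 := hell.sq_ne_four
  have hne : g⁻¹ ≠ g := PSL2.ne_inv_of_tr h4
  obtain ⟨w, hw⟩ := PSL2.exists_inverting h4
  have hval : ∀ x : SpecialLinearGroup (Fin 2) F, extendByZero C (homFun φ) (x⁻¹ * g * x) =
      (if x⁻¹ * g * x = g then (φ c : ℂ) else 0) + (if x⁻¹ * g * x = g⁻¹ then (((φ c)⁻¹ : ℂˣ) : ℂ) else 0) := by
    intro x
    by_cases hx : x⁻¹ * g * x ∈ C
    · have hc' : Commute (x⁻¹ * g * x) g := PSL2.mem_cent.1 (hcent ▸ hx)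
      have htr : PSL2.tr (x⁻¹ * g * x) = PSL2.tr g := by
        have := PSL2.tr_conj x⁻¹ g
        rwa [inv_inv] at this
      rcases PSL2.eq_or_eq_inv_of_tr_eq h4 hc' htr with h | h
      · rw [if_pos h, if_neg (by rw [h]; exact hne.symm), add_zero, extendByZero_of_mem C _ hx]
        exact congrArg (fun y => ((φ y : ℂˣ) : ℂ)) (Subtype.ext h)
      · rw [if_neg (by rw [h]; exact hne), if_pos h, zero_add, extendByZero_of_mem C _ hx, ← map_inv]
        exact congrArg (fun y => ((φ y : ℂˣ) : ℂ)) (Subtype.ext h)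
    · rw [extendByZero_of_notMem C _ hx, if_neg (fun h : x⁻¹ * g * x = g => hx (h.symm ▸ c.2)),
        if_neg (fun h : x⁻¹ * g * x = g⁻¹ => hx (h.symm ▸ C.inv_mem c.2)), add_zero]
  have h1 : (Finset.univ.filter fun x => x⁻¹ * g * x = g).card = Nat.card C := by
    rw [← Fintype.card_subtype, ← Nat.card_eq_fintype_card]
    refine Nat.card_congr (Equiv.subtypeEquivRight fun x => ?_)
    rw [hcent, PSL2.mem_cent, mul_assoc, inv_mul_eq_iff_eq_mul]
    exact ⟨fun h => h.symm, fun h => h.symm⟩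
  have h2 : (Finset.univ.filter fun x => x⁻¹ * g * x = g⁻¹).card = Nat.card C := by
    rw [← Fintype.card_subtype, ← Nat.card_eq_fintype_card]
    refine (Nat.card_congr ?_).symm
    refine (Equiv.mulRight w⁻¹).subtypeEquiv fun y => ?_
    have hw' : w⁻¹⁻¹ * g * w⁻¹ = g⁻¹ := by rwa [inv_inv]
    show y ∈ C ↔ (y * w⁻¹)⁻¹ * g * (y * w⁻¹) = g⁻¹
    rw [hcent, PSL2.mem_cent, ← hw', show (y * w⁻¹)⁻¹ * g * (y * w⁻¹) = w⁻¹⁻¹ * (y⁻¹ * g * y) * w⁻¹ by group,
      mul_right_cancel_iff, mul_left_cancel_iff, mul_assoc, inv_mul_eq_iff_eq_mul]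
    exact ⟨fun h => h.symm, fun h => h.symm⟩
  simp only [indFun, hval, Finset.sum_add_distrib, ← Finset.sum_filter, Finset.sum_const, h1, h2, nsmul_eq_mul]
  rw [← mul_add, ← mul_assoc, inv_mul_cancel₀ card_ne_zero, one_mul]

theorem Torus.indC_eq_zero (hC : Torus C) (φ : C →* ℂˣ) {g : SpecialLinearGroup (Fin 2) F}
    (hnc : g ∉ Subgroup.center (SpecialLinearGroup (Fin 2) F)) (hne : ¬ PSL2.IsEll (PSL2.tr g)) :
    indFun C (homFun φ) g = 0 := by
  refine indFun_eq_zero_of_forall_notMem C _ fun x hx => hne ?_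
  have hnc' : x⁻¹ * g * x ∉ Subgroup.center (SpecialLinearGroup (Fin 2) F) := fun h => hnc (by
    have := (inferInstance : (Subgroup.center (SpecialLinearGroup (Fin 2) F)).Normal).conj_mem _ h x
    simpa [mul_assoc] using this)
  have htr : PSL2.tr (x⁻¹ * g * x) = PSL2.tr g := by
    have := PSL2.tr_conj x⁻¹ g
    rwa [inv_inv] at this
  exact htr ▸ (hC.isEll hx hnc').1

/-- The virtual character attached to `α` and `φ`. -/
noncomputable def XC (C : Subgroup (SpecialLinearGroup (Fin 2) F)) (α : MulChar F ℂ) (φ : C →* ℂˣ) :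
    SpecialLinearGroup (Fin 2) F → ℂ :=
  YS α - indFun C (homFun φ)

theorem isGeneralized_XC (α : MulChar F ℂ) (φ : C →* ℂˣ) :
    IsGeneralizedCharacter (SpecialLinearGroup (Fin 2) F) (XC C α φ) :=
  IsGeneralizedCharacter.sub (isGeneralized_YS α) (isGeneralizedCharacter_indFun C (isGeneralized_homFun φ))

/-- `α` and `φ` agree on the centre. -/
def Torus.Compat (hC : Torus C) (α : MulChar F ℂ) (φ : C →* ℂˣ) : Prop :=
  α (-1) = (φ ⟨-1, hC.neg_one_mem⟩ : ℂ)

theorem Torus.exists_compat (hC : Torus C) (φ : C →* ℂˣ) : ∃ α, hC.Compat α φ := by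
  have h : (φ ⟨-1, hC.neg_one_mem⟩ : ℂ) * (φ ⟨-1, hC.neg_one_mem⟩ : ℂ) = 1 := by
    rw [← Units.val_mul, ← map_mul, show (⟨-1, hC.neg_one_mem⟩ * ⟨-1, hC.neg_one_mem⟩ : C) = 1 from
      Subtype.ext (show (-1 : SpecialLinearGroup (Fin 2) F) * -1 = 1 by simp), map_one, Units.val_one]
  rcases mul_self_eq_one_iff.1 h with h | h
  · exact ⟨1, show (1 : MulChar F ℂ) (-1) = _ by rw [h, MulChar.one_apply isUnit_one.neg]⟩
  · have hm : (-1 : F) ≠ 1 := fun e => hC.two_ne (by linear_combination -e)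
    obtain ⟨α, hα⟩ := MulChar.exists_apply_ne_one_of_hasEnoughRootsOfUnity F ℂ hm
    exact ⟨α, ((mul_self_eq_one_iff.1 (mulChar_neg_one_mul_self α)).resolve_left hα).trans h.symm⟩

theorem Torus.XC_one (hC : Torus C) (α : MulChar F ℂ) (φ : C →* ℂˣ) :
    XC C α φ 1 = (Fintype.card F : ℂ) - 1 := by
  rw [XC, Pi.sub_apply, hC.indC_center φ (Subgroup.one_mem _)]
  have h := YS_bmkS α 1 0
  rw [bmkS_one_zero] at h
  rw [h, show (⟨1, hC.center_le (Subgroup.one_mem _)⟩ : C) = 1 from rfl, map_one]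
  simp
  ring

theorem Torus.XC_neg_one (hC : Torus C) (α : MulChar F ℂ) (φ : C →* ℂˣ) (h : hC.Compat α φ) :
    XC C α φ (-1) = α (-1) * ((Fintype.card F : ℂ) - 1) := by
  rw [XC, Pi.sub_apply, hC.indC_center φ PSL2.neg_one_mem_center]
  have h' := YS_bmkS α (-1) 0
  rw [bmkS_neg_one_zero] at h'
  rw [h', ← h]
  simp
  ring

theorem Torus.XC_noncentral (hC : Torus C) (α : MulChar F ℂ) (φ : C →* ℂˣ) (c : C)
    (hnc : (c : SpecialLinearGroup (Fin 2) F) ∉ Subgroup.center (SpecialLinearGroup (Fin 2) F)) :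
    XC C α φ (c : SpecialLinearGroup (Fin 2) F) = -((φ c : ℂ) + ((φ c)⁻¹ : ℂˣ)) := by
  rw [XC, Pi.sub_apply, hC.indC_noncentral φ c hnc, YS_elliptic α (hC.isEll c.2 hnc).1, zero_sub]

theorem Torus.XC_borel (hC : Torus C) (α : MulChar F ℂ) (φ : C →* ℂˣ) (a : Fˣ) (b : F)
    (h : (a : F) ^ 2 ≠ 1 ∨ b ≠ 0) :
    XC C α φ (bmkS (a, b) : SpecialLinearGroup (Fin 2) F) = if (a : F) ^ 2 ≠ 1 then 0 else -α (a : F) := by
  rw [XC, Pi.sub_apply, YS_bmkS, hC.indC_eq_zero φ, sub_zero]
  · split_ifs with h1 h2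
    · rfl
    · exact absurd h2 (h.resolve_left h1)
    · rfl
  · intro hc
    rw [PSL2.mem_center_iff_entries] at hc
    rcases h with h | h
    · exact h (by rw [sq]; nth_rw 2 [show (a : F) = ((a⁻¹ : Fˣ) : F) from hc.2.2]; exact a.mul_inv)
    · exact h hc.1
  · intro he
    refine he (a : F) ?_
    rw [PSL2.tr_def]
    show (a : F) ^ 2 - ((a : F) + ((a⁻¹ : Fˣ) : F)) * a + 1 = 0
    linear_combination (-1 : F) * a.inv_mul

theorem Torus.XC_sum (hC : Torus C) (α : MulChar F ℂ) (φ : C →* ℂˣ) (h : hC.Compat α φ) :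
    (∑ b, XC C α φ (bmkS ((1 : Fˣ), b) : SpecialLinearGroup (Fin 2) F)) = 0 ∧
    (∑ b, XC C α φ (bmkS ((-1 : Fˣ), b) : SpecialLinearGroup (Fin 2) F)) = 0 := by
  constructor
  · rw [Fintype.sum_eq_add_sum_compl (0 : F), bmkS_one_zero, hC.XC_one,
      Finset.sum_congr rfl (g := fun _ => (-1 : ℂ)) fun b hb => by
        rw [hC.XC_borel α φ 1 b (Or.inr (by simpa using hb)), if_neg (by simp)]; simp,
      Finset.sum_const, Finset.card_compl, Finset.card_singleton, nsmul_eq_mul,
      Nat.cast_sub (show 1 ≤ Fintype.card F from Fintype.card_pos)]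
    push_cast
    ring
  · rw [Fintype.sum_eq_add_sum_compl (0 : F), bmkS_neg_one_zero, hC.XC_neg_one α φ h,
      Finset.sum_congr rfl (g := fun _ => -α (-1)) fun b hb => by
        rw [hC.XC_borel α φ (-1) b (Or.inr (by simpa using hb)), if_neg (by simp)]; simp,
      Finset.sum_const, Finset.card_compl, Finset.card_singleton, nsmul_eq_mul,
      Nat.cast_sub (show 1 ≤ Fintype.card F from Fintype.card_pos)]
    push_cast
    ring

theorem q_sub_one_ne_zero : (Fintype.card F : ℂ) - 1 ≠ 0 := fun h =>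
  one_lt_q (F := F) (sub_eq_zero.1 h).symm

variable [Fintype C]

open scoped Classical in
theorem Torus.card_pm (hC : Torus C) : (Finset.univ.filter fun c : C =>
    (c : SpecialLinearGroup (Fin 2) F) = 1 ∨ (c : SpecialLinearGroup (Fin 2) F) = -1).card = 2 := by
  rw [show (Finset.univ.filter fun c : C =>
    (c : SpecialLinearGroup (Fin 2) F) = 1 ∨ (c : SpecialLinearGroup (Fin 2) F) = -1) =
      {1, ⟨-1, hC.neg_one_mem⟩} by
    ext c
    simp only [Finset.mem_filter, Finset.mem_univ, true_and, Finset.mem_insert, Finset.mem_singleton,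
      Subtype.ext_iff, OneMemClass.coe_one], Finset.card_pair]
  exact fun e => PSL2.neg_one_ne_one hC.two_ne (congrArg Subtype.val e).symm

theorem Torus.classInner_XC (hC : Torus C) {f : SpecialLinearGroup (Fin 2) F → ℂ}
    (hf : IsClassFunction (SpecialLinearGroup (Fin 2) F) f) (α : MulChar F ℂ) (φ : C →* ℂˣ) :
    classInner f (XC C α φ) = classInner f (YS α) -
      ((Fintype.card F : ℂ) + 1)⁻¹ * ∑ c : C, f c * ((φ c)⁻¹ : ℂˣ) := by
  rw [XC, classInner_sub_right, classInner_indFun_right C _ hf]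
  have : classInner (fun c : C => f c) (homFun φ) =
      ((Fintype.card F : ℂ) + 1)⁻¹ * ∑ c : C, f c * ((φ c)⁻¹ : ℂˣ) := by
    rw [classInner, hC.card, Nat.cast_add, Nat.cast_one]
    congr 1
    refine Finset.sum_congr rfl fun c _ => ?_
    rw [← conj_hom_apply]
    rfl
  rw [this]

open scoped Classical in
theorem Torus.classInner_XC_self (hC : Torus C) (α : MulChar F ℂ) (φ : C →* ℂˣ) (h : hC.Compat α φ) :
    classInner (XC C α φ) (XC C α φ) =
      if ∀ c, φ c ^ 2 = 1 then 2 else 1 := by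
  classical
  have hX := IsGeneralizedCharacter.isClassFunction (isGeneralized_XC (C := C) α φ)
  have hq : (Fintype.card F : ℂ) ≠ 0 := by exact_mod_cast Fintype.card_ne_zero
  have hq1 : ((Fintype.card F : ℂ) + 1) ≠ 0 := by exact_mod_cast Nat.succ_ne_zero (Fintype.card F)
  have hY : classInner (XC C α φ) (YS α) = 2 := by
    have h1 := classInner_YS hC.two_ne hX α
    rw [(hC.XC_sum α φ h).1, (hC.XC_sum α φ h).2, hC.XC_one, hC.XC_neg_one α φ h] at h1
    have h2 : α (-1) * α (-1) = 1 := mulChar_neg_one_mul_self α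
    refine mul_left_cancel₀ (mul_ne_zero hq (q_sub_one_ne_zero (F := F))) ?_
    linear_combination h1 + (Fintype.card F : ℂ) * ((Fintype.card F : ℂ) - 1) * h2
  have hc : ∀ c : C, XC C α φ c = -((φ c : ℂ) + ((φ c)⁻¹ : ℂˣ)) +
      if (c : SpecialLinearGroup (Fin 2) F) = 1 ∨ (c : SpecialLinearGroup (Fin 2) F) = -1 then
        ((Fintype.card F : ℂ) + 1) * (φ c : ℂ) else 0 := by
    intro c
    split_ifs with hz
    · have hcc : φ c * φ c = 1 := by
        rw [← map_mul, show c * c = 1 from Subtype.ext (by rcases hz with hz | hz <;> simp [hz]), map_one]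
      rw [inv_eq_of_mul_eq_one_right hcc]
      rcases hz with hz | hz
      · rw [hz, hC.XC_one, show c = 1 from Subtype.ext hz, map_one, Units.val_one]
        ring
      · rw [hz, hC.XC_neg_one α φ h, h, show c = ⟨-1, hC.neg_one_mem⟩ from Subtype.ext hz]
        ring
    · rw [hC.XC_noncentral α φ c fun hh => hz (PSL2.mem_center_iff_pm.1 hh), add_zero]
  have hpm := hC.card_pm
  let ψ : C →* ℂ :=
    { toFun := fun c => (((φ c)⁻¹ : ℂˣ) : ℂ) * (((φ c)⁻¹ : ℂˣ) : ℂ)
      map_one' := by simp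
      map_mul' := fun c d => by rw [map_mul, _root_.mul_inv, Units.val_mul]; ring }
  have hsum : ∑ c : C, ψ c = if ∀ c, φ c ^ 2 = 1 then (Fintype.card F : ℂ) + 1 else 0 := by
    split_ifs with hall
    · rw [Finset.sum_congr rfl (g := fun _ => (1 : ℂ)) fun c _ => by
        show (((φ c)⁻¹ : ℂˣ) : ℂ) * (((φ c)⁻¹ : ℂˣ) : ℂ) = 1
        rw [← Units.val_mul, ← _root_.mul_inv, ← sq, hall c, inv_one, Units.val_one], Finset.sum_const,
        Finset.card_univ, ← Nat.card_eq_fintype_card, hC.card]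
      simp
    · refine sum_hom_units_eq_zero ψ fun e => hall fun c => ?_
      have := DFunLike.congr_fun e c
      rw [show ψ c = ((((φ c) ^ 2)⁻¹ : ℂˣ) : ℂ) by
        rw [sq, _root_.mul_inv, Units.val_mul]; rfl, MonoidHom.one_apply, Units.val_eq_one,
        inv_eq_one] at this
      exact this
  have hS : ∑ c : C, XC C α φ c * ((φ c)⁻¹ : ℂˣ) = -((Fintype.card F : ℂ) + 1) - (∑ c : C, ψ c) +
      2 * ((Fintype.card F : ℂ) + 1) := by
    simp only [hc, add_mul, neg_mul, Finset.sum_add_distrib, Finset.sum_neg_distrib, Units.mul_inv, ite_mul,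
      zero_mul, ← Finset.sum_filter, Finset.sum_const, Finset.card_univ, ← Nat.card_eq_fintype_card, hC.card,
      mul_assoc, mul_one, hpm]
    simp [ψ]
    ring
  rw [hC.classInner_XC hX, hY, hS, hsum]
  split_ifs <;> field_simp <;> ring

theorem Torus.isIrr_XC (hC : Torus C) (α : MulChar F ℂ) (φ : C →* ℂˣ) (h : hC.Compat α φ)
    (h2 : ¬ ∀ c, φ c ^ 2 = 1) : IsIrrCharacter (SpecialLinearGroup (Fin 2) F) (XC C α φ) := by
  obtain ⟨ψ, e | e⟩ := IsGeneralizedCharacter.irr_or_neg_of_norm_one (isGeneralized_XC (C := C) α φ)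
    (by rw [hC.classInner_XC_self α φ h, if_neg h2])
  · exact e ▸ ψ.2
  · exfalso
    have h1 := congrFun e 1
    rw [hC.XC_one, Pi.neg_apply, apply_one_eq_degree] at h1
    have hq := Fintype.one_lt_card (α := F)
    have : ((Fintype.card F - 1 + degree ψ : ℕ) : ℂ) = ((0 : ℕ) : ℂ) := by
      push_cast [Nat.cast_sub hq.le]
      linear_combination h1
    have := Nat.cast_injective this
    omega

/-- `XC 1 1` is the Steinberg character minus the trivial one. -/
theorem Torus.XC_trivial (hC : Torus C) :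
    XC C 1 1 = (stS (F := F)).1 - (trivialChar (SpecialLinearGroup (Fin 2) F)).1 := by
  classical
  have hq : (Fintype.card F : ℂ) ≠ 0 := by exact_mod_cast Fintype.card_ne_zero
  have hq1 : ((Fintype.card F : ℂ) + 1) ≠ 0 := by exact_mod_cast Nat.succ_ne_zero (Fintype.card F)
  have hc : hC.Compat 1 1 := show (1 : MulChar F ℂ) (-1) = ((1 : C →* ℂˣ) _ : ℂ) by
    rw [MulChar.one_apply isUnit_one.neg, MonoidHom.one_apply, Units.val_one]
  have hX := hC.classInner_XC_self 1 1 hc
  rw [if_pos fun c => by simp] at hX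
  have h1 : classInner (trivialChar (SpecialLinearGroup (Fin 2) F)).1 (XC C 1 1) = -1 := by
    have hY := classInner_YS hC.two_ne (IsCharacter.isClassFunction (irr_isCharacter
      (trivialChar (SpecialLinearGroup (Fin 2) F)))) 1
    simp only [trivialChar_apply, mul_one, Finset.sum_const, Finset.card_univ, nsmul_eq_mul, sub_self,
      mul_zero, add_zero, mul_eq_zero, hq, q_sub_one_ne_zero, or_self, false_or] at hY
    rw [hC.classInner_XC (IsCharacter.isClassFunction (irr_isCharacter _)), hY]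
    simp only [trivialChar_apply, MonoidHom.one_apply, inv_one, Units.val_one, mul_one, Finset.sum_const,
      Finset.card_univ, ← Nat.card_eq_fintype_card, hC.card, nsmul_eq_mul]
    push_cast
    field_simp
    ring
  have h2 : classInner (stS (F := F)).1 (XC C 1 1) = 1 := by
    have hY := classInner_YS hC.two_ne (IsCharacter.isClassFunction (irr_isCharacter (stS (F := F)))) 1
    have e1 : ∀ a : Fˣ, (a : F) ^ 2 = 1 →
        ∑ b, (stS (F := F)).1 (bmkS (a, b) : SpecialLinearGroup (Fin 2) F) = (Fintype.card F : ℂ) := by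
      intro a ha
      simp only [stS_bmkS, ha, ne_eq, not_true_eq_false, if_false, Finset.sum_ite_eq', Finset.mem_univ, if_true]
    have e2 : (stS (F := F)).1 (-1) = (Fintype.card F : ℂ) := by
      rw [← bmkS_neg_one_zero, stS_bmkS, if_neg (by simp), if_pos rfl]
    rw [e1 1 (by simp), e1 (-1) (by simp), stS_apply_one, e2, MulChar.one_apply isUnit_one.neg, one_mul] at hY
    have hY2 : classInner (stS (F := F)).1 (YS 1) = 2 :=
      mul_left_cancel₀ (mul_ne_zero hq (q_sub_one_ne_zero (F := F))) (by linear_combination hY)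
    rw [hC.classInner_XC (IsCharacter.isClassFunction (irr_isCharacter _)), hY2]
    have e3 : ∀ c : C, (stS (F := F)).1 c = if (c : SpecialLinearGroup (Fin 2) F) = 1 ∨
        (c : SpecialLinearGroup (Fin 2) F) = -1 then (Fintype.card F : ℂ) else -1 := by
      intro c
      split_ifs with hz
      · rcases hz with hz | hz <;> rw [hz]
        · exact stS_apply_one
        · exact e2
      · exact stS_elliptic _ (noEigen_of_isEll (hC.isEll c.2 fun hh => hz (PSL2.mem_center_iff_pm.1 hh)).1)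
    have hpm := hC.card_pm
    have hsum : ∑ c : C, (stS (F := F)).1 c = (Fintype.card F : ℂ) + 1 := by
      have : ∀ c : C, (stS (F := F)).1 c = -1 + if (c : SpecialLinearGroup (Fin 2) F) = 1 ∨
          (c : SpecialLinearGroup (Fin 2) F) = -1 then (Fintype.card F : ℂ) + 1 else 0 := fun c => by
        rw [e3]; split_ifs <;> ring
      simp only [this, Finset.sum_add_distrib, ← Finset.sum_filter, Finset.sum_const, hpm, Finset.card_univ,
        ← Nat.card_eq_fintype_card, hC.card, nsmul_eq_mul]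
      push_cast
      ring
    simp only [MonoidHom.one_apply, inv_one, Units.val_one, mul_one, hsum]
    field_simp
    ring
  have hne : (stS (F := F)).1 ≠ (trivialChar (SpecialLinearGroup (Fin 2) F)).1 := fun e => by
    have e' := congrFun e 1
    rw [trivialChar_apply, stS_apply_one] at e'
    exact one_lt_q e'.symm
  have h1' : classInner (XC C 1 1) (trivialChar (SpecialLinearGroup (Fin 2) F)).1 = -1 := by
    rw [← conj_classInner, h1, map_neg, map_one]
  have h2' : classInner (XC C 1 1) (stS (F := F)).1 = 1 := by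
    rw [← conj_classInner, h2, map_one]
  refine sub_eq_zero.1 (classInner_self_eq_zero ?_)
  simp only [classInner_sub_left, classInner_sub_right, hX, h1, h2,
    classInner_irr_self (stS (F := F)).2, classInner_irr_self (trivialChar _).2,
    classInner_irr_of_ne stS.2 (trivialChar _).2 hne, classInner_irr_of_ne (trivialChar _).2 stS.2 (Ne.symm hne),
    h1', h2']
  norm_num

theorem Torus.exists_quadratic (hC : Torus C) : ∃ φ₀ : C →* ℂˣ, (∀ c, φ₀ c ^ 2 = 1) ∧
    (∀ c : C, φ₀ c = 1 ↔ (c : SpecialLinearGroup (Fin 2) F) ^ ((Fintype.card F + 1) / 2) = 1) ∧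
    ∀ φ : C →* ℂˣ, (∀ c, φ c ^ 2 = 1) → φ = 1 ∨ φ = φ₀ := by
  obtain ⟨c0, -, -, hgen⟩ := hC.exists_gen
  have hord : orderOf c0 = Fintype.card F + 1 := by rw [orderOf_eq_card_of_forall_mem_zpowers hgen, hC.card]
  obtain ⟨m, hm⟩ : ∃ m, Fintype.card F + 1 = 2 * m := by
    have h : Nat.card (Subgroup.center (SpecialLinearGroup (Fin 2) F)) ∣ Nat.card C :=
      Subgroup.card_dvd_of_le hC.center_le
    have h2 : Nat.card (Subgroup.center (SpecialLinearGroup (Fin 2) F)) = 2 := by
      rw [Nat.card_eq_two_iff]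
      refine ⟨1, ⟨-1, PSL2.neg_one_mem_center⟩, fun e => PSL2.neg_one_ne_one hC.two_ne
        (congrArg Subtype.val e).symm, ?_⟩
      ext x
      simp only [Set.mem_insert_iff, Set.mem_singleton_iff, Set.mem_univ, iff_true, Subtype.ext_iff]
      exact PSL2.mem_center_iff_pm.1 x.2
    rw [h2, hC.card] at h
    exact h
  have hdvd : orderOf (-1 : ℂˣ) ∣ orderOf c0 := by
    rw [hord, hm]
    exact dvd_mul_of_dvd_left (orderOf_dvd_of_pow_eq_one (by simp)) m
  let φ₀ : C →* ℂˣ := monoidHomOfForallMemZpowers hgen hdvd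
  have h0 : φ₀ c0 = -1 := monoidHomOfForallMemZpowers_apply_gen hgen hdvd
  have hpow : ∀ c : C, ∃ i : ℤ, c = c0 ^ i := fun c =>
    let ⟨i, hi⟩ := Subgroup.mem_zpowers_iff.1 (hgen c)
    ⟨i, hi.symm⟩
  refine ⟨φ₀, fun c => ?_, fun c => ?_, fun φ hφ => ?_⟩
  · obtain ⟨i, rfl⟩ := hpow c
    rw [map_zpow, h0, ← zpow_natCast, ← _root_.zpow_mul, _root_.zpow_mul']
    simp
  · obtain ⟨i, rfl⟩ := hpow c
    rw [map_zpow, h0, ← Subgroup.coe_pow, ← zpow_natCast, ← _root_.zpow_mul, hm,
      Nat.mul_div_cancel_left _ two_pos, OneMemClass.coe_eq_one]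
    have hneg : orderOf (-1 : ℂˣ) = 2 := orderOf_eq_prime (by simp) (fun h => by
      have := congrArg Units.val h
      norm_num at this)
    rw [← orderOf_dvd_iff_zpow_eq_one, ← orderOf_dvd_iff_zpow_eq_one, hord, hm, hneg, Nat.cast_mul, Nat.cast_ofNat]
    have hm0 : (m : ℤ) ≠ 0 := by omega
    exact (mul_dvd_mul_iff_right hm0).symm
  · have hc0 : (φ c0 : ℂ) * (φ c0 : ℂ) = 1 := by rw [← Units.val_mul, ← sq, hφ, Units.val_one]
    rcases mul_self_eq_one_iff.1 hc0 with h | h
    · left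
      refine MonoidHom.ext fun c => ?_
      obtain ⟨i, rfl⟩ := hpow c
      rw [map_zpow, Units.ext (h.trans Units.val_one.symm), _root_.one_zpow, MonoidHom.one_apply]
    · right
      refine MonoidHom.ext fun c => ?_
      obtain ⟨i, rfl⟩ := hpow c
      rw [map_zpow, map_zpow, h0]
      congr 1
      exact Units.ext (by simpa using h)

theorem sum_bmkS_neg (θ : IrrCharacter (SpecialLinearGroup (Fin 2) F)) (h : IsCuspS θ) :
    (∑ b, θ.1 (bmkS ((1 : Fˣ), b) : SpecialLinearGroup (Fin 2) F)) = 0 ∧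
    (∑ b, θ.1 (bmkS ((-1 : Fˣ), b) : SpecialLinearGroup (Fin 2) F)) = 0 := by
  refine ⟨h.sum_unipotent, ?_⟩
  refine (mul_eq_zero.1 ?_).resolve_left (IsIrrCharacter.apply_one_ne_zero θ.2)
  rw [Finset.mul_sum]
  have e : ∀ b : F, θ.1 1 * θ.1 (bmkS ((-1 : Fˣ), b) : SpecialLinearGroup (Fin 2) F) =
      θ.1 (-1) * θ.1 (bmkS ((1 : Fˣ), -b) : SpecialLinearGroup (Fin 2) F) := by
    intro b
    rw [← center_mul_apply θ PSL2.neg_one_mem_center]
    refine congrArg (fun y => θ.1 1 * θ.1 y) ?_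
    rw [neg_one_mul]
    apply PSL2.ext2 <;> simp [Matrix.SpecialLinearGroup.coe_neg, coe_bmkS]
  rw [Finset.sum_congr rfl fun b _ => e b, ← Finset.mul_sum]
  refine mul_eq_zero_of_right _ (Eq.trans ?_ h.sum_unipotent)
  exact Fintype.sum_equiv (Equiv.neg F) _ _ fun b => rfl

/-- The multiplicity of a character of the torus in a cuspidal character. -/
theorem Torus.classInner_cusp (hC : Torus C) (θ : IrrCharacter (SpecialLinearGroup (Fin 2) F))
    (h : IsCuspS θ) (α : MulChar F ℂ) (φ : C →* ℂˣ) (hc : hC.Compat α φ) :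
    classInner θ.1 (XC C α φ) =
      (θ.1 1 + (φ ⟨-1, hC.neg_one_mem⟩ : ℂ) * θ.1 (-1)) / ((Fintype.card F : ℂ) - 1) -
        ((Fintype.card F : ℂ) + 1)⁻¹ * ∑ c : C, θ.1 c * ((φ c)⁻¹ : ℂˣ) := by
  have hf := IsCharacter.isClassFunction (irr_isCharacter θ)
  have hY := classInner_YS hC.two_ne hf α
  rw [(sum_bmkS_neg θ h).1, (sum_bmkS_neg θ h).2] at hY
  have hq : (Fintype.card F : ℂ) ≠ 0 := by exact_mod_cast Fintype.card_ne_zero
  rw [hC.classInner_XC hf, ← hc]
  congr 1
  rw [eq_div_iff (q_sub_one_ne_zero (F := F))]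
  exact mul_left_cancel₀ hq (by linear_combination hY)

/-- Fourier inversion on the torus for a cuspidal character. -/
theorem Torus.cusp_values (hC : Torus C) (θ : IrrCharacter (SpecialLinearGroup (Fin 2) F))
    (h : IsCuspS θ) (φ₀ : C →* ℂˣ) (h0 : φ₀ ≠ 1) (hquad : ∀ φ : C →* ℂˣ, (∀ c, φ c ^ 2 = 1) → φ = 1 ∨ φ = φ₀)
    (horth : ∀ φ : C →* ℂˣ, ∀ α, hC.Compat α φ → ¬ (∀ c, φ c ^ 2 = 1) → classInner θ.1 (XC C α φ) = 0) :
    (∀ c : C, (c : SpecialLinearGroup (Fin 2) F) ∉ Subgroup.center (SpecialLinearGroup (Fin 2) F) →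
      θ.1 c = -2 * θ.1 1 / ((Fintype.card F : ℂ) - 1) * (φ₀ c : ℂ)) ∧
    ∀ α, hC.Compat α φ₀ → classInner θ.1 (XC C α φ₀) = 2 * θ.1 1 / ((Fintype.card F : ℂ) - 1) := by
  classical
  have hne : ∀ φ : C →* ℂˣ, φ ≠ φ₀ → ∀ α, hC.Compat α φ → classInner θ.1 (XC C α φ) = 0 := by
    intro φ hφ α hα
    by_cases h2 : ∀ c, φ c ^ 2 = 1
    · obtain rfl := (hquad φ h2).resolve_right hφ
      have hst : θ ≠ stS := fun e => by
        have h1 := h 1
        rw [e, show PSS (1 : MulChar F ℂ) = (trivialChar (SpecialLinearGroup (Fin 2) F)).1 + (stS (F := F)).1 from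
          (add_sub_cancel _ _).symm, classInner_add_right, classInner_irr_self stS.2,
          classInner_irr_of_ne stS.2 (trivialChar _).2 fun e => by
            have e' := congrFun e 1
            rw [trivialChar_apply, stS_apply_one] at e'
            exact one_lt_q e'.symm, zero_add] at h1
        exact one_ne_zero h1
      have htr : θ ≠ trivialChar (SpecialLinearGroup (Fin 2) F) := fun e => by
        have h1 := h 1
        rw [e, ← conj_classInner, show (trivialChar (SpecialLinearGroup (Fin 2) F)).1 = fun _ => (1 : ℂ) from funext fun _ => rfl,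
          classInner_PSS_one_trivial, if_pos rfl, map_one] at h1
        exact one_ne_zero h1
      have hα1 : α (-1) = 1 := by rw [hα, MonoidHom.one_apply, Units.val_one]
      have hX : classInner θ.1 (XC C 1 1) = 0 := by
        rw [hC.XC_trivial, classInner_sub_right, classInner_irr_of_ne θ.2 stS.2 fun e => hst (Subtype.ext e),
          classInner_irr_of_ne θ.2 (trivialChar _).2 fun e => htr (Subtype.ext e), sub_zero]
      rw [hC.classInner_cusp θ h α 1 hα]
      rw [hC.classInner_cusp θ h 1 1 (show (1 : MulChar F ℂ) (-1) = ((1 : C →* ℂˣ) _ : ℂ) by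
        rw [MulChar.one_apply isUnit_one.neg, MonoidHom.one_apply, Units.val_one])] at hX
      exact hX
    · exact horth φ α hα h2
  obtain ⟨α₀, hα₀⟩ := hC.exists_compat φ₀
  set K := -classInner θ.1 (XC C α₀ φ₀) with hK
  set q := (Fintype.card F : ℂ) with hqdef
  have hq1 : q + 1 ≠ 0 := by rw [hqdef]; exact_mod_cast Nat.succ_ne_zero (Fintype.card F)
  let D : C → ℂ := fun c => θ.1 c - K * (φ₀ c : ℂ) -
    (if c = 1 then θ.1 1 * (q + 1) / (q - 1) else 0) -
    (if c = ⟨-1, hC.neg_one_mem⟩ then θ.1 (-1) * (q + 1) / (q - 1) else 0)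
  haveI := hC.cyclic
  have hcomm : ∀ a b : C, a * b = b * a := fun a b => (IsCyclic.commGroup (α := C)).mul_comm a b
  have hD : D = 0 := by
    refine eq_zero_of_classInner_irr (fun a b => ?_) fun ψ => ?_
    · rw [hcomm b a, mul_inv_cancel_right]
    obtain ⟨lam, hlam⟩ := IsCharacter.exists_monoidHom (irr_isCharacter ψ) (apply_one_of_comm hcomm ψ)
    have hl : ∀ c, ψ.1 c = (lam.toHomUnits c : ℂ) := fun c => by
      rw [← hlam, MonoidHom.coe_toHomUnits]
    set φ := lam.toHomUnits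
    obtain ⟨α, hα⟩ := hC.exists_compat φ
    have hI := hC.classInner_cusp θ h α φ hα
    have e0 : ∀ c, conj (ψ.1 c) = ((φ c)⁻¹ : ℂˣ) := fun c => by rw [hl, conj_hom_apply]
    have hsum : ∑ c : C, (φ₀ c : ℂ) * ((φ c)⁻¹ : ℂˣ) = if φ = φ₀ then q + 1 else 0 := by
      split_ifs with he
      · rw [he]
        simp [← Nat.card_eq_fintype_card, hC.card, hqdef]
      · let χ : C →* ℂ :=
          { toFun := fun c => (φ₀ c : ℂ) * (((φ c)⁻¹ : ℂˣ) : ℂ)
            map_one' := by simp
            map_mul' := fun c d => by rw [map_mul, map_mul, _root_.mul_inv, Units.val_mul, Units.val_mul]; ring }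
        refine sum_hom_units_eq_zero χ fun e => he (MonoidHom.ext fun c => ?_)
        have := DFunLike.congr_fun e c
        simp only [χ, MonoidHom.coe_mk, OneHom.coe_mk, MonoidHom.one_apply, ← Units.val_mul,
          Units.val_eq_one, mul_inv_eq_one] at this
        exact this.symm
    simp only [classInner, e0, D, sub_mul, ite_mul, zero_mul, Finset.sum_sub_distrib, mul_assoc,
      ← Finset.mul_sum, hsum, Finset.sum_ite_eq', Finset.mem_univ, if_true, map_one, inv_one, Units.val_one]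
    have hm1 : (((φ ⟨-1, hC.neg_one_mem⟩)⁻¹ : ℂˣ) : ℂ) = (φ ⟨-1, hC.neg_one_mem⟩ : ℂ) := by
      rw [inv_eq_of_mul_eq_one_right]
      rw [← map_mul, show (⟨-1, hC.neg_one_mem⟩ * ⟨-1, hC.neg_one_mem⟩ : C) = 1 from
        Subtype.ext (show (-1 : SpecialLinearGroup (Fin 2) F) * -1 = 1 by simp), map_one]
    rw [hm1, hC.card, Nat.cast_add, Nat.cast_one]
    rw [← hqdef] at hI
    have hs : (∑ c : C, θ.1 c * ((φ c)⁻¹ : ℂˣ)) =
        (q + 1) * ((θ.1 1 + (φ ⟨-1, hC.neg_one_mem⟩ : ℂ) * θ.1 (-1)) / (q - 1) - classInner θ.1 (XC C α φ)) := by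
      rw [hI, sub_sub_cancel, ← mul_assoc, mul_inv_cancel₀ hq1, one_mul]
    rw [hs]
    have hq0 := q_sub_one_ne_zero (F := F)
    rw [← hqdef] at hq0
    by_cases he : φ = φ₀
    · rw [if_pos he]
      have hXX : classInner θ.1 (XC C α φ) = classInner θ.1 (XC C α₀ φ₀) := by
        subst he
        rw [hC.classInner_cusp θ h α _ hα, hC.classInner_cusp θ h α₀ _ hα₀]
      rw [hXX, hK]
      field_simp
      ring
    · rw [if_neg he, hne φ he α hα]
      field_simp
      ring
  have hKv : K = -2 * θ.1 1 / (q - 1) := by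
    have := congrFun hD 1
    simp only [D, if_true, map_one, Units.val_one, mul_one, Pi.zero_apply] at this
    rw [if_neg fun e => PSL2.neg_one_ne_one hC.two_ne (congrArg Subtype.val e).symm] at this
    have hq0 := q_sub_one_ne_zero (F := F)
    rw [← hqdef] at hq0
    field_simp at this ⊢
    simp only [OneMemClass.coe_one] at this
    linear_combination -this
  refine ⟨fun c hc => ?_, fun α hα => ?_⟩
  · have := congrFun hD c
    simp only [D, Pi.zero_apply] at this
    rw [if_neg fun e => hc (by rw [e]; exact Subgroup.one_mem _), if_neg fun e => hc (by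
      rw [e]; exact PSL2.neg_one_mem_center)] at this
    rw [← hKv]
    linear_combination this
  · rw [show classInner θ.1 (XC C α φ₀) = classInner θ.1 (XC C α₀ φ₀) by
      rw [hC.classInner_cusp θ h α _ hα, hC.classInner_cusp θ h α₀ _ hα₀]]
    rw [hK, neg_eq_iff_eq_neg] at hKv
    rw [hKv]
    ring

end Cfsg.Agent.GL2Char
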