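import Cfsg.Agent.Lib.GL2Char.Principal

/-!
The conjugacy classes of `GL₂` over a field: scalars, and one class for each trace and determinant.
-/

set_option autoImplicit false

namespace Cfsg.Agent.GL2Char

open Matrix
open scoped MatrixGroups

variable {F : Type*} [Field F]

/-- Scalar element. -/
def scal (z : Fˣ) : GL (Fin 2) F := mk2 z 0 0 z (by simp)

/-- The companion element with given trace and determinant. -/
def comp2 (t : F) (d : Fˣ) : GL (Fin 2) F := mk2 0 (-(d : F)) 1 t (by simp)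

theorem eq_scal_of_isConj {z : Fˣ} {h : GL (Fin 2) F} (hc : IsConj (scal z) h) : h = scal z := by
  obtain ⟨c, hc⟩ := isConj_iff.1 hc
  rw [← hc, mul_inv_eq_iff_eq_mul]
  exact ext2 (by simp [scal, mul_apply, mul_comm]) (by simp [scal, mul_apply, mul_comm])
    (by simp [scal, mul_apply, mul_comm]) (by simp [scal, mul_apply, mul_comm])

theorem invariants_of_isConj {g h : GL (Fin 2) F} (hc : IsConj g h) :
    (g : Matrix (Fin 2) (Fin 2) F).trace = (h : Matrix (Fin 2) (Fin 2) F).trace ∧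
      (g : Matrix (Fin 2) (Fin 2) F).det = (h : Matrix (Fin 2) (Fin 2) F).det := by
  obtain ⟨c, rfl⟩ := isConj_iff.1 hc
  simp only [GeneralLinearGroup.coe_mul]
  exact ⟨(trace_units_conj c _).symm, (det_units_conj c _).symm⟩

theorem isConj_comp2 (g : GL (Fin 2) F)
    (h : ¬ ((g : Matrix (Fin 2) (Fin 2) F) 0 1 = 0 ∧ (g : Matrix (Fin 2) (Fin 2) F) 1 0 = 0 ∧
      (g : Matrix (Fin 2) (Fin 2) F) 0 0 = (g : Matrix (Fin 2) (Fin 2) F) 1 1)) :
    IsConj (comp2 ((g : Matrix (Fin 2) (Fin 2) F) 0 0 + (g : Matrix (Fin 2) (Fin 2) F) 1 1)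
      (GeneralLinearGroup.det g)) g := by
  set a := (g : Matrix (Fin 2) (Fin 2) F) 0 0 with ha
  set b := (g : Matrix (Fin 2) (Fin 2) F) 0 1 with hb
  set c := (g : Matrix (Fin 2) (Fin 2) F) 1 0 with hc
  set d := (g : Matrix (Fin 2) (Fin 2) F) 1 1 with hd
  obtain ⟨v, w, hvw⟩ : ∃ v w : F, v * (c * v + d * w) - (a * v + b * w) * w ≠ 0 := by
    by_cases hc0 : c = 0
    · by_cases hb0 : b = 0
      · refine ⟨1, 1, ?_⟩
        rw [hc0, hb0]
        simpa [sub_eq_zero] using fun e : d = a => h ⟨hb0, hc0, e.symm⟩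
      · exact ⟨0, 1, by simpa using hb0⟩
    · exact ⟨1, 0, by simpa using hc0⟩
  refine isConj_iff.2 ⟨mk2 v (a * v + b * w) w (c * v + d * w) hvw, ?_⟩
  rw [mul_inv_eq_iff_eq_mul]
  apply ext2 <;>
    simp [comp2, mul_apply, det_fin_two, ← ha, ← hb, ← hc, ← hd] <;> ring

/-- Representatives of the conjugacy classes. -/
def classRep : Fˣ ⊕ F × Fˣ → GL (Fin 2) F
  | Sum.inl z => scal z
  | Sum.inr p => comp2 p.1 p.2

theorem classRep_bijective :
    Function.Bijective fun i : Fˣ ⊕ F × Fˣ => ConjClasses.mk (classRep i) := by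
  constructor
  · rintro i j h
    have h := ConjClasses.mk_eq_mk_iff_isConj.1 h
    rcases i with z | ⟨t, d⟩ <;> rcases j with z' | ⟨t', d'⟩
    · have := congrArg (fun g : GL (Fin 2) F => (g : Matrix (Fin 2) (Fin 2) F) 0 0)
        (eq_scal_of_isConj h)
      simp [classRep, scal] at this
      rw [Units.ext this]
    · have := congrArg (fun g : GL (Fin 2) F => (g : Matrix (Fin 2) (Fin 2) F) 1 0)
        (eq_scal_of_isConj h)
      simp [classRep, scal, comp2] at this
    · have := congrArg (fun g : GL (Fin 2) F => (g : Matrix (Fin 2) (Fin 2) F) 1 0)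
        (eq_scal_of_isConj h.symm)
      simp [classRep, scal, comp2] at this
    · obtain ⟨h1, h2⟩ := invariants_of_isConj h
      simp [classRep, comp2, trace_fin_two, det_fin_two] at h1 h2
      subst h1
      rw [Units.ext h2]
  · intro q
    obtain ⟨g, rfl⟩ := ConjClasses.mk_surjective q
    by_cases h : (g : Matrix (Fin 2) (Fin 2) F) 0 1 = 0 ∧ (g : Matrix (Fin 2) (Fin 2) F) 1 0 = 0 ∧
        (g : Matrix (Fin 2) (Fin 2) F) 0 0 = (g : Matrix (Fin 2) (Fin 2) F) 1 1
    · have hz : (g : Matrix (Fin 2) (Fin 2) F) 0 0 ≠ 0 := fun e => det_ne g (by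
        rw [e, h.1, zero_mul, zero_mul, sub_zero])
      refine ⟨Sum.inl (Units.mk0 _ hz), congrArg ConjClasses.mk (ext2 ?_ ?_ ?_ ?_)⟩ <;>
        simp [classRep, scal, h]
    · refine ⟨Sum.inr ((g : Matrix (Fin 2) (Fin 2) F) 0 0 + (g : Matrix (Fin 2) (Fin 2) F) 1 1,
        GeneralLinearGroup.det g), ?_⟩
      exact ConjClasses.mk_eq_mk_iff_isConj.2 (isConj_comp2 g h)

variable [Fintype F] [DecidableEq F]

omit [DecidableEq F] in
theorem card_conjClasses :
    Nat.card (ConjClasses (GL (Fin 2) F)) =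
      (Fintype.card F - 1) * (Fintype.card F + 1) := by
  rw [← Nat.card_congr (Equiv.ofBijective _ (classRep_bijective (F := F))), Nat.card_sum,
    Nat.card_prod, Nat.card_units, Nat.card_eq_fintype_card]
  ring

end Cfsg.Agent.GL2Char
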