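import Cfsg.Agent.Lib.GL2Char.Classes
import Mathlib.Data.Sym.Card

/-!
The irreducible characters of `GL₂` over a finite field: linear, Steinberg twists, principal series
and the rest, which have degree `q - 1`.
-/

set_option autoImplicit false
set_option linter.style.haveILetI false

namespace Cfsg.Agent.GL2Char

open Cfsg.Agent.Char Matrix
open scoped ComplexConjugate MatrixGroups

variable {F : Type*} [Field F] [Fintype F] [DecidableEq F]

/-- The linear character `α ∘ det`. -/
noncomputable def linI (γ : MulChar F ℂ) : IrrCharacter (GL (Fin 2) F) := linIrr (detChar γ)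

theorem linI_apply (γ : MulChar F ℂ) (g : GL (Fin 2) F) :
    (linI γ).1 g = γ ((g : Matrix (Fin 2) (Fin 2) F).det) := by
  rw [linI, linIrr_apply, detChar_apply]

theorem linI_apply_one (γ : MulChar F ℂ) : (linI γ).1 1 = 1 := map_one (detChar γ)

theorem classInner_PS_linI (α β γ : MulChar F ℂ) [Decidable (α = γ ∧ β = γ)] :
    classInner (PS α β) (linI γ).1 = if α = γ ∧ β = γ then 1 else 0 :=
  classInner_PS_detChar α β γ

theorem classInner_linI_PS (α β γ : MulChar F ℂ) [Decidable (α = γ ∧ β = γ)] :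
    classInner (linI γ).1 (PS α β) = if α = γ ∧ β = γ then 1 else 0 := by
  rw [← conj_classInner, classInner_PS_linI]
  split_ifs <;> simp

/-- The twist of the Steinberg character. -/
noncomputable def stI (γ : MulChar F ℂ) : IrrCharacter (GL (Fin 2) F) :=
  ⟨PS γ γ - (linI γ).1, by
    classical
    refine isIrrCharacter_sub (isCharacter_PS γ γ) (linI γ).2 ?_ ?_
    · rw [classInner_PS_theta, if_pos ⟨rfl, rfl⟩]
      norm_num
    · rw [classInner_PS_linI, if_pos ⟨rfl, rfl⟩]⟩

theorem stI_apply (γ : MulChar F ℂ) (g : GL (Fin 2) F) :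
    (stI γ).1 g = PS γ γ g - γ ((g : Matrix (Fin 2) (Fin 2) F).det) := by
  rw [← linI_apply]; rfl

theorem stI_apply_one (γ : MulChar F ℂ) : (stI γ).1 1 = (Fintype.card F : ℂ) := by
  show PS γ γ 1 - (linI γ).1 1 = _
  rw [PS_one, linI_apply_one, add_sub_cancel_right]

theorem classInner_stI_PS (α γ : MulChar F ℂ) [Decidable (γ = α)] :
    classInner (stI γ).1 (PS α α) = if γ = α then 1 else 0 := by
  classical
  show classInner (PS γ γ - (linI γ).1) (PS α α) = _
  rw [classInner_sub_left, classInner_PS_theta, classInner_linI_PS]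
  by_cases h : γ = α
  · subst h; simp
  · simp [h, Ne.symm h]

/-- The principal series as a function of an unordered pair. -/
noncomputable def psFun : Sym2 (MulChar F ℂ) → GL (Fin 2) F → ℂ :=
  Sym2.lift ⟨fun α β => PS α β, fun α β => PS_swap α β⟩

@[simp] theorem psFun_mk (α β : MulChar F ℂ) : psFun s(α, β) = PS α β := rfl

theorem isIrrCharacter_psFun (p : Sym2 (MulChar F ℂ)) (h : ¬ p.IsDiag) :
    IsIrrCharacter (GL (Fin 2) F) (psFun p) := by
  induction p using Sym2.ind with
  | _ α β => exact isIrrCharacter_PS (by simpa using h)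

/-- The irreducible principal series characters. -/
noncomputable def psI (p : {p : Sym2 (MulChar F ℂ) // ¬ p.IsDiag}) :
    IrrCharacter (GL (Fin 2) F) :=
  ⟨psFun p.1, isIrrCharacter_psFun p.1 p.2⟩

theorem psI_spec (p : {p : Sym2 (MulChar F ℂ) // ¬ p.IsDiag}) :
    ∃ α β, α ≠ β ∧ (psI p).1 = PS α β := by
  obtain ⟨p, hp⟩ := p
  induction p using Sym2.ind with
  | _ α β => exact ⟨α, β, by simpa using hp, rfl⟩

theorem psI_apply_one (p : {p : Sym2 (MulChar F ℂ) // ¬ p.IsDiag}) :
    (psI p).1 1 = (Fintype.card F : ℂ) + 1 := by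
  obtain ⟨α, β, _, h⟩ := psI_spec p
  rw [h, PS_one]

/-- Orthogonal to all of the principal series. -/
def IsCusp (χ : IrrCharacter (GL (Fin 2) F)) : Prop :=
  ∀ α β : MulChar F ℂ, classInner χ.1 (PS α β) = 0

theorem not_isCusp_linI (γ : MulChar F ℂ) : ¬ IsCusp (linI γ) := fun h => by
  classical
  have := h γ γ
  rw [classInner_linI_PS, if_pos ⟨rfl, rfl⟩] at this
  exact one_ne_zero this

theorem not_isCusp_stI (γ : MulChar F ℂ) : ¬ IsCusp (stI γ) := fun h => by
  classical
  have := h γ γ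
  rw [classInner_stI_PS, if_pos rfl] at this
  exact one_ne_zero this

theorem not_isCusp_psI (p : {p : Sym2 (MulChar F ℂ) // ¬ p.IsDiag}) : ¬ IsCusp (psI p) := fun h => by
  obtain ⟨α, β, _, e⟩ := psI_spec p
  have h1 := h α β
  rw [← e, classInner_irr_self (psI p).2] at h1
  exact one_ne_zero h1

/-- The four families. -/
noncomputable def family :
    MulChar F ℂ ⊕ MulChar F ℂ ⊕ {p : Sym2 (MulChar F ℂ) // ¬ p.IsDiag} ⊕
      {χ : IrrCharacter (GL (Fin 2) F) // IsCusp χ} → IrrCharacter (GL (Fin 2) F)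
  | Sum.inl γ => linI γ
  | Sum.inr (Sum.inl γ) => stI γ
  | Sum.inr (Sum.inr (Sum.inl p)) => psI p
  | Sum.inr (Sum.inr (Sum.inr χ)) => χ.1

omit [DecidableEq F] in
theorem one_lt_q : (1 : ℂ) ≠ Fintype.card F := by
  exact_mod_cast (Fintype.one_lt_card (α := F)).ne

theorem family_bijective : Function.Bijective (family (F := F)) := by
  classical
  have hq := one_lt_q (F := F)
  constructor
  · rintro (γ | γ | p | χ) (δ | δ | r | ψ) h <;> simp only [family] at h
    · have h' : γ = δ := MulChar.ext fun a => by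
        have := congrFun (congrArg Subtype.val h) (mk2 a 0 0 1 (by simp))
        simpa [linI_apply, det_fin_two] using this
      rw [h']
    · have := congrFun (congrArg Subtype.val h) 1
      rw [linI_apply_one, stI_apply_one] at this
      exact absurd this hq
    · have := congrFun (congrArg Subtype.val h) 1
      rw [linI_apply_one, psI_apply_one] at this
      exact absurd this.symm (by simpa using Fintype.card_ne_zero)
    · exact absurd (h ▸ ψ.2) (not_isCusp_linI γ)
    · have := congrFun (congrArg Subtype.val h) 1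
      rw [linI_apply_one, stI_apply_one] at this
      exact absurd this.symm hq
    · have e := classInner_stI_PS δ γ
      rw [h, classInner_stI_PS, if_pos rfl] at e
      by_contra hc
      rw [if_neg fun x => hc (by rw [x])] at e
      exact one_ne_zero e
    · have := congrFun (congrArg Subtype.val h) 1
      rw [stI_apply_one, psI_apply_one] at this
      simp at this
    · exact absurd (h ▸ ψ.2) (not_isCusp_stI γ)
    · have := congrFun (congrArg Subtype.val h) 1
      rw [linI_apply_one, psI_apply_one] at this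
      exact absurd this (by simpa using Fintype.card_ne_zero)
    · have := congrFun (congrArg Subtype.val h) 1
      rw [stI_apply_one, psI_apply_one] at this
      simp at this
    · have e := congrArg Subtype.val h
      obtain ⟨p, hp⟩ := p
      obtain ⟨r, hr⟩ := r
      induction p using Sym2.ind with
      | _ α β =>
        induction r using Sym2.ind with
        | _ α' β' =>
          have : s(α, β) = s(α', β') := by
            rcases (PS_eq_iff α β α' β').1 e with ⟨rfl, rfl⟩ | ⟨rfl, rfl⟩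
            · rfl
            · exact Sym2.eq_swap
          simp [this]
    · exact absurd (h ▸ ψ.2) (not_isCusp_psI p)
    · exact absurd (h ▸ χ.2) (not_isCusp_linI δ)
    · exact absurd (h ▸ χ.2) (not_isCusp_stI δ)
    · exact absurd (h ▸ χ.2) (not_isCusp_psI r)
    · rw [Subtype.ext h]
  · intro χ
    by_cases hc : IsCusp χ
    · exact ⟨Sum.inr (Sum.inr (Sum.inr ⟨χ, hc⟩)), rfl⟩
    · simp only [IsCusp, not_forall] at hc
      obtain ⟨α, β, h⟩ := hc
      by_cases hab : α = β
      · subst hab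
        have e : PS α α = (linI α).1 + (stI α).1 := (add_sub_cancel _ _).symm
        rw [e, classInner_add_right] at h
        by_cases h1 : χ.1 = (linI α).1
        · exact ⟨Sum.inl α, Subtype.ext h1.symm⟩
        · refine ⟨Sum.inr (Sum.inl α), Subtype.ext ?_⟩
          by_contra h2
          rw [classInner_irr_of_ne χ.2 (linI α).2 h1,
            classInner_irr_of_ne χ.2 (stI α).2 (Ne.symm h2), add_zero] at h
          exact h rfl
      · refine ⟨Sum.inr (Sum.inr (Sum.inl ⟨s(α, β), by simpa using hab⟩)), Subtype.ext ?_⟩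
        by_contra h2
        exact h (classInner_irr_of_ne χ.2 (isIrrCharacter_PS hab) (Ne.symm h2))

/-- Every irreducible character lies in one of the four families. -/
theorem classify (χ : IrrCharacter (GL (Fin 2) F)) :
    (∃ γ, χ = linI γ) ∨ (∃ γ, χ = stI γ) ∨ (∃ α β, α ≠ β ∧ χ.1 = PS α β) ∨ IsCusp χ := by
  obtain ⟨i, rfl⟩ := family_bijective.2 χ
  rcases i with γ | γ | p | ψ
  · exact Or.inl ⟨γ, rfl⟩
  · exact Or.inr (Or.inl ⟨γ, rfl⟩)
  · exact Or.inr (Or.inr (Or.inl (psI_spec p)))
  · exact Or.inr (Or.inr (Or.inr ψ.2))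

theorem card_mulChar : Nat.card (MulChar F ℂ) = Fintype.card F - 1 := by
  rw [MulChar.card_eq_card_units_of_hasEnoughRootsOfUnity, card_units]

theorem sum_mulChar [Fintype (MulChar F ℂ)] (a : Fˣ) [Decidable (a = 1)] :
    ∑ α : MulChar F ℂ, α (a : F) =
      if a = 1 then (Fintype.card (MulChar F ℂ) : ℂ) else 0 := by
  split_ifs with h
  · simp [h]
  · obtain ⟨χ, hχ⟩ := MulChar.exists_apply_ne_one_of_hasEnoughRootsOfUnity F ℂ
      (a := (a : F)) (fun e => h (Units.ext e))
    refine eq_zero_of_mul_eq_self_left hχ ?_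
    rw [Finset.mul_sum]
    refine Fintype.sum_equiv (Equiv.mulLeft χ) _ _ fun α => ?_
    simp

theorem sum_mulChar_mul_conj [Fintype (MulChar F ℂ)] (a b : Fˣ) [Decidable (b = a)] :
    ∑ α : MulChar F ℂ, α (a : F) * conj (α (b : F)) =
      if b = a then (Fintype.card (MulChar F ℂ) : ℂ) else 0 := by
  classical
  have : ∀ α : MulChar F ℂ, α (a : F) * conj (α (b : F)) = α ((a * b⁻¹ : Fˣ) : F) := fun α => by
    rw [← unitHom_apply α b,
      IsCharacter.conj_apply (IsIrrCharacter.isCharacter (isIrrCharacter_of_monoidHom (unitHom α))) b,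
      unitHom_apply, ← map_mul, Units.val_mul]
  simp only [this, sum_mulChar, mul_inv_eq_one]
  by_cases h : b = a
  · simp [h]
  · rw [if_neg h, if_neg (Ne.symm h)]

/-- A cuspidal character sums to zero on each coset of the unipotent radical in the Borel. -/
theorem IsCusp.sum_unipotent {χ : IrrCharacter (GL (Fin 2) F)} (hc : IsCusp χ) (a₀ d₀ : Fˣ) :
    ∑ b : F, χ.1 (bmk (a₀, d₀, b) : GL (Fin 2) F) = 0 := by
  classical
  haveI := Fintype.ofFinite (MulChar F ℂ)
  have h0 : ∀ α β : MulChar F ℂ, ∑ a : Fˣ, ∑ d : Fˣ, ∑ b : F,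
      χ.1 (bmk (a, d, b) : GL (Fin 2) F) * (conj (α (a : F)) * conj (β (d : F))) = 0 := by
    intro α β
    have h := hc α β
    rw [PS, classInner_indFun_right (BB F) _ (IsCharacter.isClassFunction (irr_isCharacter χ)),
      classInner, mul_eq_zero, or_iff_right (inv_ne_zero card_ne_zero),
      ← (Equiv.ofBijective _ (bmk_bijective (F := F))).sum_comp, Fintype.sum_prod_type] at h
    simp only [Fintype.sum_prod_type, Equiv.ofBijective_apply] at h
    rw [← h]
    refine Finset.sum_congr rfl fun a _ => Finset.sum_congr rfl fun d _ =>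
      Finset.sum_congr rfl fun b _ => ?_
    rw [← map_mul]
    rfl
  have key : ∑ α : MulChar F ℂ, ∑ β : MulChar F ℂ, α (a₀ : F) * β (d₀ : F) *
      (∑ a : Fˣ, ∑ d : Fˣ, ∑ b : F,
        χ.1 (bmk (a, d, b) : GL (Fin 2) F) * (conj (α (a : F)) * conj (β (d : F)))) = 0 := by
    simp [h0]
  have swap : ∀ a d : Fˣ, ∑ α : MulChar F ℂ, ∑ β : MulChar F ℂ, α (a₀ : F) * β (d₀ : F) *
      (∑ b : F, χ.1 (bmk (a, d, b) : GL (Fin 2) F) * (conj (α (a : F)) * conj (β (d : F)))) =
      (∑ b : F, χ.1 (bmk (a, d, b) : GL (Fin 2) F)) *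
        ((∑ α : MulChar F ℂ, α (a₀ : F) * conj (α (a : F))) *
          ∑ β : MulChar F ℂ, β (d₀ : F) * conj (β (d : F))) := by
    intro a d
    rw [Finset.sum_mul_sum, Finset.mul_sum]
    refine Finset.sum_congr rfl fun α _ => ?_
    rw [Finset.mul_sum]
    refine Finset.sum_congr rfl fun β _ => ?_
    rw [← Finset.sum_mul]
    ring
  simp only [Finset.mul_sum] at key
  rw [Finset.sum_congr rfl fun α _ => Finset.sum_comm, Finset.sum_comm,
    Finset.sum_congr rfl fun a _ => Finset.sum_congr rfl fun α _ => Finset.sum_comm,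
    Finset.sum_congr rfl fun a _ => Finset.sum_comm] at key
  simp only [← Finset.mul_sum] at key
  rw [Finset.sum_congr rfl fun a _ => Finset.sum_congr rfl fun d _ => swap a d] at key
  simp only [sum_mulChar_mul_conj, mul_ite, ite_mul, zero_mul, mul_zero, Finset.sum_ite_eq',
    Finset.sum_const_zero, Finset.mem_univ, if_true] at key
  simpa using key

theorem IsCusp.torus {χ : IrrCharacter (GL (Fin 2) F)} (hc : IsCusp χ) (g : GL (Fin 2) F)
    (h01 : (g : Matrix (Fin 2) (Fin 2) F) 0 1 = 0) (h10 : (g : Matrix (Fin 2) (Fin 2) F) 1 0 = 0)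
    (hne : (g : Matrix (Fin 2) (Fin 2) F) 0 0 ≠ (g : Matrix (Fin 2) (Fin 2) F) 1 1) : χ.1 g = 0 := by
  have hd := det_ne g
  rw [h10, mul_zero, sub_zero, mul_ne_zero_iff] at hd
  have h := hc.sum_unipotent (Units.mk0 _ hd.1) (Units.mk0 _ hd.2)
  have e : ∀ b : F, χ.1 (bmk (Units.mk0 _ hd.1, Units.mk0 _ hd.2, b) : GL (Fin 2) F) = χ.1 g := by
    intro b
    refine (IsClassFunction.apply_of_isConj (IsCharacter.isClassFunction (irr_isCharacter χ))
      (isConj_iff.2 ⟨mk2 1 (b / ((g : Matrix (Fin 2) (Fin 2) F) 1 1 -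
        (g : Matrix (Fin 2) (Fin 2) F) 0 0)) 0 1 (by simp), ?_⟩)).symm
    have hne' : (g : Matrix (Fin 2) (Fin 2) F) 1 1 - (g : Matrix (Fin 2) (Fin 2) F) 0 0 ≠ 0 :=
      sub_ne_zero.2 (Ne.symm hne)
    rw [mul_inv_eq_iff_eq_mul]
    apply ext2 <;> simp [bmk, mul_apply, h01, h10] <;> field_simp <;> ring
  simp only [e, Finset.sum_const, Finset.card_univ, nsmul_eq_mul, mul_eq_zero] at h
  exact h.resolve_left (by simp)

/-- The value of a cuspidal character at a transvection and its degree, up to a multiplicity. -/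
theorem IsCusp.exists_mult {χ : IrrCharacter (GL (Fin 2) F)} (hc : IsCusp χ) :
    ∃ n : ℕ, 0 < n ∧ χ.1 1 = n * ((Fintype.card F : ℂ) - 1) ∧
      ∀ u : GL (Fin 2) F, (u : Matrix (Fin 2) (Fin 2) F) = !![1, 1; 0, 1] → χ.1 u = -(n : ℂ) := by
  classical
  let f : Multiplicative F →* GL (Fin 2) F :=
    { toFun := fun b => mk2 1 b.toAdd 0 1 (by simp)
      map_one' := by apply ext2 <;> simp
      map_mul' := fun b c => by apply ext2 <;> simp [mul_apply, add_comm] }
  have hf : ∀ b : F, (bmk (1, 1, b) : GL (Fin 2) F) = f (Multiplicative.ofAdd b) := fun b => rfl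
  have hcf := IsCharacter.isClassFunction (irr_isCharacter χ)
  set c := χ.1 (f (Multiplicative.ofAdd 1)) with hcdef
  have hconst : ∀ x : Multiplicative F, x ≠ 1 → χ.1 (f x) = c := by
    intro x hx
    have hx' : x.toAdd ≠ 0 := fun e => hx (toAdd_eq_zero.1 e)
    refine (IsClassFunction.apply_of_isConj hcf (isConj_iff.2
      ⟨mk2 x.toAdd 0 0 1 (by simpa using hx'), ?_⟩)).symm
    rw [mul_inv_eq_iff_eq_mul]
    apply ext2 <;> simp [f, mul_apply]
  haveI : Fintype (Multiplicative F →* ℂ) := @Fintype.ofFinite _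
    (Finite.of_injective _ (linIrr_injective (G := Multiplicative F)))
  obtain ⟨ψ, hψ⟩ : ∃ ψ : Multiplicative F →* ℂ, ψ ≠ 1 := by
    have hcm : commutator (Multiplicative F) = ⊥ := by
      rw [commutator_eq_bot_iff_center_eq_top]
      exact CommGroup.center_eq_top
    have h := card_monoidHom_complex (G := Multiplicative F)
    rw [hcm, Subgroup.index_bot, Nat.card_eq_fintype_card, Nat.card_eq_fintype_card,
      Fintype.card_multiplicative] at h
    exact Fintype.exists_ne_of_one_lt_card (h ▸ Fintype.one_lt_card) 1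
  have hd : χ.1 1 = (χ.1 (f 1)) := by rw [map_one]
  have hsplit : ∀ w : Multiplicative F → ℂ, ∑ x, χ.1 (f x) * w x =
      χ.1 1 * w 1 + c * ((∑ x, w x) - w 1) := by
    intro w
    rw [Fintype.sum_eq_add_sum_compl 1, Fintype.sum_eq_add_sum_compl 1 w, map_one, add_sub_cancel_left,
      Finset.mul_sum]
    refine congrArg₂ (· + ·) rfl (Finset.sum_congr rfl fun x hx => ?_)
    rw [hconst x (by simpa using hx)]
  have hsum1 : χ.1 1 + c * ((Fintype.card F : ℂ) - 1) = 0 := by
    have h := hc.sum_unipotent 1 1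
    simp only [hf] at h
    rw [Equiv.sum_comp Multiplicative.ofAdd (fun x => χ.1 (f x))] at h
    have := hsplit 1
    simp only [Pi.one_apply, mul_one, Finset.sum_const, Finset.card_univ, nsmul_eq_mul,
      Fintype.card_multiplicative] at this
    rw [← this, h]
  obtain ⟨n, hn⟩ := IsCharacter.exists_nat_classInner (IsCharacter.comp (irr_isCharacter χ) f)
    (IsIrrCharacter.isCharacter (isIrrCharacter_of_monoidHom ψ))
  have hψsum : ∑ x, conj (ψ x) = 0 := by
    have := classInner_irr_of_ne (isIrrCharacter_one (G := Multiplicative F))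
      (isIrrCharacter_of_monoidHom ψ) fun e => hψ (MonoidHom.ext fun x => (congrFun e x).symm)
    simp only [classInner, one_mul, mul_eq_zero] at this
    exact this.resolve_left (inv_ne_zero card_ne_zero)
  rw [classInner, hsplit, hψsum, map_one, map_one, mul_one, inv_mul_eq_iff_eq_mul₀ card_ne_zero,
    Nat.card_eq_fintype_card, Fintype.card_multiplicative] at hn
  have hq : (Fintype.card F : ℂ) ≠ 0 := by exact_mod_cast Fintype.card_ne_zero
  have hc' : c = -(n : ℂ) := mul_left_cancel₀ hq (by linear_combination hsum1 - hn)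
  refine ⟨n, ?_, by rw [hc'] at hsum1; linear_combination hsum1, fun u hu => ?_⟩
  · rcases Nat.eq_zero_or_pos n with h | h
    · exfalso
      rw [hc', h, Nat.cast_zero, neg_zero, zero_mul, add_zero] at hsum1
      exact IsIrrCharacter.apply_one_ne_zero χ.2 hsum1
    · exact h
  · rw [← hc']
    exact congrArg χ.1 (Units.ext hu)

omit [DecidableEq F] in
theorem card_GL_two : Nat.card (GL (Fin 2) F) =
    (Fintype.card F ^ 2 - 1) * (Fintype.card F ^ 2 - Fintype.card F) := by
  rw [Matrix.card_GL_field, Fin.prod_univ_two]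
  simp

/-- The number of cuspidal characters, and the fact that they have multiplicity one. -/
theorem cusp_count :
    Nat.card {χ : IrrCharacter (GL (Fin 2) F) // IsCusp χ} =
        Fintype.card F * (Fintype.card F - 1) / 2 ∧
      Nat.card {p : Sym2 (MulChar F ℂ) // ¬ p.IsDiag} =
        (Fintype.card F - 1) * (Fintype.card F - 2) / 2 ∧
      ∀ χ : IrrCharacter (GL (Fin 2) F), IsCusp χ → χ.1 1 = (Fintype.card F : ℂ) - 1 ∧
        ∀ u : GL (Fin 2) F, (u : Matrix (Fin 2) (Fin 2) F) = !![1, 1; 0, 1] → χ.1 u = -1 := by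
  classical
  haveI := Fintype.ofFinite (MulChar F ℂ)
  haveI := Fintype.ofFinite (IrrCharacter (GL (Fin 2) F))
  have hM : Fintype.card (MulChar F ℂ) = Fintype.card F - 1 := by
    rw [← Nat.card_eq_fintype_card, card_mulChar]
  have hP : Fintype.card {p : Sym2 (MulChar F ℂ) // ¬ p.IsDiag} =
      (Fintype.card F - 1) * (Fintype.card F - 2) / 2 := by
    rw [Sym2.card_subtype_not_diag, hM, Nat.choose_two_right, Nat.sub_sub]
  choose n hn0 hn1 hn2 using
    fun χ : {χ : IrrCharacter (GL (Fin 2) F) // IsCusp χ} => χ.2.exists_mult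
  have hq := Fintype.one_lt_card (α := F)
  obtain ⟨k, hk⟩ : ∃ k, Fintype.card F = k + 2 := ⟨Fintype.card F - 2, by omega⟩
  have hP2 : (k + 1) * k = 2 * Fintype.card {p : Sym2 (MulChar F ℂ) // ¬ p.IsDiag} := by
    rw [hP, hk, show k + 2 - 1 = k + 1 by omega, show k + 2 - 2 = k by omega,
      Nat.mul_div_cancel' (by rw [mul_comm]; exact (Nat.even_mul_succ_self k).two_dvd)]
  have hC : Fintype.card {χ : IrrCharacter (GL (Fin 2) F) // IsCusp χ} + 2 * (k + 1) +
      Fintype.card {p : Sym2 (MulChar F ℂ) // ¬ p.IsDiag} = (k + 1) * (k + 3) := by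
    have h := Nat.card_congr (Equiv.ofBijective _ (family_bijective (F := F)))
    rw [card_irr, card_conjClasses, Nat.card_eq_fintype_card, Fintype.card_sum, Fintype.card_sum,
      Fintype.card_sum, hM, hk, show k + 2 - 1 = k + 1 by omega,
      show k + 2 + 1 = k + 3 by omega] at h
    omega
  have hS : (Nat.card (GL (Fin 2) F) : ℂ) = ((k + 1 : ℕ) : ℂ) + ((k + 1 : ℕ) : ℂ) * ((k : ℂ) + 2) ^ 2 +
      (Fintype.card {p : Sym2 (MulChar F ℂ) // ¬ p.IsDiag} : ℂ) * ((k : ℂ) + 3) ^ 2 +
      ((∑ χ, n χ ^ 2 : ℕ) : ℂ) * ((k : ℂ) + 1) ^ 2 := by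
    have h : ∑ i, (Equiv.ofBijective _ (family_bijective (F := F)) i).1 1 ^ 2 =
        (Nat.card (GL (Fin 2) F) : ℂ) := by
      refine ((Equiv.ofBijective _ (family_bijective (F := F))).sum_comp
        (fun χ : IrrCharacter (GL (Fin 2) F) => χ.1 1 ^ 2)).trans ?_
      convert sum_irr_degree_sq (G := GL (Fin 2) F)
    simp only [Fintype.sum_sum_type, Equiv.ofBijective_apply, family, linI_apply_one,
      stI_apply_one, psI_apply_one, hn1, hk, Finset.sum_const, Finset.card_univ, nsmul_eq_mul,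
      hM] at h
    rw [← h, Nat.cast_sum, Finset.sum_mul]
    simp only [show k + 2 - 1 = k + 1 by omega]
    push_cast
    ring_nf
  have hsq : ∑ χ, n χ ^ 2 = Fintype.card {χ : IrrCharacter (GL (Fin 2) F) // IsCusp χ} := by
    have hG : Nat.card (GL (Fin 2) F) = ((k + 1) * (k + 3)) * ((k + 2) * (k + 1)) := by
      rw [card_GL_two, hk, show (k + 2) ^ 2 = ((k + 1) * (k + 3)) + 1 by ring, Nat.add_sub_cancel,
        show (k + 1) * (k + 3) + 1 - (k + 2) = (k + 2) * (k + 1) from
          Nat.sub_eq_of_eq_add (by ring)]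
    rw [hG] at hS
    have hCc := congrArg (fun m : ℕ => (m : ℂ)) hC
    have hPc := congrArg (fun m : ℕ => (m : ℂ)) hP2
    push_cast at hS hCc hPc
    have h0 : ((k : ℂ) + 1) ^ 2 ≠ 0 := pow_ne_zero _ (by exact_mod_cast (Nat.succ_ne_zero k))
    suffices h : ((∑ χ, n χ ^ 2 : ℕ) : ℂ) =
        (Fintype.card {χ : IrrCharacter (GL (Fin 2) F) // IsCusp χ} : ℂ) by exact_mod_cast h
    refine mul_left_cancel₀ h0 ?_
    push_cast
    linear_combination -hS - ((k : ℂ) + 1) ^ 2 * hCc + 2 * ((k : ℂ) + 2) * hPc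
  refine ⟨?_, ?_, fun χ hc => ?_⟩
  · rw [Nat.card_eq_fintype_card, hk, show k + 2 - 1 = k + 1 by omega]
    have : (k + 2) * (k + 1) = (k + 1) * k + 2 * (k + 1) := by ring
    have h3 : (k + 1) * (k + 3) = (k + 1) * k + 3 * (k + 1) := by ring
    omega
  · rw [Nat.card_eq_fintype_card, hP]
  · have hone : n ⟨χ, hc⟩ = 1 := by
      have h1 : ∀ ψ, (1 : ℕ) ≤ n ψ ^ 2 := fun ψ => Nat.one_le_pow _ _ (hn0 ψ)
      have h2 : ∑ ψ, n ψ ^ 2 = ∑ _ψ : {χ : IrrCharacter (GL (Fin 2) F) // IsCusp χ}, 1 := by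
        rw [hsq]; simp
      have := ((Finset.sum_eq_sum_iff_of_le fun ψ _ => h1 ψ).1 h2.symm) ⟨χ, hc⟩ (Finset.mem_univ _)
      exact (pow_eq_one_iff.1 this.symm).resolve_right two_ne_zero
    refine ⟨?_, fun u hu => ?_⟩
    · have := hn1 ⟨χ, hc⟩; rw [hone, Nat.cast_one, one_mul] at this; exact this
    · have := hn2 ⟨χ, hc⟩ u hu; rw [hone, Nat.cast_one] at this; exact this

/-- The degree of a cuspidal character. -/
theorem IsCusp.apply_one {χ : IrrCharacter (GL (Fin 2) F)} (hc : IsCusp χ) :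
    χ.1 1 = (Fintype.card F : ℂ) - 1 := (cusp_count.2.2 χ hc).1

theorem IsCusp.apply_transvection {χ : IrrCharacter (GL (Fin 2) F)} (hc : IsCusp χ)
    (u : GL (Fin 2) F) (hu : (u : Matrix (Fin 2) (Fin 2) F) = !![1, 1; 0, 1]) : χ.1 u = -1 :=
  (cusp_count.2.2 χ hc).2 u hu

end Cfsg.Agent.GL2Char
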