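import Cfsg.Agent.Lib.GL2Char.Classify

/-!
Irreducible characters of `GL₂` by degree.
-/

set_option autoImplicit false
set_option linter.style.haveILetI false

namespace Cfsg.Agent.GL2Char

open Cfsg.Agent.Char
open scoped MatrixGroups

variable {F : Type*} [Field F] [Fintype F] [DecidableEq F]

theorem degree_mem (χ : IrrCharacter (GL (Fin 2) F)) :
    χ.1 1 = 1 ∨ χ.1 1 = (Fintype.card F : ℂ) - 1 ∨ χ.1 1 = (Fintype.card F : ℂ) ∨
      χ.1 1 = (Fintype.card F : ℂ) + 1 := by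
  rcases classify χ with ⟨γ, rfl⟩ | ⟨γ, rfl⟩ | ⟨α, β, -, h⟩ | h
  · exact Or.inl (linI_apply_one γ)
  · exact Or.inr (Or.inr (Or.inl (stI_apply_one γ)))
  · exact Or.inr (Or.inr (Or.inr (by rw [h, PS_one])))
  · exact Or.inr (Or.inl h.apply_one)

section Large

variable (hq : 3 ≤ Fintype.card F) {χ : IrrCharacter (GL (Fin 2) F)}
include hq

omit [DecidableEq F] in
theorem q_ne : (1 : ℂ) ≠ (Fintype.card F : ℂ) - 1 ∧ (1 : ℂ) ≠ Fintype.card F ∧
    (1 : ℂ) ≠ (Fintype.card F : ℂ) + 1 := by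
  refine ⟨?_, ?_, ?_⟩ <;> intro h
  · have : ((2 : ℕ) : ℂ) = Fintype.card F := by push_cast; linear_combination h
    have := Nat.cast_injective this
    omega
  · have : ((1 : ℕ) : ℂ) = Fintype.card F := by push_cast; exact h
    have := Nat.cast_injective this
    omega
  · have : ((0 : ℕ) : ℂ) = Fintype.card F := by push_cast; linear_combination h
    have := Nat.cast_injective this
    omega

theorem eq_linI_of_degree (h : χ.1 1 = 1) : ∃ γ, χ = linI γ := by
  rcases classify χ with h' | ⟨γ, rfl⟩ | ⟨α, β, -, h'⟩ | h'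
  · exact h'
  · rw [stI_apply_one] at h; exact absurd h.symm (q_ne hq).2.1
  · rw [h', PS_one] at h; exact absurd h.symm (q_ne hq).2.2
  · rw [h'.apply_one] at h; exact absurd h.symm (q_ne hq).1

theorem eq_stI_of_degree (h : χ.1 1 = (Fintype.card F : ℂ)) : ∃ γ, χ = stI γ := by
  rcases classify χ with ⟨γ, rfl⟩ | h' | ⟨α, β, -, h'⟩ | h'
  · rw [linI_apply_one] at h; exact absurd h (q_ne hq).2.1
  · exact h'
  · rw [h', PS_one] at h; simp at h
  · rw [h'.apply_one] at h; simp at h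

theorem eq_PS_of_degree (h : χ.1 1 = (Fintype.card F : ℂ) + 1) :
    ∃ α β, α ≠ β ∧ χ.1 = PS α β := by
  rcases classify χ with ⟨γ, rfl⟩ | ⟨γ, rfl⟩ | h' | h'
  · rw [linI_apply_one] at h; exact absurd h (q_ne hq).2.2
  · rw [stI_apply_one] at h; simp at h
  · exact h'
  · rw [h'.apply_one] at h; exact absurd (show (2 : ℂ) = 0 by linear_combination -h) two_ne_zero

theorem isCusp_of_degree (h : χ.1 1 = (Fintype.card F : ℂ) - 1) : IsCusp χ := by
  rcases classify χ with ⟨γ, rfl⟩ | ⟨γ, rfl⟩ | ⟨α, β, -, h'⟩ | h'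
  · rw [linI_apply_one] at h; exact absurd h (q_ne hq).1
  · rw [stI_apply_one] at h; exact absurd (show (1 : ℂ) = 0 by linear_combination h) one_ne_zero
  · rw [h', PS_one] at h; exact absurd (show (2 : ℂ) = 0 by linear_combination h) two_ne_zero
  · exact h'

theorem card_degree_one :
    Nat.card {χ : IrrCharacter (GL (Fin 2) F) // χ.1 1 = 1} = Fintype.card F - 1 := by
  rw [← card_mulChar (F := F)]
  refine (Nat.card_congr (Equiv.ofBijective (fun γ => ⟨linI γ, linI_apply_one γ⟩) ⟨?_, ?_⟩)).symm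
  · intro γ δ h
    have := family_bijective.1 (a₁ := Sum.inl γ) (a₂ := Sum.inl δ) (congrArg Subtype.val h)
    exact Sum.inl_injective this
  · rintro ⟨χ, h⟩
    obtain ⟨γ, rfl⟩ := eq_linI_of_degree hq h
    exact ⟨γ, rfl⟩

theorem card_degree_q :
    Nat.card {χ : IrrCharacter (GL (Fin 2) F) // χ.1 1 = (Fintype.card F : ℂ)} =
      Fintype.card F - 1 := by
  rw [← card_mulChar (F := F)]
  refine (Nat.card_congr (Equiv.ofBijective (fun γ => ⟨stI γ, stI_apply_one γ⟩) ⟨?_, ?_⟩)).symm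
  · intro γ δ h
    have := family_bijective.1 (a₁ := Sum.inr (Sum.inl γ)) (a₂ := Sum.inr (Sum.inl δ))
      (congrArg Subtype.val h)
    exact Sum.inl_injective (Sum.inr_injective this)
  · rintro ⟨χ, h⟩
    obtain ⟨γ, rfl⟩ := eq_stI_of_degree hq h
    exact ⟨γ, rfl⟩

theorem card_degree_q_add_one :
    Nat.card {χ : IrrCharacter (GL (Fin 2) F) // χ.1 1 = (Fintype.card F : ℂ) + 1} =
      (Fintype.card F - 1) * (Fintype.card F - 2) / 2 := by
  rw [← cusp_count.2.1]
  refine (Nat.card_congr (Equiv.ofBijective (fun p => ⟨psI p, psI_apply_one p⟩) ⟨?_, ?_⟩)).symm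
  · intro γ δ h
    have := family_bijective.1 (a₁ := Sum.inr (Sum.inr (Sum.inl γ)))
      (a₂ := Sum.inr (Sum.inr (Sum.inl δ))) (congrArg Subtype.val h)
    exact Sum.inl_injective (Sum.inr_injective (Sum.inr_injective this))
  · rintro ⟨χ, h⟩
    obtain ⟨α, β, hab, h'⟩ := eq_PS_of_degree hq h
    exact ⟨⟨s(α, β), by simpa using hab⟩, Subtype.ext (Subtype.ext h'.symm)⟩

theorem card_degree_q_sub_one :
    Nat.card {χ : IrrCharacter (GL (Fin 2) F) // χ.1 1 = (Fintype.card F : ℂ) - 1} =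
      Fintype.card F * (Fintype.card F - 1) / 2 := by
  rw [← cusp_count.1]
  exact Nat.card_congr (Equiv.subtypeEquivRight fun χ =>
    ⟨fun h => isCusp_of_degree hq h, fun h => h.apply_one⟩)

end Large

end Cfsg.Agent.GL2Char
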