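import Cfsg.Agent.Lib.Char.Induction
import Cfsg.Agent.Lib.Char.Orthogonality

/-!
Induced class functions computed on coset representatives, and irreducibility from norms.
-/

set_option autoImplicit false
set_option linter.style.haveILetI false

namespace Cfsg.Agent.GL2Char

open Cfsg.Agent.Char
open scoped ComplexConjugate

universe u

variable {G : Type u} [Group G] [Fintype G]

omit [Fintype G] in
theorem extendByZero_conj (H : Subgroup G) {θ : H → ℂ} (hθ : IsClassFunction H θ) (h : H) (y : G) :
    extendByZero H θ ((h : G)⁻¹ * y * h) = extendByZero H θ y := by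
  by_cases hy : y ∈ H
  · rw [extendByZero_of_mem H θ hy,
      extendByZero_of_mem H θ (H.mul_mem (H.mul_mem (H.inv_mem h.2) hy) h.2)]
    have := hθ ⟨y, hy⟩ h⁻¹
    convert this using 2
    apply Subtype.ext
    simp
  · rw [extendByZero_of_notMem H θ hy, extendByZero_of_notMem H θ]
    intro hc
    refine hy ?_
    have := H.mul_mem (H.mul_mem h.2 hc) (H.inv_mem h.2)
    simpa [mul_assoc] using this

/-- The induced class function as a sum over coset representatives. -/
theorem indFun_eq_sum_reps (H : Subgroup G) {θ : H → ℂ} (hθ : IsClassFunction H θ) {ι : Type*}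
    [Fintype ι] (r : ι → G) (hr : Function.Bijective fun i => (r i : G ⧸ H)) (g : G) :
    indFun H θ g = ∑ i, extendByZero H θ ((r i)⁻¹ * g * r i) := by
  classical
  haveI := Fintype.ofFinite H
  let f : ι × H → G := fun p => r p.1 * p.2
  have hf : Function.Bijective f := by
    constructor
    · rintro ⟨i, h⟩ ⟨j, k⟩ e
      have e' : r i * h = r j * k := e
      have hij : i = j := hr.1 (QuotientGroup.eq.2 (by
        rw [show (r i)⁻¹ * r j = (h : G) * (k : G)⁻¹ by
          rw [eq_mul_inv_iff_mul_eq, mul_assoc, ← e', inv_mul_cancel_left]]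
        exact H.mul_mem h.2 (H.inv_mem k.2)))
      subst hij
      exact Prod.ext rfl (Subtype.ext (mul_left_cancel e'))
    · intro x
      obtain ⟨i, hi⟩ := hr.2 (x : G ⧸ H)
      exact ⟨(i, ⟨_, QuotientGroup.eq.1 hi⟩), by simp [f]⟩
  have key : ∀ p : ι × H, extendByZero H θ ((f p)⁻¹ * g * f p) =
      extendByZero H θ ((r p.1)⁻¹ * g * r p.1) := fun p => by
    rw [← extendByZero_conj H hθ p.2 ((r p.1)⁻¹ * g * r p.1)]
    congr 1
    simp [f, mul_assoc]
  rw [indFun, ← (Equiv.ofBijective f hf).sum_comp]
  simp only [Equiv.ofBijective_apply, key]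
  rw [Fintype.sum_prod_type, Finset.mul_sum]
  refine Finset.sum_congr rfl fun i _ => ?_
  dsimp only
  rw [Finset.sum_const, Finset.card_univ, nsmul_eq_mul, ← Nat.card_eq_fintype_card, ← mul_assoc,
    inv_mul_cancel₀ (Nat.cast_ne_zero.2 Nat.card_pos.ne'), one_mul]

/-- A character of norm two minus an irreducible constituent of multiplicity one is irreducible. -/
theorem isIrrCharacter_sub {χ ψ : G → ℂ} (hχ : IsCharacter G χ) (hψ : IsIrrCharacter G ψ)
    (h2 : classInner χ χ = 2) (h1 : classInner χ ψ = 1) : IsIrrCharacter G (χ - ψ) := by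
  classical
  refine isIrrCharacter_iff.2 ⟨isCharacter_iff.2 ⟨fun g h => ?_, fun φ => ?_⟩, ?_⟩
  · simp only [Pi.sub_apply]
    rw [IsCharacter.isClassFunction hχ g h,
      IsCharacter.isClassFunction (IsIrrCharacter.isCharacter hψ) g h]
  · rw [classInner_sub_left]
    obtain ⟨n, hn⟩ := IsCharacter.exists_nat_classInner hχ (irr_isCharacter φ)
    by_cases hφ : φ.1 = ψ
    · rw [hφ] at hn ⊢
      exact ⟨0, by rw [h1, classInner_irr_self hψ, sub_self, Nat.cast_zero]⟩
    · refine ⟨n, ?_⟩
      rw [hn, classInner_irr_of_ne hψ φ.2 (Ne.symm hφ), sub_zero]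
  · have h1' : classInner ψ χ = 1 := by rw [← conj_classInner, h1, map_one]
    rw [classInner_sub_left, classInner_sub_right, classInner_sub_right, h2, h1, h1',
      classInner_irr_self hψ]
    norm_num

end Cfsg.Agent.GL2Char
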