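import Cfsg.Agent.Lib.GL2Char.OddCount
import Cfsg.Agent.Lib.PSL2.TorusClasses
import Cfsg.Agent.Lib.PSL2.SylowTwoNormalizer
import Cfsg.Prelude.Def_Blocks
import Cfsg.Agent.Lib.Char.Ito
import Cfsg.Agent.Lib.Char.KernelSum
import Cfsg.Agent.Lib.Char.PRegular
import Cfsg.Agent.Lib.Coprime.Basic
import Cfsg.Agent.Lib.Char.Linear
import Cfsg.Agent.Lib.Char.Product
import Cfsg.Agent.Lib.SylowSquares.Two

/-!
Counts of characters of degree prime to a given number, for `SL₂(q)` and for the local subgroups.
-/

set_option autoImplicit false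

namespace Cfsg.Agent.McKaySL2

open Cfsg Cfsg.Agent.Char Matrix
open scoped MatrixGroups

/-- The number of irreducible characters of degree prime to `l`. -/
noncomputable def kPrime (l : ℕ) (G : Type*) [Group G] : ℕ :=
  Nat.card {χ : IrrCharacter G // ¬ l ∣ Cfsg.charDegree (χ : G → ℂ)}

theorem kPrime_eq (l : ℕ) (G : Type*) [Group G] :
    kPrime l G = Nat.card {χ : IrrCharacter G // ¬ l ∣ degree χ} :=
  Nat.card_congr (Equiv.subtypeEquivRight fun χ => by rw [Char.charDegree_eq_degree])

theorem kPrime_congr (l : ℕ) {G H : Type*} [Group G] [Group H] (e : G ≃* H) :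
    kPrime l G = kPrime l H :=
  Nat.card_congr ((Char.irrCongr e).subtypeEquiv fun χ => by
    unfold Cfsg.charDegree
    simp [Char.irrCongr])

/-- All degrees divide the index of an abelian normal subgroup. -/
theorem kPrime_of_abelian_normal {l : ℕ} {G : Type*} [Group G] [Finite G] (A : Subgroup G)
    [A.Normal] (hab : ∀ a ∈ A, ∀ b ∈ A, a * b = b * a) (hl : ¬ l ∣ A.index) :
    kPrime l G = Nat.card (ConjClasses G) := by
  have := Fintype.ofFinite G
  rw [← Char.card_irr, kPrime_eq]
  exact Nat.card_congr (Equiv.subtypeUnivEquiv fun χ h => hl (h.trans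
    (Char.degree_dvd_index_of_comm A hab χ)))

/-- In a generalised quaternion group four characters have odd degree. -/
theorem kPrime_quaternion {k : ℕ} (hk : 1 ≤ k) : kPrime 2 (QuaternionGroup (2 ^ k)) = 4 := by
  classical
  set Q := QuaternionGroup (2 ^ k)
  have hpG : IsPGroup 2 Q := IsPGroup.of_card (n := k + 2) (by
    rw [Nat.card_eq_fintype_card, QuaternionGroup.card, pow_add]
    ring)
  obtain ⟨n, hn⟩ := IsPGroup.iff_card.1 hpG
  have hdeg : ∀ χ : IrrCharacter Q, degree χ = 1 ∨ 2 ∣ degree χ := by
    intro χ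
    obtain ⟨i, -, hi⟩ := (Nat.dvd_prime_pow Nat.prime_two).1 (hn ▸ Char.degree_dvd_natCard χ)
    rcases Nat.eq_zero_or_pos i with rfl | h0
    · exact Or.inl (by simpa using hi)
    · exact Or.inr (hi ▸ dvd_pow_self 2 h0.ne')
  have hL : kPrime 2 Q = (commutator Q).index := by
    rw [← Char.card_linear, kPrime_eq]
    refine Nat.card_congr (Equiv.subtypeEquivRight fun χ => ?_)
    rw [Char.apply_one_eq_degree, Nat.cast_eq_one]
    rcases hdeg χ with h | h
    · simp [h]
    · simp only [h, not_true, false_iff]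
      intro h1
      rw [h1] at h
      omega
  -- the index is at most `4`
  have hle : (commutator Q).index ≤ 4 := by
    have hsurj : Function.Surjective (fun b : Bool × Bool => QuotientGroup.mk (s := commutator Q)
        ((if b.1 then QuaternionGroup.xa 0 else 1) * (if b.2 then QuaternionGroup.a 1 else 1))) := by
      intro x
      obtain ⟨x, rfl⟩ := QuotientGroup.mk_surjective x
      have hmem : ∀ j : ZMod (2 * 2 ^ k), (QuaternionGroup.a (2 * j) : Q) ∈ commutator Q := by
        intro j
        have h := SylowSquares.sqDer_quaternion hk (QuaternionGroup.a j)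
        rwa [pow_two, QuaternionGroup.a_mul_a, ← two_mul] at h
      have hred : ∀ i : ZMod (2 * 2 ^ k), ∃ (e : Bool) (j : ZMod (2 * 2 ^ k)),
          i = (if e then 1 else 0) + 2 * j := by
        intro i
        refine ⟨i.val % 2 == 1, ((i.val / 2 : ℕ) : ZMod (2 * 2 ^ k)), ?_⟩
        conv_lhs => rw [← ZMod.natCast_zmod_val i, ← Nat.mod_add_div i.val 2]
        push_cast
        rcases Nat.mod_two_eq_zero_or_one i.val with h | h <;> simp [h]
      rcases x with i | i
      · obtain ⟨e, j, rfl⟩ := hred i
        refine ⟨(false, e), QuotientGroup.eq.2 ?_⟩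
        cases e
        · simpa using hmem j
        · simp only [Bool.false_eq_true, if_false, if_true, one_mul]
          have : (QuaternionGroup.a 1 : Q)⁻¹ * QuaternionGroup.a (1 + 2 * j) =
              QuaternionGroup.a (2 * j) := by
            rw [inv_mul_eq_iff_eq_mul, QuaternionGroup.a_mul_a]
          rw [this]; exact hmem j
      · obtain ⟨e, j, rfl⟩ := hred i
        refine ⟨(true, e), QuotientGroup.eq.2 ?_⟩
        cases e
        · simp only [Bool.false_eq_true, if_false, if_true, mul_one]
          have : (QuaternionGroup.xa 0 : Q)⁻¹ * QuaternionGroup.xa (0 + 2 * j) =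
              QuaternionGroup.a (2 * j) := by
            rw [inv_mul_eq_iff_eq_mul, QuaternionGroup.xa_mul_a]
          rw [this]; exact hmem j
        · simp only [if_true]
          have : (QuaternionGroup.xa 0 * QuaternionGroup.a 1 : Q)⁻¹ * QuaternionGroup.xa (1 + 2 * j) =
              QuaternionGroup.a (2 * j) := by
            rw [inv_mul_eq_iff_eq_mul, mul_assoc, QuaternionGroup.a_mul_a, QuaternionGroup.xa_mul_a,
              zero_add]
          rw [this]; exact hmem j
    have := Nat.card_le_card_of_surjective _ hsurj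
    rwa [← Subgroup.index_eq_card, Nat.card_prod, Nat.card_eq_fintype_card, Fintype.card_bool] at this
  -- and it is a multiple of `4`
  have h4 : 4 ∣ (commutator Q).index := by
    have hs := Char.sum_degree_sq (G := Q)
    rw [← Finset.sum_filter_add_sum_filter_not Finset.univ (fun χ : IrrCharacter Q => degree χ = 1),
      Finset.sum_congr rfl (g := fun _ => 1) (fun χ hχ => by rw [(Finset.mem_filter.1 hχ).2, one_pow]),
      Finset.sum_const, smul_eq_mul, mul_one] at hs
    have h1 : 4 ∣ ∑ χ ∈ Finset.univ.filter (fun χ : IrrCharacter Q => ¬ degree χ = 1), degree χ ^ 2 :=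
      Finset.dvd_sum fun χ hχ => by
        obtain ⟨c, hc⟩ := (hdeg χ).resolve_left (Finset.mem_filter.1 hχ).2
        exact ⟨c ^ 2, by rw [hc]; ring⟩
    have h2 : 4 ∣ Nat.card Q := by
      rw [Nat.card_eq_fintype_card, QuaternionGroup.card]
      exact dvd_mul_right 4 _
    rw [← hs] at h2
    have h3 := (Nat.dvd_add_left h1).1 h2
    rw [← Char.card_linear, Nat.card_eq_fintype_card, Fintype.card_subtype,
      Finset.filter_congr (q := fun χ : IrrCharacter Q => degree χ = 1) fun χ _ => by
        rw [Char.apply_one_eq_degree, Nat.cast_eq_one]]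
    exact h3
  have hpos : 0 < (commutator Q).index := Nat.pos_of_ne_zero Subgroup.index_ne_zero_of_finite
  obtain ⟨c, hc⟩ := h4
  rw [hL]
  omega

/-- A group `Q₈.3` with faithful action has four characters of odd degree. -/
theorem kPrime_q8_three {N : Type*} [Group N] [Finite N] (S : Subgroup N) [S.Normal]
    (hN : Nat.card N = 24) (hS : Nat.card S = 8)
    (huniq : ∀ a ∈ S, ∀ b ∈ S, orderOf a = 2 → orderOf b = 2 → a = b)
    (hcent : ∀ x : N, (∀ s ∈ S, x * s = s * x) → x ∈ S) : kPrime 2 N = 4 := by
  classical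
  have := Fintype.ofFinite N
  have : Fact (Nat.Prime 2) := ⟨Nat.prime_two⟩
  have hSidx : S.index = 3 := by
    have := S.card_mul_index
    rw [hS, hN] at this
    omega
  have hSq : ∀ a b : N, a * b * a⁻¹ * b⁻¹ ∈ S := by
    have : Fact (Nat.Prime 3) := ⟨Nat.prime_three⟩
    have hc : IsCyclic (N ⧸ S) := isCyclic_of_prime_card (p := 3) (by
      rw [← S.index_eq_card, hSidx])
    intro a b
    let := hc.commGroup
    rw [← QuotientGroup.eq_one_iff]
    simp only [QuotientGroup.mk_mul, QuotientGroup.mk_inv]
    rw [mul_inv_eq_one, mul_inv_eq_iff_eq_mul]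
    exact mul_comm _ _
  have hle : commutator N ≤ S := by
    rw [_root_.commutator_def, Subgroup.commutator_le]
    exact fun a _ b _ => hSq a b
  -- the derived subgroup is `S`
  have hn1 : (commutator N).index = 3 := by
    rw [← hSidx]
    congr 1
    by_contra hne
    obtain ⟨x, hx⟩ := exists_prime_orderOf_dvd_card' (G := N) 3 (by rw [hN]; norm_num)
    have hxS : x ∉ S := fun h => by
      have := Subgroup.orderOf_dvd_natCard S h
      rw [hx, hS] at this
      norm_num at this
    have hx3 : x ^ 3 = 1 := by rw [← hx]; exact pow_orderOf_eq_one x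
    have hd : Nat.card (commutator N) ∣ 4 := by
      have h8 := hS ▸ Subgroup.card_dvd_of_le hle
      obtain ⟨i, hi, hi'⟩ := (Nat.dvd_prime_pow (m := 3) Nat.prime_two).1 h8
      have : i ≠ 3 := by
        rintro rfl
        exact hne (Subgroup.eq_of_le_of_card_ge hle (by rw [hS, hi']; norm_num))
      rw [hi']
      exact (pow_dvd_pow 2 (show i ≤ 2 by omega)).trans (by norm_num)
    have hcyc : ∀ y ∈ commutator N, x * y * x⁻¹ = y := by
      intro y hy
      by_contra hxy
      have hmem : ∀ {z : N}, z ∈ commutator N → x * z * x⁻¹ ∈ commutator N := fun {z} hz =>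
        (inferInstance : (commutator N).Normal).conj_mem z hz x
      set y1 := x * y * x⁻¹ with hy1
      set y2 := x * y1 * x⁻¹ with hy2
      have h3 : x * y2 * x⁻¹ = y := by
        rw [hy2, hy1, show x * (x * (x * y * x⁻¹) * x⁻¹) * x⁻¹ = x ^ 3 * y * (x ^ 3)⁻¹ by
          simp only [pow_succ, pow_zero, one_mul, _root_.mul_inv_rev, mul_assoc], hx3]
        simp
      have hinj : ∀ {u v : N}, x * u * x⁻¹ = x * v * x⁻¹ → u = v := fun {u v} h => by
        simpa using h
      have n12 : y1 ≠ y2 := fun h => hxy (by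
        have := hinj (u := y) (v := y1) (by rw [← hy1]; exact h)
        exact this.symm)
      have n20 : y2 ≠ y := fun h => n12 (hinj (u := y1) (v := y2) (by rw [← hy2, h3, h]))
      have h1 : y ≠ 1 := fun h => hxy (by simp [hy1, h])
      -- three conjugates, of one order, in a group of order dividing `4`
      have ho : ∀ u : N, orderOf (x * u * x⁻¹) = orderOf u := fun u =>
        orderOf_injective (MulAut.conj x).toMonoidHom (MulEquiv.injective _) u
      have hne2 : orderOf y ≠ 2 := fun h => hxy (huniq y1 (hle (hmem hy)) y (hle hy) (by rw [hy1, ho, h]) h)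
      have hd4 : orderOf y ∣ 4 := (Subgroup.orderOf_dvd_natCard _ hy).trans hd
      have ho4 : orderOf y = 4 := by
        obtain ⟨i, hi, hi'⟩ := (Nat.dvd_prime_pow (m := 2) Nat.prime_two).1 hd4
        interval_cases i
        · exact absurd (orderOf_eq_one_iff.1 hi') h1
        · exact absurd hi' hne2
        · exact hi'
      have hc4 : Nat.card (commutator N) ≤ 4 := Nat.le_of_dvd (by norm_num) hd
      let f : Fin 5 → commutator N := ![1, ⟨y ^ 2, pow_mem hy 2⟩, ⟨y, hy⟩, ⟨y1, hmem hy⟩, ⟨y2, hmem (hmem hy)⟩]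
      have ho' : ∀ i : Fin 5, orderOf (f i) = ![1, 2, 4, 4, 4] i := by
        intro i
        fin_cases i
        · simp [f]
        · show orderOf (⟨y ^ 2, _⟩ : commutator N) = 2
          rw [Subgroup.orderOf_mk, orderOf_pow' y two_ne_zero, ho4]
          rfl
        · show orderOf (⟨y, _⟩ : commutator N) = 4
          rw [Subgroup.orderOf_mk, ho4]
        · show orderOf (⟨y1, _⟩ : commutator N) = 4
          rw [Subgroup.orderOf_mk, hy1, ho, ho4]
        · show orderOf (⟨y2, _⟩ : commutator N) = 4
          rw [Subgroup.orderOf_mk, hy2, ho, hy1, ho, ho4]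
      have hf : Function.Injective f := by
        intro i j hij
        have e := congrArg orderOf hij
        rw [ho', ho'] at e
        fin_cases i <;> fin_cases j <;> first
          | rfl
          | (simp at e; done)
          | exact absurd (congrArg Subtype.val hij) hxy
          | exact absurd (congrArg Subtype.val hij) (Ne.symm hxy)
          | exact absurd (congrArg Subtype.val hij) n12
          | exact absurd (congrArg Subtype.val hij) n12.symm
          | exact absurd (congrArg Subtype.val hij) n20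
          | exact absurd (congrArg Subtype.val hij) n20.symm
      have := Nat.card_le_card_of_injective f hf
      rw [Nat.card_eq_fintype_card, Fintype.card_fin] at this
      omega
    refine hxS (hcent x fun s hs => ?_)
    set y := x * s * x⁻¹ * s⁻¹ with hy
    have hyc : y ∈ commutator N := by
      rw [_root_.commutator_def]
      exact Subgroup.commutator_mem_commutator (Subgroup.mem_top x) (Subgroup.mem_top s)
    have hxy := hcyc y hyc
    have e1 : x * s * x⁻¹ = y * s := by rw [hy]; group
    have e3 : x ^ 3 * s * (x ^ 3)⁻¹ = y ^ 3 * s := by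
      have e2 : x * (y * s) * x⁻¹ = y * (y * s) :=
        (show x * (y * s) * x⁻¹ = (x * y * x⁻¹) * (x * s * x⁻¹) by group).trans (by rw [hxy, e1])
      calc x ^ 3 * s * (x ^ 3)⁻¹ = x * (x * (x * s * x⁻¹) * x⁻¹) * x⁻¹ := by
            simp only [pow_succ, pow_zero, one_mul, _root_.mul_inv_rev, mul_assoc]
        _ = x * (x * (y * s) * x⁻¹) * x⁻¹ := by rw [e1]
        _ = x * (y * (y * s)) * x⁻¹ := by rw [e2]
        _ = (x * y * x⁻¹) * (x * (y * s) * x⁻¹) := by group
        _ = y ^ 3 * s := by rw [hxy, e2]; simp only [pow_succ, pow_zero, one_mul, mul_assoc]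
    rw [hx3] at e3
    have hy3 : y ^ 3 = 1 := by simpa using e3.symm
    have hy4 : y ^ 4 = 1 := orderOf_dvd_iff_pow_eq_one.1 ((Subgroup.orderOf_dvd_natCard _ hyc).trans hd)
    have hy0 : y = 1 := by
      have := pow_gcd_eq_one.2 ⟨hy3, hy4⟩
      simpa using this
    rw [hy0, one_mul] at e1
    exact mul_inv_eq_iff_eq_mul.1 e1
  -- degrees
  have hdeg : ∀ χ : IrrCharacter N, degree χ = 1 ∨ degree χ = 2 ∨ degree χ = 3 ∨ degree χ = 4 := by
    intro χ
    have h1 : degree χ ∣ 24 := hN ▸ Char.degree_dvd_natCard χ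
    have h2 : degree χ ^ 2 ≤ 24 := by
      rw [← hN, ← Char.sum_degree_sq (G := N)]
      exact Finset.single_le_sum (f := fun χ : IrrCharacter N => degree χ ^ 2)
        (fun _ _ => Nat.zero_le _) (Finset.mem_univ χ)
    have h3 := Char.degree_pos χ
    have h4 : degree χ ≤ 4 := by
      by_contra h
      have : 5 ^ 2 ≤ degree χ ^ 2 := Nat.pow_le_pow_left (by omega) 2
      omega
    omega
  set c := fun d => (Finset.univ.filter fun χ : IrrCharacter N => degree χ = d).card with hc
  have hsum : c 1 + 4 * c 2 + 9 * c 3 + 16 * c 4 = 24 := by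
    rw [← hN, ← Char.sum_degree_sq (G := N),
      ← Finset.sum_fiberwise_of_maps_to (t := {1, 2, 3, 4}) (g := fun χ : IrrCharacter N => degree χ)
        (fun χ _ => by simpa using hdeg χ)]
    have : ∀ d, ∑ χ ∈ Finset.univ.filter (fun χ : IrrCharacter N => degree χ = d), degree χ ^ 2 =
        c d * d ^ 2 := fun d => by
      rw [Finset.sum_congr rfl (g := fun _ => d ^ 2) (fun χ hχ => by rw [(Finset.mem_filter.1 hχ).2]),
        Finset.sum_const, smul_eq_mul]
    simp [this]
    ring
  have hc1 : c 1 = 3 := by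
    rw [← hn1, ← Char.card_linear, Nat.card_eq_fintype_card, Fintype.card_subtype]
    refine congrArg Finset.card (Finset.filter_congr fun χ _ => ?_)
    rw [Char.apply_one_eq_degree, Nat.cast_eq_one]
  have hk : kPrime 2 N = c 1 + c 3 := by
    rw [kPrime_eq, Nat.card_eq_fintype_card, Fintype.card_subtype]
    simp only [hc]
    rw [← Finset.card_union_of_disjoint (by
      rw [Finset.disjoint_filter]; intro χ _ h; omega), ← Finset.filter_or]
    refine congrArg Finset.card (Finset.filter_congr fun χ _ => ?_)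
    rcases hdeg χ with h | h | h | h <;> simp [h] <;> omega
  omega

variable {F : Type*} [Field F] [Fintype F]

/-- The count for `SL₂(q)`. -/
theorem kPrime_SL {m : ℕ} (hm : Fintype.card F = 2 * m + 1) (l : ℕ) :
    kPrime l SL(2, F) = (if l ∣ 1 then 0 else 1) + (if l ∣ 2 * m + 1 then 0 else 1) +
      2 * (if l ∣ m + 1 then 0 else 1) + (m - 1) * (if l ∣ 2 * m + 2 then 0 else 1) +
      2 * (if l ∣ m then 0 else 1) + m * (if l ∣ 2 * m then 0 else 1) := by
  classical
  obtain ⟨C, k, hk, hsum⟩ := GL2Char.exists_degree_sum hm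
  have hm1 : 1 ≤ m := by
    have := Fintype.one_lt_card (α := F)
    omega
  have hsplit : ∀ g : ℕ → ℕ, ∑ θ ∈ C, g (k θ * m) =
      (C.filter fun θ => k θ = 1).card * g m + (C.filter fun θ => ¬ k θ = 1).card * g (2 * m) := by
    intro g
    rw [← Finset.sum_filter_add_sum_filter_not C (fun θ => k θ = 1)]
    refine congrArg₂ (· + ·) ?_ ?_
    · rw [Finset.sum_congr rfl (g := fun _ => g m) fun θ hθ => by
        rw [(Finset.mem_filter.1 hθ).2, one_mul], Finset.sum_const, smul_eq_mul]
    · rw [Finset.sum_congr rfl (g := fun _ => g (2 * m)) fun θ hθ => by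
        rw [(hk θ (Finset.mem_filter.1 hθ).1).resolve_left (Finset.mem_filter.1 hθ).2],
        Finset.sum_const, smul_eq_mul]
  set a := (C.filter fun θ => k θ = 1).card
  set b := (C.filter fun θ => ¬ k θ = 1).card
  have hcls : Fintype.card (IrrCharacter (SpecialLinearGroup (Fin 2) F)) = 2 * m + 5 := by
    rw [← Nat.card_eq_fintype_card, Char.card_irr, GL2Char.card_conjClasses_SL2_odd ⟨m, hm⟩, hm]
  have h1 := hsum fun _ => 1
  rw [hsplit fun _ => 1, Finset.sum_const, Finset.card_univ, hcls, smul_eq_mul] at h1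
  have h2 := hsum fun x => x ^ 2
  rw [hsplit fun x => x ^ 2, Char.sum_degree_sq, PSL2.card_SL, hm] at h2
  have hC : a + b = m + 2 := by omega
  have hC' : a + 4 * b = 4 * m + 2 := by
    rw [show (2 * m + 1) ^ 2 - 1 = 4 * (m * m + m) from Nat.sub_eq_of_eq_add (by ring)] at h2
    obtain ⟨r, rfl⟩ : ∃ r, m = r + 1 := ⟨m - 1, by omega⟩
    rw [Nat.add_sub_cancel] at h2
    refine Nat.eq_of_mul_eq_mul_right (show 0 < (r + 1) * (r + 1) by positivity) ?_
    zify at h2 ⊢
    linear_combination -h2
  have hv := hsum fun x => if l ∣ x then 0 else 1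
  rw [hsplit fun x => if l ∣ x then 0 else 1, show a = 2 by omega, show b = m by omega] at hv
  rw [kPrime_eq, Nat.card_eq_fintype_card, Fintype.card_subtype, Finset.card_filter]
  simp only [ite_not]
  rw [hv]
  ring

theorem kPrime_borel (hodd : Odd (Fintype.card F)) (p : ℕ) [Fact p.Prime] [CharP F p] :
    kPrime p (PSL2.borel F) = Fintype.card F + 3 := by
  rw [← PSL2.card_conjClasses_borel (PSL2.odd_card_iff.1 hodd)]
  have hle : PSL2.unip F ≤ PSL2.borel F := PSL2.unip_le_borel
  have : ((PSL2.unip F).subgroupOf (PSL2.borel F)).Normal := by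
    refine Coprime.normal_subgroupOf_of_le_normalizer (H := PSL2.unip F) ?_
    rw [PSL2.normalizer_unip]
  refine kPrime_of_abelian_normal ((PSL2.unip F).subgroupOf (PSL2.borel F)) ?_ ?_
  · rintro a ⟨x, hx⟩ b ⟨y, hy⟩
    refine Subtype.ext ?_
    show (a : SL(2, F)) * b = b * a
    rw [show (a : SL(2, F)) = PSL2.uuHom x from hx.symm, show (b : SL(2, F)) = PSL2.uuHom y from hy.symm,
      ← map_mul, ← map_mul, mul_comm]
  · intro h
    exact PSL2.not_dvd_unip_index (F := F) p (h.trans
      (Subgroup.relIndex_dvd_index_of_le hle))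

theorem kPrime_torus {l : ℕ} (hl : l ≠ 2) [Fact l.Prime] (hodd : Odd (Fintype.card F)) {g : SL(2, F)}
    (h4 : PSL2.tr g ^ 2 ≠ 4) :
    2 * kPrime l (Subgroup.normalizer (PSL2.cent g : Set SL(2, F))) = Nat.card (PSL2.cent g) + 6 := by
  rw [← PSL2.card_conjClasses_normalizer_cent (PSL2.odd_card_iff.1 hodd) h4]
  congr 1
  set N := Subgroup.normalizer (PSL2.cent g : Set SL(2, F))
  have : ((PSL2.cent g).subgroupOf N).Normal :=
    Coprime.normal_subgroupOf_of_le_normalizer (H := PSL2.cent g) le_rfl
  refine kPrime_of_abelian_normal ((PSL2.cent g).subgroupOf N) ?_ ?_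
  · intro a ha b hb
    exact Subtype.ext (PSL2.cent_comm (PSL2.not_mem_center_of_tr h4) (PSL2.mem_cent.1 ha)
      (PSL2.mem_cent.1 hb)).eq
  · intro h
    have hidx : ((PSL2.cent g).subgroupOf N).index = 2 := by
      have e := ((PSL2.cent g).subgroupOf N).index_mul_card
      rw [Coprime.card_subgroupOf (PSL2.cent_le_normalizer g), PSL2.card_normalizer_cent h4] at e
      exact Nat.eq_of_mul_eq_mul_right Nat.card_pos e
    rw [hidx] at h
    exact hl ((Nat.prime_dvd_prime_iff_eq Fact.out Nat.prime_two).1 h)

theorem kPrime_two_normalizer (hodd : Odd (Fintype.card F)) (S : Sylow 2 SL(2, F)) :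
    kPrime 2 (Subgroup.normalizer ((S : Subgroup SL(2, F)) : Set SL(2, F))) = 4 := by
  have h2 := PSL2.odd_card_iff.1 hodd
  obtain ⟨k, hk, hcard, ⟨e⟩⟩ := PSL2.sylow_two_quaternion h2 S
  have hmod : Fintype.card F % 8 = 1 ∨ Fintype.card F % 8 = 7 ∨
      (Fintype.card F % 8 = 3 ∨ Fintype.card F % 8 = 5) := by
    obtain ⟨m, hm⟩ := hodd
    omega
  rcases hmod with h | h | h
  · rw [PSL2.normalizer_sylow_two_eight (Or.inl h) S, kPrime_congr 2 e, kPrime_quaternion hk]
  · rw [PSL2.normalizer_sylow_two_eight (Or.inr h) S, kPrime_congr 2 e, kPrime_quaternion hk]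
  · set N := Subgroup.normalizer ((S : Subgroup SL(2, F)) : Set SL(2, F)) with hN
    have hN3 := PSL2.card_normalizer_sylow_two_three h S
    have h8 : Nat.card S = 8 := by
      have hdvd : Nat.card S ∣ Nat.card SL(2, F) := Subgroup.card_subgroup_dvd_card _
      rw [PSL2.card_SL'] at hdvd
      obtain ⟨j, rfl⟩ : ∃ j, k = j + 1 := ⟨k - 1, by omega⟩
      rcases Nat.eq_zero_or_pos j with rfl | hj
      · rw [hcard]; norm_num
      · exfalso
        obtain ⟨m, hm⟩ := hodd
        have h16 : 16 ∣ Nat.card S := hcard ▸ (show 16 = 2 ^ 4 by norm_num) ▸ pow_dvd_pow 2 (by omega)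
        have h16' := h16.trans hdvd
        rw [hm, show 2 * m + 1 - 1 = 2 * m by omega] at h16'
        have hodd' : (Nat.Coprime 4 (2 * m + 1)) := by
          rw [show (4 : ℕ) = 2 ^ 2 by norm_num]
          exact Nat.Coprime.pow_left 2 (by simp)
        have h4 : 4 ∣ m * (m + 1) * (2 * m + 1) := by
          refine Nat.dvd_of_mul_dvd_mul_left (show 0 < 4 by norm_num) ?_
          rw [show 4 * (m * (m + 1) * (2 * m + 1)) = (2 * m + 1) * (2 * m) * (2 * m + 1 + 1) by ring]
          exact (show 4 * 4 ∣ 16 by norm_num).trans h16'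
        have h4' : 4 ∣ m * (m + 1) := hodd'.dvd_of_dvd_mul_right h4
        rcases h with h | h <;>
          · rw [hm] at h
            have h4m : m % 4 = 1 ∨ m % 4 = 2 := by omega
            obtain ⟨c, hc⟩ := h4'
            rcases h4m with h' | h' <;>
              · have := congrArg (· % 4) hc
                simp [Nat.mul_mod, Nat.add_mod, h'] at this
    have : ((S : Subgroup SL(2, F)).subgroupOf N).Normal := Subgroup.normal_in_normalizer
    refine kPrime_q8_three ((S : Subgroup SL(2, F)).subgroupOf N) ?_ ?_ ?_ ?_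
    · rw [hN3, h8]
    · rw [Coprime.card_subgroupOf Subgroup.le_normalizer]
      exact h8
    · intro a _ b _ ha hb
      refine Subtype.ext ?_
      have key : ∀ x : N, orderOf x = 2 → (x : SL(2, F)) = -1 := fun x hx => by
        have : (x : SL(2, F)) * x = 1 := by
          have h' : x * x = 1 := by
            rw [← pow_two]; exact orderOf_dvd_iff_pow_eq_one.1 (dvd_of_eq hx)
          exact congrArg Subtype.val h'
        rcases PSL2.eq_pm_of_mul_self_eq_one h2 this with h' | h'
        · rw [OneMemClass.coe_eq_one] at h'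
          rw [h', orderOf_one] at hx
          omega
        · exact h'
      rw [key a ha, key b hb]
    · intro x hx
      show (x : SL(2, F)) ∈ (S : Subgroup SL(2, F))
      have hc : (x : SL(2, F)) ∈ Subgroup.centralizer ((S : Subgroup SL(2, F)) : Set SL(2, F)) :=
        Subgroup.mem_centralizer_iff.2 fun s hs =>
          (congrArg Subtype.val (hx ⟨s, Subgroup.le_normalizer hs⟩ hs)).symm
      rw [PSL2.centralizer_sylow_two h2 S] at hc
      rcases PSL2.mem_center_iff_pm.1 hc with h' | h'
      · rw [h']; exact one_mem _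
      · obtain ⟨s, hs⟩ := exists_prime_orderOf_dvd_card' (G := (S : Subgroup SL(2, F))) 2
          (show 2 ∣ Nat.card S by rw [h8]; norm_num)
        have : (s : SL(2, F)) * s = 1 := by
          have h4' : s * s = 1 := by
            rw [← pow_two]; exact orderOf_dvd_iff_pow_eq_one.1 (dvd_of_eq hs)
          exact congrArg Subtype.val h4'
        rcases PSL2.eq_pm_of_mul_self_eq_one h2 this with h'' | h''
        · rw [OneMemClass.coe_eq_one] at h''
          rw [h'', orderOf_one] at hs
          omega
        · rw [h', ← h'']; exact s.2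

end Cfsg.Agent.McKaySL2
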