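import Mathlib.NumberTheory.LegendreSymbol.QuadraticChar.Basic
import Cfsg.Agent.Lib.PSL2.TraceClasses
import Cfsg.Agent.Lib.SL2Unipotent.Basic

/-!
`SL₂` over a finite field of odd order `q` has `q + 4` conjugacy classes.
-/

set_option autoImplicit false

namespace Cfsg.Agent.GL2Char

open Matrix Cfsg.Agent.SL2Unipotent Cfsg.Agent.PSL2.TraceClasses
open scoped MatrixGroups

variable {F : Type*} [Field F]

/-- A central sign. -/
def sgnS (s : Bool) : SpecialLinearGroup (Fin 2) F :=
  ⟨!![if s then -1 else 1, 0; 0, if s then -1 else 1], by cases s <;> simp [det_fin_two]⟩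

theorem coe_sgnS (s : Bool) : ((sgnS s : SpecialLinearGroup (Fin 2) F) : Matrix (Fin 2) (Fin 2) F) =
    !![if s then -1 else 1, 0; 0, if s then -1 else 1] := rfl

theorem coe_uv (b x y : F) : ((uv b x y : SpecialLinearGroup (Fin 2) F) : Matrix (Fin 2) (Fin 2) F) =
    !![1 - b * x * y, b * x * x; -(b * y * y), 1 + b * x * y] := rfl

theorem sgnS_comm (s : Bool) (g : SpecialLinearGroup (Fin 2) F) : sgnS s * g = g * sgnS s := by
  refine Matrix.SpecialLinearGroup.ext _ _ fun i j => ?_
  rw [Matrix.SpecialLinearGroup.coe_mul, Matrix.SpecialLinearGroup.coe_mul]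
  fin_cases i <;> fin_cases j <;> cases s <;> simp [coe_sgnS, Matrix.SpecialLinearGroup.coe_mul, mul_apply, Fin.sum_univ_two]

theorem sgnS_mul_self (s : Bool) : sgnS s * sgnS s = (1 : SpecialLinearGroup (Fin 2) F) := by
  refine Matrix.SpecialLinearGroup.ext _ _ fun i j => ?_
  rw [Matrix.SpecialLinearGroup.coe_mul, Matrix.SpecialLinearGroup.coe_one]
  fin_cases i <;> fin_cases j <;> cases s <;> simp [coe_sgnS, Matrix.SpecialLinearGroup.coe_mul, mul_apply, Fin.sum_univ_two]

theorem isConj_sgnS_mul (s : Bool) {g h : SpecialLinearGroup (Fin 2) F} (hc : IsConj g h) :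
    IsConj (sgnS s * g) (sgnS s * h) := by
  obtain ⟨c, rfl⟩ := isConj_iff.1 hc
  refine isConj_iff.2 ⟨c, ?_⟩
  rw [← mul_assoc c, ← sgnS_comm s c]
  simp only [mul_assoc]

theorem trace_eq_of_isConj {g h : SpecialLinearGroup (Fin 2) F} (hc : IsConj g h) :
    (g : Matrix (Fin 2) (Fin 2) F) 0 0 + (g : Matrix (Fin 2) (Fin 2) F) 1 1 =
      (h : Matrix (Fin 2) (Fin 2) F) 0 0 + (h : Matrix (Fin 2) (Fin 2) F) 1 1 := by
  obtain ⟨c, rfl⟩ := isConj_iff.1 hc
  rw [← trace_fin_two, ← trace_fin_two, Matrix.SpecialLinearGroup.coe_mul (c * g) c⁻¹, trace_mul_comm,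
    ← Matrix.SpecialLinearGroup.coe_mul, inv_mul_cancel_left]

theorem eq_sgnS_of_isConj {s : Bool} {h : SpecialLinearGroup (Fin 2) F}
    (hc : IsConj (sgnS s) h) : h = sgnS s := by
  obtain ⟨c, rfl⟩ := isConj_iff.1 hc
  rw [← sgnS_comm s c, mul_inv_cancel_right]

/-- Representatives of the classes of `SL₂` for odd `q`. -/
def slClassRep (ν : F) : Bool ⊕ {t : F // t ^ 2 ≠ 4} ⊕ Bool × Bool → SpecialLinearGroup (Fin 2) F
  | Sum.inl s => sgnS s
  | Sum.inr (Sum.inl t) => comp 1 t.1 one_ne_zero
  | Sum.inr (Sum.inr p) => sgnS p.1 * uv (if p.2 then ν else 1) 1 0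

variable [Fintype F]

theorem isSquare_mul_of_not (h2 : (2 : F) ≠ 0) {a b : F} (ha : ¬ IsSquare a) (hb : ¬ IsSquare b) :
    IsSquare (a * b) := by
  classical
  have hF : ringChar F ≠ 2 := fun h => h2 (by
    have := CharP.cast_eq_zero F (ringChar F)
    rwa [h, Nat.cast_ofNat] at this)
  have ha0 : a ≠ 0 := fun h => ha (h ▸ IsSquare.zero)
  have hb0 : b ≠ 0 := fun h => hb (h ▸ IsSquare.zero)
  refine (quadraticChar_one_iff_isSquare (mul_ne_zero ha0 hb0)).1 ?_
  rw [map_mul, quadraticChar_neg_one_iff_not_isSquare.2 ha,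
    quadraticChar_neg_one_iff_not_isSquare.2 hb]
  norm_num

theorem slClassRep_bijective (h2 : (2 : F) ≠ 0) (ν : F) (hν : ¬ IsSquare ν) :
    Function.Bijective fun i => ConjClasses.mk (slClassRep ν i) := by
  have hν0 : ν ≠ 0 := fun h => hν (h ▸ IsSquare.zero)
  have h4 : ∀ s : Bool, ((if s then (-1 : F) else 1) + (if s then -1 else 1)) ^ 2 = 4 := by
    intro s; cases s <;> norm_num
  have hsinj : ∀ s s' : Bool, ((if s then (-1 : F) else 1) + (if s then -1 else 1)) =
      ((if s' then (-1 : F) else 1) + (if s' then -1 else 1)) → s = s' := by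
    intro s s' h
    cases s <;> cases s' <;> simp at h ⊢ <;>
      exact absurd (show (2 : F) * 2 = 0 by first | linear_combination h | linear_combination -h) (mul_ne_zero h2 h2)
  have hb : ∀ c : Bool, (if c then ν else (1 : F)) ≠ 0 := by
    intro c; cases c <;> simp [hν0]
  have hsc : ∀ (s : Bool) (p : Bool × Bool),
      slClassRep ν (Sum.inr (Sum.inr p)) ≠ sgnS s := by
    intro s p h
    have e := congrArg (fun g : SpecialLinearGroup (Fin 2) F => (g : Matrix (Fin 2) (Fin 2) F) 0 1) h
    obtain ⟨a, c⟩ := p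
    cases a <;> cases c <;> simp [slClassRep, coe_sgnS, Matrix.SpecialLinearGroup.coe_mul, coe_uv, mul_apply, Fin.sum_univ_two, hν0] at e
  constructor
  · rintro i j hij
    have h := ConjClasses.mk_eq_mk_iff_isConj.1 hij
    have htr := trace_eq_of_isConj h
    rcases i with s | ⟨t, ht⟩ | p <;> rcases j with s' | ⟨t', ht'⟩ | p'
    · have := eq_sgnS_of_isConj h
      have := congrArg (fun g : SpecialLinearGroup (Fin 2) F => (g : Matrix (Fin 2) (Fin 2) F) 0 0) this
      simp [slClassRep, coe_sgnS] at this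
      cases s <;> cases s' <;> simp at this ⊢ <;>
        exact absurd (show (2 : F) = 0 by first | linear_combination this | linear_combination -this) h2
    · simp [slClassRep, coe_sgnS, Matrix.SpecialLinearGroup.coe_mul, coe_comp] at htr
      exact absurd (by rw [← htr]; exact h4 s) ht'
    · exact absurd (eq_sgnS_of_isConj h) (hsc s p')
    · simp [slClassRep, coe_sgnS, Matrix.SpecialLinearGroup.coe_mul, coe_comp] at htr
      exact absurd (by rw [htr]; exact h4 s') ht
    · simp [slClassRep, coe_comp] at htr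
      subst htr
      rfl
    · simp [slClassRep, coe_sgnS, Matrix.SpecialLinearGroup.coe_mul, coe_comp, coe_uv, mul_apply, Fin.sum_univ_two] at htr
      exact absurd (by rw [htr]; exact h4 p'.1) ht
    · exact absurd (eq_sgnS_of_isConj h.symm) (hsc s' p)
    · simp [slClassRep, coe_sgnS, Matrix.SpecialLinearGroup.coe_mul, coe_comp, coe_uv, mul_apply, Fin.sum_univ_two] at htr
      exact absurd (by rw [← htr]; exact h4 p.1) ht'
    · simp [slClassRep, coe_sgnS, Matrix.SpecialLinearGroup.coe_mul, coe_uv, mul_apply, Fin.sum_univ_two] at htr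
      obtain ⟨s, c⟩ := p
      obtain ⟨s', c'⟩ := p'
      obtain rfl : s = s' := hsinj s s' htr
      have h' := isConj_sgnS_mul s h
      simp only [slClassRep] at h'
      rw [← mul_assoc, sgnS_mul_self, one_mul, ← mul_assoc, sgnS_mul_self, one_mul,
        isConj_uv_iff (hb c) (hb c')] at h'
      cases c <;> cases c'
      · rfl
      · simp [hν] at h'
      · simp [hν] at h'
      · rfl
  · intro q
    obtain ⟨g, rfl⟩ := ConjClasses.mk_surjective q
    by_cases hg : IsScalar' (g : Matrix (Fin 2) (Fin 2) F)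
    · obtain ⟨h01, h10, h00⟩ := hg
      have hd := det_eq g
      rw [h01, zero_mul, sub_zero, ← h00] at hd
      rcases mul_self_eq_one_iff.1 hd with h | h
      · refine ⟨Sum.inl false, congrArg ConjClasses.mk (Subtype.ext ?_)⟩
        ext i j
        fin_cases i <;> fin_cases j <;> simp [slClassRep, coe_sgnS, Matrix.SpecialLinearGroup.coe_mul, h01, h10, ← h00, h]
      · refine ⟨Sum.inl true, congrArg ConjClasses.mk (Subtype.ext ?_)⟩
        ext i j
        fin_cases i <;> fin_cases j <;> simp [slClassRep, coe_sgnS, Matrix.SpecialLinearGroup.coe_mul, h01, h10, ← h00, h]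
    by_cases ht : ((g : Matrix (Fin 2) (Fin 2) F) 0 0 + (g : Matrix (Fin 2) (Fin 2) F) 1 1) ^ 2 = 4
    · obtain ⟨s, hs⟩ : ∃ s : Bool, (g : Matrix (Fin 2) (Fin 2) F) 0 0 +
          (g : Matrix (Fin 2) (Fin 2) F) 1 1 =
          (if s then (-1 : F) else 1) + (if s then -1 else 1) := by
        rcases sq_eq_sq_iff_eq_or_eq_neg.1 (ht.trans (by norm_num : (4 : F) = 2 ^ 2)) with h | h
        · exact ⟨false, by rw [h]; norm_num⟩
        · exact ⟨true, by rw [h]; norm_num⟩
      set u := sgnS s * g with hu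
      have hu2 : (u : Matrix (Fin 2) (Fin 2) F) 0 0 + (u : Matrix (Fin 2) (Fin 2) F) 1 1 = 2 := by
        cases s <;> simp [hu, coe_sgnS, Matrix.SpecialLinearGroup.coe_mul, mul_apply, Fin.sum_univ_two] at hs ⊢ <;>
          first | linear_combination hs | linear_combination -hs
      have hud := det_eq u
      have hus : ¬ IsScalar' (u : Matrix (Fin 2) (Fin 2) F) := by
        rintro ⟨h01, h10, h00⟩
        refine hg ?_
        cases s <;> simp [hu, coe_sgnS, Matrix.SpecialLinearGroup.coe_mul, mul_apply, Fin.sum_univ_two] at h01 h10 h00 <;>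
          exact ⟨h01, h10, h00⟩
      obtain ⟨b, x, y, hbne, hxy, huv⟩ : ∃ b x y : F, b ≠ 0 ∧ (x, y) ≠ 0 ∧ uv b x y = u := by
        set n := (u : Matrix (Fin 2) (Fin 2) F) 0 0 - 1 with hn
        have hn2 : n * n + (u : Matrix (Fin 2) (Fin 2) F) 0 1 * (u : Matrix (Fin 2) (Fin 2) F) 1 0 = 0 := by
          linear_combination (u : Matrix (Fin 2) (Fin 2) F) 0 0 * hu2 - hud
        by_cases hb0 : (u : Matrix (Fin 2) (Fin 2) F) 0 1 = 0
        · have hn0 : n = 0 := by
            rw [hb0, zero_mul, add_zero] at hn2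
            exact mul_self_eq_zero.1 hn2
          have hc0 : (u : Matrix (Fin 2) (Fin 2) F) 1 0 ≠ 0 := fun hc => hus ⟨hb0, hc, by
            linear_combination 2 * hn0 - 2 * hn - hu2⟩
          have hu00 : (u : Matrix (Fin 2) (Fin 2) F) 0 0 = 1 := by linear_combination hn0 - hn
          refine ⟨-(u : Matrix (Fin 2) (Fin 2) F) 1 0, 0, 1, neg_ne_zero.2 hc0, by simp, Subtype.ext ?_⟩
          ext i j
          fin_cases i <;> fin_cases j <;> simp [coe_uv, hb0] <;>
            first | linear_combination -hu00 | linear_combination hu00 - hu2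
        · refine ⟨(u : Matrix (Fin 2) (Fin 2) F) 0 1, 1, -n / (u : Matrix (Fin 2) (Fin 2) F) 0 1,
            hb0, by simp, Subtype.ext ?_⟩
          ext i j
          fin_cases i <;> fin_cases j <;> simp [coe_uv] <;> field_simp <;>
            first
              | linear_combination hn
              | linear_combination -hn - hu2
              | linear_combination -hn2
      have hconj : IsConj (uv b 1 0) u := by
        have : u ∈ (ConjClasses.mk (uv b 1 0)).carrier := by
          rw [carrier_eq]; exact ⟨(x, y), hxy, huv⟩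
        exact (ConjClasses.mk_eq_mk_iff_isConj.1 (ConjClasses.mem_carrier_iff_mk_eq.1 this)).symm
      obtain ⟨c, hc⟩ : ∃ c : Bool, IsSquare ((if c then ν else 1) * b) := by
        by_cases hb1 : IsSquare b
        · exact ⟨false, by simpa using hb1⟩
        · exact ⟨true, by simpa using isSquare_mul_of_not h2 hν hb1⟩
      refine ⟨Sum.inr (Sum.inr (s, c)), ConjClasses.mk_eq_mk_iff_isConj.2 ?_⟩
      have := isConj_sgnS_mul s (((isConj_uv_iff (hb c) hbne).2 hc).trans hconj)
      rwa [hu, ← mul_assoc (sgnS s) (sgnS s), sgnS_mul_self, one_mul] at this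
    · refine ⟨Sum.inr (Sum.inl ⟨_, ht⟩), ConjClasses.mk_eq_mk_iff_isConj.2 ?_⟩
      have hT : ((slClassRep ν (Sum.inr (Sum.inl ⟨_, ht⟩)) : SpecialLinearGroup (Fin 2) F) :
          Matrix (Fin 2) (Fin 2) F).trace = (g : Matrix (Fin 2) (Fin 2) F).trace := by
        simp [slClassRep, coe_comp, trace_fin_two]
      refine isConj_of_trace _ g (not_isScalar'_of_trace _ ?_) hg hT ?_ <;>
        rw [hT, trace_fin_two] <;> exact ht

/-- `SL₂(q)`, `q` odd, has `q + 4` classes. -/
theorem card_conjClasses_SL2_odd (hodd : Odd (Fintype.card F)) :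
    Nat.card (ConjClasses (SpecialLinearGroup (Fin 2) F)) = Fintype.card F + 4 := by
  classical
  have hF : ringChar F ≠ 2 := fun h => by
    have := FiniteField.even_card_of_char_two h
    rw [Nat.odd_iff] at hodd
    omega
  have h2 : (2 : F) ≠ 0 := Ring.two_ne_zero hF
  obtain ⟨ν, hν⟩ := FiniteField.exists_nonsquare hF
  have h4 : Nat.card {t : F // t ^ 2 ≠ 4} = Fintype.card F - 2 := by
    rw [Nat.card_eq_fintype_card, Fintype.card_subtype_compl, Fintype.card_subtype]
    congr 1
    rw [show Finset.univ.filter (fun t : F => t ^ 2 = 4) = {2, -2} from ?_, Finset.card_pair]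
    · intro h; exact mul_ne_zero h2 h2 (by linear_combination h)
    · ext t
      simp only [Finset.mem_filter, Finset.mem_univ, true_and, Finset.mem_insert,
        Finset.mem_singleton]
      rw [show (4 : F) = 2 ^ 2 by norm_num, sq_eq_sq_iff_eq_or_eq_neg]
  rw [← Nat.card_congr (Equiv.ofBijective _ (slClassRep_bijective h2 ν hν)), Nat.card_sum,
    Nat.card_sum, Nat.card_prod, h4, Nat.card_eq_fintype_card, Fintype.card_bool]
  have := Fintype.one_lt_card (α := F)
  omega

end Cfsg.Agent.GL2Char
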