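import Cfsg.Agent.Lib.GL2Char.Principal
import Cfsg.Agent.Lib.GL.Basic
import Cfsg.Agent.Lib.Char.Clifford
import Cfsg.Agent.Lib.Char.Product

/-!
The principal series of `SL₂` as restrictions from `GL₂`.
-/

set_option autoImplicit false
set_option linter.style.haveILetI false

namespace Cfsg.Agent.GL2Char

open Cfsg.Agent.Char Matrix
open scoped ComplexConjugate MatrixGroups

variable {F : Type*} [Field F]

/-- The Borel subgroup of `SL₂`. -/
abbrev BS (F : Type*) [Field F] : Subgroup (SpecialLinearGroup (Fin 2) F) :=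
  (Cfsg.upperTriangularGL 2 F).comap SpecialLinearGroup.toGL

theorem mem_BS {g : SpecialLinearGroup (Fin 2) F} :
    g ∈ BS F ↔ (g : Matrix (Fin 2) (Fin 2) F) 1 0 = 0 := mem_BB

/-- The linear character `b ↦ α b₁₁` of the Borel subgroup of `SL₂`. -/
noncomputable def thetaS (α : MulChar F ℂ) : BS F → ℂ := fun b =>
  α (((b : SpecialLinearGroup (Fin 2) F) : Matrix (Fin 2) (Fin 2) F) 0 0)

/-- `thetaS` as a homomorphism. -/
noncomputable def thetaSHom (α : MulChar F ℂ) : BS F →* ℂ where
  toFun := thetaS α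
  map_one' := by simp [thetaS]
  map_mul' b c := by
    have hc := mem_BS.1 c.2
    simp [thetaS, mul_apply, hc]

theorem isCharacter_thetaS (α : MulChar F ℂ) : IsCharacter (BS F) (thetaS α) :=
  IsIrrCharacter.isCharacter (isIrrCharacter_of_monoidHom (thetaSHom α))

/-- Coset representatives in `SL₂`. -/
def repS : Option F → SpecialLinearGroup (Fin 2) F
  | none => 1
  | some x => ⟨!![x, -1; 1, 0], by simp [det_fin_two]⟩

theorem toGL_repS_eq (i : Option F) :
    ((SpecialLinearGroup.toGL (repS i) : GL (Fin 2) F) : GL (Fin 2) F ⧸ BB F) =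
      ((rep i : GL (Fin 2) F) : GL (Fin 2) F ⧸ BB F) := by
  rcases i with _ | x
  · simp [repS, rep]
  · refine (QuotientGroup.eq.2 ?_).symm
    rw [mem_BB, rep_inv]
    simp [repS, mul_apply, Fin.sum_univ_two]
    show x + -(x * 1) = 0
    ring

theorem toGL_repS_bijective :
    Function.Bijective fun i : Option F =>
      ((SpecialLinearGroup.toGL (repS i) : GL (Fin 2) F) : GL (Fin 2) F ⧸ BB F) := by
  simp only [toGL_repS_eq]
  exact rep_bijective

theorem repS_bijective :
    Function.Bijective fun i : Option F =>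
      ((repS i : SpecialLinearGroup (Fin 2) F) : SpecialLinearGroup (Fin 2) F ⧸ BS F) := by
  constructor
  · intro i j h
    refine toGL_repS_bijective.1 (QuotientGroup.eq.2 ?_)
    have := QuotientGroup.eq.1 h
    simpa [Subgroup.mem_comap] using this
  · intro q
    induction q using QuotientGroup.induction_on with
    | _ g =>
      obtain ⟨i, hi⟩ := toGL_repS_bijective.2
        ((SpecialLinearGroup.toGL g : GL (Fin 2) F) : GL (Fin 2) F ⧸ BB F)
      refine ⟨i, QuotientGroup.eq.2 ?_⟩
      have := QuotientGroup.eq.1 hi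
      simpa [Subgroup.mem_comap] using this

variable [Fintype F] [DecidableEq F]

/-- The principal series of `SL₂`. -/
noncomputable def PSS (α : MulChar F ℂ) : SpecialLinearGroup (Fin 2) F → ℂ :=
  indFun (BS F) (thetaS α)

theorem PSS_eq (α : MulChar F ℂ) (g : SpecialLinearGroup (Fin 2) F) :
    PSS α g = PS α 1 (SpecialLinearGroup.toGL g) := by
  rw [PSS, PS, indFun_eq_sum_reps (BS F) (IsCharacter.isClassFunction (isCharacter_thetaS α)) repS
      repS_bijective,
    indFun_eq_sum_reps (BB F) (isClassFunction_theta α 1) _ toGL_repS_bijective]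
  refine Finset.sum_congr rfl fun i _ => ?_
  rw [← map_inv, ← map_mul, ← map_mul]
  set y := (repS i)⁻¹ * g * repS i with hy
  by_cases h : y ∈ BS F
  · rw [extendByZero_of_mem _ _ h, extendByZero_of_mem _ _ (Subgroup.mem_comap.1 h)]
    have hd := det_ne (SpecialLinearGroup.toGL y)
    rw [show ((SpecialLinearGroup.toGL y : GL (Fin 2) F) : Matrix (Fin 2) (Fin 2) F) 1 0 = 0 from
      mem_BS.1 h, mul_zero, sub_zero, mul_ne_zero_iff] at hd
    simp only [thetaS, theta]
    rw [MulChar.one_apply (IsUnit.mk0 _ hd.2), mul_one]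
    rfl
  · rw [extendByZero_of_notMem _ _ h, extendByZero_of_notMem _ _]
    exact fun h' => h (Subgroup.mem_comap.2 h')

/-- Borel elements of `SL₂` from their entries. -/
def bmkS (p : Fˣ × F) : BS F :=
  ⟨⟨!![(p.1 : F), p.2; 0, ((p.1⁻¹ : Fˣ) : F)], by simp [det_fin_two]⟩, mem_BS.2 rfl⟩

omit [Fintype F] [DecidableEq F] in
theorem bmkS_bijective : Function.Bijective (bmkS (F := F)) := by
  constructor
  · rintro ⟨a, b⟩ ⟨a', b'⟩ h
    have e : (!![(a : F), b; 0, ((a⁻¹ : Fˣ) : F)] : Matrix (Fin 2) (Fin 2) F) =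
        !![(a' : F), b'; 0, ((a'⁻¹ : Fˣ) : F)] :=
      congrArg (fun g : BS F => ((g : SpecialLinearGroup (Fin 2) F) : Matrix (Fin 2) (Fin 2) F)) h
    exact Prod.ext (Units.ext (congrFun (congrFun e 0) 0)) (congrFun (congrFun e 0) 1)
  · rintro ⟨⟨M, hM⟩, hb⟩
    have hb : M 1 0 = 0 := mem_BS.1 hb
    have hM' := hM
    rw [det_fin_two, hb, mul_zero, sub_zero] at hM'
    refine ⟨(Units.mk0 _ (left_ne_zero_of_mul_eq_one hM'), M 0 1), Subtype.ext (Subtype.ext ?_)⟩
    ext i j
    fin_cases i <;> fin_cases j <;>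
      simp [bmkS, hb, inv_eq_of_mul_eq_one_right hM']

omit [DecidableEq F] in
theorem card_BS : Nat.card (BS F) = (Fintype.card F - 1) * Fintype.card F := by
  rw [← Nat.card_congr (Equiv.ofBijective _ (bmkS_bijective (F := F))), Nat.card_prod, card_units,
    Nat.card_eq_fintype_card]

theorem isCharacter_PSS (α : MulChar F ℂ) :
    IsCharacter (SpecialLinearGroup (Fin 2) F) (PSS α) :=
  isCharacter_indFun (BS F) (isCharacter_thetaS α)

theorem classInner_PSS (α β : MulChar F ℂ) [Decidable (α = β)] [Decidable (α⁻¹ = β)] :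
    classInner (PSS α) (PSS β) = (if α = β then 1 else 0) + if α⁻¹ = β then 1 else 0 := by
  classical
  conv_lhs => arg 2; rw [PSS]
  rw [classInner_indFun_right (BS F) _ (IsCharacter.isClassFunction (isCharacter_PSS α)),
    classInner, ← (Equiv.ofBijective _ (bmkS_bijective (F := F))).sum_comp]
  simp only [Equiv.ofBijective_apply]
  rw [Fintype.sum_prod_type]
  have key : ∀ a : Fˣ, (∑ b : F, PSS α (bmkS (a, b) : SpecialLinearGroup (Fin 2) F) *
      conj (thetaS β (bmkS (a, b)))) = (Fintype.card F : ℂ) *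
        (α (a : F) * conj (β (a : F)) + α⁻¹ (a : F) * conj (β (a : F))) := by
    intro a
    have hb : ∀ b : F, PSS α (bmkS (a, b) : SpecialLinearGroup (Fin 2) F) = α (a : F) +
        ∑ x : F, if b = x * ((a⁻¹ : Fˣ) : F) - (a : F) * x then α⁻¹ (a : F) else 0 := by
      intro b
      rw [PSS_eq, PS_borel α 1 _ rfl]
      rw [show ((SpecialLinearGroup.toGL (bmkS (a, b) : SpecialLinearGroup (Fin 2) F) : GL (Fin 2) F) :
        Matrix (Fin 2) (Fin 2) F) = !![(a : F), b; 0, ((a⁻¹ : Fˣ) : F)] from rfl]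
      simp [MulChar.one_apply, MulChar.inv_apply']
    simp only [hb, show ∀ b : F, thetaS β (bmkS (a, b)) = β (a : F) from fun b => rfl, add_mul,
      Finset.sum_add_distrib, ← Finset.sum_mul]
    rw [Finset.sum_comm]
    simp only [Finset.sum_ite_eq', Finset.mem_univ, if_true, Finset.sum_const, Finset.card_univ,
      nsmul_eq_mul]
    ring
  rw [Finset.sum_congr rfl fun a _ => key a]
  simp only [← Finset.mul_sum, Finset.sum_add_distrib, sum_units_mul_conj, card_BS, Nat.cast_mul,
    ]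
  have hq : (Fintype.card F : ℂ) ≠ 0 := by exact_mod_cast Fintype.card_ne_zero
  have hq1 : ((Fintype.card F - 1 : ℕ) : ℂ) ≠ 0 := by
    have := Fintype.one_lt_card (α := F)
    exact_mod_cast (show Fintype.card F - 1 ≠ 0 by omega)
  field_simp
  split_ifs <;> ring

theorem classInner_PSS_self (α : MulChar F ℂ) [Decidable (α⁻¹ = α)] :
    classInner (PSS α) (PSS α) = 1 + if α⁻¹ = α then 1 else 0 := by
  classical
  rw [classInner_PSS, if_pos rfl]

omit [Fintype F] [DecidableEq F] in
theorem inv_eq_self_iff_sq (α : MulChar F ℂ) : α⁻¹ = α ↔ α ^ 2 = 1 := by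
  rw [inv_eq_iff_mul_eq_one, sq]

theorem isIrrCharacter_PSS_iff (α : MulChar F ℂ) :
    IsIrrCharacter (SpecialLinearGroup (Fin 2) F) (PSS α) ↔ α ^ 2 ≠ 1 := by
  classical
  rw [isIrrCharacter_iff, classInner_PSS_self, ne_eq, ← not_congr (inv_eq_self_iff_sq α)]
  refine ⟨fun h hc => ?_, fun h => ⟨isCharacter_PSS α, by rw [if_neg h, add_zero]⟩⟩
  have h2 := h.2
  rw [if_pos hc] at h2
  norm_num at h2

omit [Fintype F] [DecidableEq F] in
/-- A character of norm two is the sum of two distinct irreducible characters. -/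
theorem exists_two_of_norm_two {G : Type*} [Group G] [Fintype G] {χ : G → ℂ}
    (h : IsCharacter G χ) (h2 : classInner χ χ = 2) :
    ∃ a b : IrrCharacter G, a ≠ b ∧ χ = a.1 + b.1 := by
  classical
  obtain ⟨m, hm, hm'⟩ := IsCharacter.exists_decomp h
  have hsq : ∑ ψ, m ψ * m ψ = 2 := by
    rw [classInner_eq_sum (IsCharacter.isClassFunction h)] at h2
    have : ∀ ψ : IrrCharacter G, classInner ψ.1 χ = (m ψ : ℂ) := fun ψ => by
      rw [← conj_classInner, hm', map_natCast]
    simp only [hm', this] at h2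
    exact_mod_cast h2
  have hle : ∀ ψ, m ψ = 0 ∨ m ψ = 1 := fun ψ => by
    have h3 := Finset.single_le_sum (f := fun ψ => m ψ * m ψ) (fun _ _ => Nat.zero_le _)
      (Finset.mem_univ ψ)
    simp only [hsq] at h3
    rcases Nat.lt_or_ge (m ψ) 2 with h4 | h4
    · omega
    · have := Nat.mul_le_mul h4 h4
      omega
  have hcard : (Finset.univ.filter fun ψ => m ψ = 1).card = 2 := by
    rw [← hsq, Finset.card_filter]
    exact Finset.sum_congr rfl fun ψ _ => by rcases hle ψ with e | e <;> simp [e]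
  obtain ⟨a, b, hab, hs⟩ := Finset.card_eq_two.1 hcard
  refine ⟨a, b, hab, ?_⟩
  rw [hm, show (∑ ψ, (m ψ : ℂ) • ψ.1) =
      ∑ ψ ∈ Finset.univ.filter (fun ψ => m ψ = 1), ψ.1 from ?_, hs, Finset.sum_pair hab]
  rw [Finset.sum_filter]
  exact Finset.sum_congr rfl fun ψ _ => by rcases hle ψ with e | e <;> simp [e]

theorem PSS_order_two (hodd : Odd (Fintype.card F)) (α : MulChar F ℂ) (hα : α ^ 2 = 1)
    (hα1 : α ≠ 1) :
    ∃ χ₁ χ₂ : SpecialLinearGroup (Fin 2) F → ℂ,
      IsIrrCharacter (SpecialLinearGroup (Fin 2) F) χ₁ ∧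
      IsIrrCharacter (SpecialLinearGroup (Fin 2) F) χ₂ ∧ χ₁ ≠ χ₂ ∧ PSS α = χ₁ + χ₂ ∧
      χ₁ 1 = (((Fintype.card F + 1) / 2 : ℕ) : ℂ) ∧ χ₂ 1 = (((Fintype.card F + 1) / 2 : ℕ) : ℂ) ∧
      ∃ x : GL (Fin 2) F, ∀ g h : SpecialLinearGroup (Fin 2) F,
        SpecialLinearGroup.toGL h = x * SpecialLinearGroup.toGL g * x⁻¹ → χ₂ h = χ₁ g := by
  classical
  obtain ⟨a, b, hab, hsum⟩ := exists_two_of_norm_two (isCharacter_PSS α)
    (by rw [classInner_PSS_self, if_pos ((inv_eq_self_iff_sq α).2 hα)]; norm_num)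
  set N := (GeneralLinearGroup.det : GL (Fin 2) F →* Fˣ).ker
  haveI : Fintype N := Fintype.ofFinite N
  let e : SpecialLinearGroup (Fin 2) F ≃* N := GL.slEquivDetKer
  have he : ∀ g, (e g : GL (Fin 2) F) = SpecialLinearGroup.toGL g := fun g => rfl
  let χ : IrrCharacter (GL (Fin 2) F) := ⟨PS α 1, isIrrCharacter_PS hα1⟩
  have hres : resFun N χ.1 = (irrCongr e a).1 + (irrCongr e b).1 := by
    funext n
    obtain ⟨g, rfl⟩ := e.surjective n
    show PS α 1 (e g : GL (Fin 2) F) = a.1 (e.symm (e g)) + b.1 (e.symm (e g))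
    rw [he, e.symm_apply_apply, ← PSS_eq, hsum]
    rfl
  have hne : irrCongr e a ≠ irrCongr e b := fun h => hab ((irrCongr e).injective h)
  obtain ⟨x, hx⟩ := exists_conjChar_of_constituents N χ (irrCongr e a) (irrCongr e b)
    (by rw [hres, classInner_add_left, classInner_irr_self (irrCongr e a).2,
          classInner_irr_of_ne (irrCongr e b).2 (irrCongr e a).2
            fun h => hne (Subtype.ext h.symm), add_zero]
        exact one_ne_zero)
    (by rw [hres, classInner_add_left, classInner_irr_self (irrCongr e b).2,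
          classInner_irr_of_ne (irrCongr e a).2 (irrCongr e b).2
            fun h => hne (Subtype.ext h), zero_add]
        exact one_ne_zero)
  have hb1 : b.1 1 = a.1 1 := by
    have := congrArg (fun t : IrrCharacter N => t.1 (e 1)) hx
    simpa [irrCongr, conjFun] using this
  have ha1 : a.1 1 = (((Fintype.card F + 1) / 2 : ℕ) : ℂ) := by
    have h := congrFun hsum 1
    rw [PSS_eq, map_one, PS_one, Pi.add_apply, hb1] at h
    obtain ⟨m, hm⟩ := hodd
    rw [hm, show (2 * m + 1 + 1) / 2 = m + 1 by omega]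
    rw [hm] at h
    push_cast at h ⊢
    linear_combination -(1 / 2 : ℂ) * h
  refine ⟨a.1, b.1, a.2, b.2, fun h => hab (Subtype.ext h), hsum, ha1, hb1.trans ha1, x⁻¹,
    fun g h hh => ?_⟩
  have := congrArg (fun t : IrrCharacter N => t.1 (e h)) hx
  simp only [conjChar_coe, conjFun] at this
  rw [show MulAut.conjNormal x (e h) = e g from Subtype.ext (by
    rw [MulAut.conjNormal_apply, he, he, hh]; group)] at this
  simpa [irrCongr] using this

end Cfsg.Agent.GL2Char
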