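import Cfsg.Agent.Lib.GL2Char.Classify
import Cfsg.Agent.Lib.GL2Char.SLPrincipal
import Cfsg.Agent.Lib.GL2Char.SLClasses

/-!
The irreducible characters of `SL₂` over a field of odd order.
-/

set_option autoImplicit false
set_option linter.style.haveILetI false

namespace Cfsg.Agent.GL2Char

open Cfsg.Agent.Char Matrix
open scoped ComplexConjugate MatrixGroups

variable {F : Type*} [Field F] [Fintype F] [DecidableEq F]

/-! ### The Steinberg character of `SL₂` -/

theorem classInner_PSS_one_trivial (γ : MulChar F ℂ) [Decidable (γ = 1)] :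
    classInner (PSS γ) (fun _ => (1 : ℂ)) = if γ = 1 then 1 else 0 := by
  classical
  rw [PSS, classInner_indFun (BS F) (thetaS γ) (fun _ _ => rfl)]
  split_ifs with h
  · have e : thetaS γ = ⇑(1 : BS F →* ℂ) := funext fun b => by
      have hd := det_ne (SpecialLinearGroup.toGL (b : SpecialLinearGroup (Fin 2) F))
      rw [show ((SpecialLinearGroup.toGL (b : SpecialLinearGroup (Fin 2) F) : GL (Fin 2) F) :
        Matrix (Fin 2) (Fin 2) F) 1 0 = 0 from mem_BS.1 b.2, mul_zero, sub_zero, mul_ne_zero_iff] at hd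
      rw [thetaS, h]
      exact MulChar.one_apply (IsUnit.mk0 _ hd.1)
    rw [e]
    exact classInner_irr_self (isIrrCharacter_of_monoidHom (1 : BS F →* ℂ))
  · refine classInner_irr_of_ne (isIrrCharacter_of_monoidHom (thetaSHom γ)) isIrrCharacter_one
      fun e => h (MulChar.ext fun a => ?_)
    have := congrFun e (bmkS (a, 0))
    simpa [thetaSHom, thetaS, bmkS, MulChar.one_apply_coe] using this

/-- The Steinberg character of `SL₂`. -/
noncomputable def stS : IrrCharacter (SpecialLinearGroup (Fin 2) F) :=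
  ⟨PSS 1 - fun _ => 1, by
    classical
    refine isIrrCharacter_sub (isCharacter_PSS 1) isIrrCharacter_one ?_ ?_
    · rw [classInner_PSS_self, if_pos inv_one]
      norm_num
    · rw [classInner_PSS_one_trivial, if_pos rfl]⟩

theorem PSS_one' (γ : MulChar F ℂ) : PSS γ 1 = (Fintype.card F : ℂ) + 1 := by
  rw [PSS_eq, map_one, PS_one]

theorem stS_apply_one : (stS (F := F)).1 1 = (Fintype.card F : ℂ) := by
  show PSS 1 1 - 1 = _
  rw [PSS_one', add_sub_cancel_right]

/-! ### The characters outside the principal series -/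

/-- Orthogonal to the principal series of `SL₂`. -/
def IsCuspS (θ : IrrCharacter (SpecialLinearGroup (Fin 2) F)) : Prop :=
  ∀ γ : MulChar F ℂ, classInner θ.1 (PSS γ) = 0

theorem IsCuspS.sum_unipotent {θ : IrrCharacter (SpecialLinearGroup (Fin 2) F)} (hc : IsCuspS θ) :
    ∑ b : F, θ.1 (bmkS (1, b) : SpecialLinearGroup (Fin 2) F) = 0 := by
  classical
  haveI := Fintype.ofFinite (MulChar F ℂ)
  have h0 : ∀ γ : MulChar F ℂ, ∑ a : Fˣ,
      (∑ b : F, θ.1 (bmkS (a, b) : SpecialLinearGroup (Fin 2) F)) * conj (γ (a : F)) = 0 := by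
    intro γ
    have h := hc γ
    rw [PSS, classInner_indFun_right (BS F) _ (IsCharacter.isClassFunction (irr_isCharacter θ)),
      classInner, mul_eq_zero, or_iff_right (inv_ne_zero card_ne_zero),
      ← (Equiv.ofBijective _ (bmkS_bijective (F := F))).sum_comp, Fintype.sum_prod_type] at h
    rw [← h]
    exact Finset.sum_congr rfl fun a _ => Finset.sum_mul _ _ _
  have key : ∑ γ : MulChar F ℂ, ∑ a : Fˣ, γ ((1 : Fˣ) : F) *
      ((∑ b : F, θ.1 (bmkS (a, b) : SpecialLinearGroup (Fin 2) F)) * conj (γ (a : F))) = 0 := by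
    simp [← Finset.mul_sum, h0]
  rw [Finset.sum_comm] at key
  simp only [mul_left_comm _ (∑ b : F, θ.1 _) _, ← Finset.mul_sum, sum_mulChar_mul_conj, mul_ite,
    mul_zero, Finset.sum_ite_eq', Finset.mem_univ, if_true] at key
  simpa using key

/-! ### Unipotent multiplicities -/

/-- An upper unitriangular element. -/
def uni (t : F) : SpecialLinearGroup (Fin 2) F := ⟨!![1, t; 0, 1], by simp [det_fin_two]⟩

omit [Fintype F] [DecidableEq F] in
theorem coe_uni (t : F) : ((uni t : SpecialLinearGroup (Fin 2) F) : Matrix (Fin 2) (Fin 2) F) =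
    !![1, t; 0, 1] := rfl

omit [Fintype F] [DecidableEq F] in
theorem coe_bmkS (p : Fˣ × F) :
    ((bmkS p : SpecialLinearGroup (Fin 2) F) : Matrix (Fin 2) (Fin 2) F) =
      !![(p.1 : F), p.2; 0, ((p.1⁻¹ : Fˣ) : F)] := rfl

/-- The unipotent upper triangular elements, as a homomorphism. -/
def uniHom : Multiplicative F →* SpecialLinearGroup (Fin 2) F where
  toFun b := uni b.toAdd
  map_one' := Matrix.SpecialLinearGroup.ext _ _ fun i j => by
    fin_cases i <;> fin_cases j <;> simp [coe_uni]
  map_mul' b c := Matrix.SpecialLinearGroup.ext _ _ fun i j => by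
    rw [Matrix.SpecialLinearGroup.coe_mul]
    fin_cases i <;> fin_cases j <;> simp [coe_uni, mul_apply, Fin.sum_univ_two, add_comm]

omit [Fintype F] [DecidableEq F] in
theorem uniHom_apply (b : Multiplicative F) : uniHom b = uni b.toAdd := rfl

omit [Fintype F] [DecidableEq F] in
theorem coe_toGL_uniHom (b : Multiplicative F) :
    ((SpecialLinearGroup.toGL (uniHom b) : GL (Fin 2) F) : Matrix (Fin 2) (Fin 2) F) =
      !![1, b.toAdd; 0, 1] := rfl

/-- The multiplicity of a non-trivial character of the unipotent group in an irreducible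
character of `GL₂` is at most one. -/
theorem exists_le_one_classInner_uni (χ : IrrCharacter (GL (Fin 2) F))
    (ψ : Multiplicative F →* ℂ) (hψ : ψ ≠ 1) :
    ∃ n : ℕ, n ≤ 1 ∧
      classInner (fun x => χ.1 (SpecialLinearGroup.toGL (uniHom x))) (ψ : Multiplicative F → ℂ) = n := by
  classical
  set c := χ.1 (SpecialLinearGroup.toGL (uniHom (Multiplicative.ofAdd (1 : F)))) with hcdef
  have hcf := IsCharacter.isClassFunction (irr_isCharacter χ)
  have hconst : ∀ x : Multiplicative F, x ≠ 1 →
      χ.1 (SpecialLinearGroup.toGL (uniHom x)) = c := by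
    intro x hx
    have hx' : x.toAdd ≠ 0 := fun e => hx (toAdd_eq_zero.1 e)
    refine (IsClassFunction.apply_of_isConj hcf (isConj_iff.2
      ⟨mk2 x.toAdd 0 0 1 (by simpa using hx'), ?_⟩)).symm
    rw [mul_inv_eq_iff_eq_mul]
    apply ext2 <;>
      simp [uniHom_apply, coe_uni, mul_apply, Fin.sum_univ_two]
  have hψsum : ∑ x, conj (ψ x) = 0 := by
    have := classInner_irr_of_ne (isIrrCharacter_one (G := Multiplicative F))
      (isIrrCharacter_of_monoidHom ψ) fun e => hψ (MonoidHom.ext fun x => (congrFun e x).symm)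
    simp only [classInner, one_mul, mul_eq_zero] at this
    exact this.resolve_left (inv_ne_zero card_ne_zero)
  have hval : classInner (fun x => χ.1 (SpecialLinearGroup.toGL (uniHom x)))
      (ψ : Multiplicative F → ℂ) = (χ.1 1 - c) / (Fintype.card F : ℂ) := by
    rw [classInner, Fintype.sum_eq_add_sum_compl 1, map_one, map_one, map_one, map_one, mul_one,
      Finset.sum_congr rfl (g := fun x => c * conj (ψ x))
        (fun x hx => by rw [hconst x (by simpa using hx)]),
      ← Finset.mul_sum, Nat.card_eq_fintype_card, Fintype.card_multiplicative]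
    rw [Fintype.sum_eq_add_sum_compl 1, map_one, map_one] at hψsum
    rw [div_eq_inv_mul]
    linear_combination ((Fintype.card F : ℂ)⁻¹ * c) * hψsum
  have hq : (Fintype.card F : ℂ) ≠ 0 := by exact_mod_cast Fintype.card_ne_zero
  have hu : ((SpecialLinearGroup.toGL (uniHom (Multiplicative.ofAdd (1 : F))) : GL (Fin 2) F) :
      Matrix (Fin 2) (Fin 2) F) = !![1, 1; 0, 1] := rfl
  rcases classify χ with ⟨γ, e⟩ | ⟨γ, e⟩ | ⟨α, β, -, e⟩ | e
  · refine ⟨0, zero_le_one, ?_⟩
    rw [hval, show c = 1 by rw [hcdef, e, linI_apply, hu]; simp, e, linI_apply_one,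
      sub_self, zero_div, Nat.cast_zero]
  · refine ⟨1, le_rfl, ?_⟩
    rw [hval, show c = 0 by
      rw [hcdef, e, stI_apply, PS_transvection γ γ _ one_ne_zero hu, hu]; simp,
      e, stI_apply_one, sub_zero, div_self hq, Nat.cast_one]
  · refine ⟨1, le_rfl, ?_⟩
    rw [hval, show c = 1 by rw [hcdef, e, PS_transvection α β _ one_ne_zero hu],
      e, PS_one, add_sub_cancel_right, div_self hq, Nat.cast_one]
  · refine ⟨1, le_rfl, ?_⟩
    rw [hval, show c = -1 from e.apply_transvection _ hu, e.apply_one, sub_neg_eq_add,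
      sub_add_cancel, div_self hq, Nat.cast_one]

/-- Every irreducible character of `SL₂` lies in the restriction of one of `GL₂`. -/
theorem exists_above (θ : IrrCharacter (SpecialLinearGroup (Fin 2) F)) :
    ∃ χ : IrrCharacter (GL (Fin 2) F),
      classInner (fun g => χ.1 (SpecialLinearGroup.toGL g)) θ.1 ≠ 0 := by
  classical
  set N := (GeneralLinearGroup.det : GL (Fin 2) F →* Fˣ).ker
  haveI : Fintype N := Fintype.ofFinite N
  let e : SpecialLinearGroup (Fin 2) F ≃* N := GL.slEquivDetKer
  set θ' := irrCongr e θ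
  have hI := isCharacter_indFun N (IsIrrCharacter.isCharacter θ'.2)
  obtain ⟨m, hm, hm'⟩ := IsCharacter.exists_decomp hI
  obtain ⟨χ, hχ⟩ : ∃ χ, m χ ≠ 0 := by
    by_contra hcon
    push Not at hcon
    have h1 := congrFun hm 1
    simp only [hcon, Nat.cast_zero, zero_smul, Finset.sum_const_zero, Pi.zero_apply,
      indFun_apply_one, mul_eq_zero, Nat.cast_eq_zero] at h1
    rcases h1 with h1 | h1
    · exact Subgroup.index_ne_zero_of_finite h1
    · exact IsIrrCharacter.apply_one_ne_zero θ'.2 h1
  refine ⟨χ, fun h => hχ ?_⟩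
  have h' := hm' χ
  rw [classInner_indFun N _ (IsCharacter.isClassFunction (irr_isCharacter χ)), ← conj_classInner] at h'
  have he : classInner (fun g => χ.1 (SpecialLinearGroup.toGL g)) θ.1 =
      classInner (fun n : N => χ.1 n) θ'.1 := by
    simp only [classInner, Nat.card_congr e.toEquiv]
    congr 1
    refine Fintype.sum_equiv e.toEquiv _ _ fun g => ?_
    show _ = χ.1 (e g : GL (Fin 2) F) * conj (θ.1 (e.symm (e g)))
    rw [e.symm_apply_apply]
    rfl
  rw [← he, h, map_zero] at h'
  exact_mod_cast h'.symm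

theorem classInner_uni_le_one (θ : IrrCharacter (SpecialLinearGroup (Fin 2) F))
    (ψ : Multiplicative F →* ℂ) (hψ : ψ ≠ 1) :
    ∃ n : ℕ, n ≤ 1 ∧ classInner (fun x => θ.1 (uniHom x)) (ψ : Multiplicative F → ℂ) = n := by
  classical
  obtain ⟨χ, hχ⟩ := exists_above θ
  have hR : IsCharacter (SpecialLinearGroup (Fin 2) F) (fun g => χ.1 (SpecialLinearGroup.toGL g)) :=
    IsCharacter.comp (irr_isCharacter χ) SpecialLinearGroup.toGL
  obtain ⟨m, hm, hm'⟩ := IsCharacter.exists_decomp hR
  have hmθ : m θ ≠ 0 := fun h => hχ (by rw [hm' θ, h, Nat.cast_zero])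
  choose k hk using fun φ : IrrCharacter (SpecialLinearGroup (Fin 2) F) =>
    IsCharacter.exists_nat_classInner (IsCharacter.comp (irr_isCharacter φ) uniHom)
      (IsIrrCharacter.isCharacter (isIrrCharacter_of_monoidHom ψ))
  obtain ⟨n, hn1, hn⟩ := exists_le_one_classInner_uni χ ψ hψ
  have hsum : ((∑ φ, m φ * k φ : ℕ) : ℂ) = n := by
    rw [← hn, show (fun x => χ.1 (SpecialLinearGroup.toGL (uniHom x))) =
        ∑ φ, (m φ : ℂ) • fun x => φ.1 (uniHom x) from funext fun x => by
      simpa using congrFun hm (uniHom x)]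
    rw [classInner_sum_left]
    push_cast
    exact Finset.sum_congr rfl fun φ _ => by rw [classInner_smul_left, hk]
  refine ⟨k θ, ?_, hk θ⟩
  have h1 := Finset.single_le_sum (f := fun φ => m φ * k φ) (fun _ _ => Nat.zero_le _)
    (Finset.mem_univ θ)
  simp only [Nat.cast_inj.1 hsum] at h1
  exact le_trans (Nat.le_mul_of_pos_left _ (Nat.pos_of_ne_zero hmθ)) (h1.trans hn1)

/-- A cuspidal character of `SL₂` has degree `(q - 1) / 2` or `q - 1`. -/
theorem IsCuspS.exists_mult (hodd : Odd (Fintype.card F))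
    {θ : IrrCharacter (SpecialLinearGroup (Fin 2) F)} (hc : IsCuspS θ) :
    ∃ n : ℕ, (n = 1 ∨ n = 2) ∧ 2 * θ.1 1 = n * ((Fintype.card F : ℂ) - 1) := by
  classical
  have hF : ringChar F ≠ 2 := fun h => by
    have := FiniteField.even_card_of_char_two h
    rw [Nat.odd_iff] at hodd
    omega
  obtain ⟨ν, hν⟩ := FiniteField.exists_nonsquare hF
  have h2 : (2 : F) ≠ 0 := Ring.two_ne_zero hF
  have hν0 : ν ≠ 0 := fun h => hν (h ▸ IsSquare.zero)
  have hcf := IsCharacter.isClassFunction (irr_isCharacter θ)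
  set A := θ.1 (uniHom (Multiplicative.ofAdd (1 : F))) with hA
  set B := θ.1 (uniHom (Multiplicative.ofAdd ν)) with hB
  have hsq : ∀ a t : F, a ≠ 0 → θ.1 (uniHom (Multiplicative.ofAdd (a * a * t))) =
      θ.1 (uniHom (Multiplicative.ofAdd t)) := by
    intro a t ha
    refine (IsClassFunction.apply_of_isConj hcf (isConj_iff.2
      ⟨(bmkS (Units.mk0 a ha, 0) : SpecialLinearGroup (Fin 2) F), ?_⟩)).symm
    rw [mul_inv_eq_iff_eq_mul]
    refine Matrix.SpecialLinearGroup.ext _ _ fun i j => ?_
    rw [Matrix.SpecialLinearGroup.coe_mul, Matrix.SpecialLinearGroup.coe_mul]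
    fin_cases i <;> fin_cases j <;> simp [uniHom_apply, coe_uni, coe_bmkS, mul_apply, Fin.sum_univ_two] <;>
      field_simp
  have hval : ∀ t : F, t ≠ 0 → θ.1 (uniHom (Multiplicative.ofAdd t)) =
      if IsSquare t then A else B := by
    intro t ht
    by_cases h : IsSquare t
    · obtain ⟨a, rfl⟩ := h
      rw [if_pos ⟨a, rfl⟩]
      have ha : a ≠ 0 := left_ne_zero_of_mul ht
      have := hsq a 1 ha
      rw [mul_one] at this
      exact this
    · rw [if_neg h]
      obtain ⟨a, ha⟩ := isSquare_mul_of_not h2 h hν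
      have ha0 : a ≠ 0 := fun h0 => mul_ne_zero ht hν0 (by rw [ha, h0, zero_mul])
      have := hsq (a / ν) ν (div_ne_zero ha0 hν0)
      rwa [show a / ν * (a / ν) * ν = t by field_simp; linear_combination -ha] at this
  obtain ⟨ψ, hψ⟩ : ∃ ψ : Multiplicative F →* ℂ, ψ ≠ 1 := by
    haveI : Fintype (Multiplicative F →* ℂ) := @Fintype.ofFinite _
      (Finite.of_injective _ (linIrr_injective (G := Multiplicative F)))
    have hcm : commutator (Multiplicative F) = ⊥ := by
      rw [commutator_eq_bot_iff_center_eq_top]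
      exact CommGroup.center_eq_top
    have h := card_monoidHom_complex (G := Multiplicative F)
    rw [hcm, Subgroup.index_bot, Nat.card_eq_fintype_card, Nat.card_eq_fintype_card,
      Fintype.card_multiplicative] at h
    exact Fintype.exists_ne_of_one_lt_card (h ▸ Fintype.one_lt_card) 1
  let ψ' : Multiplicative F →* ℂ :=
    ψ.comp (AddMonoidHom.toMultiplicative (AddMonoidHom.mulLeft ν))
  have hψ' : ψ' ≠ 1 := fun h => hψ (MonoidHom.ext fun x => by
    have := DFunLike.congr_fun h (Multiplicative.ofAdd (x.toAdd / ν))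
    simpa [ψ', mul_div_cancel₀ _ hν0] using this)
  obtain ⟨n, hn1, hn⟩ := classInner_uni_le_one θ ψ hψ
  obtain ⟨n', hn1', hn'⟩ := classInner_uni_le_one θ ψ' hψ'
  have hexp : ∀ φ : Multiplicative F →* ℂ, (Fintype.card F : ℂ) *
      classInner (fun x => θ.1 (uniHom x)) (φ : Multiplicative F → ℂ) = θ.1 1 +
        ∑ t ∈ Finset.univ.erase (0 : F),
          (if IsSquare t then A else B) * conj (φ (Multiplicative.ofAdd t)) := by
    intro φ
    rw [classInner, Nat.card_eq_fintype_card, Fintype.card_multiplicative, ← mul_assoc,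
      mul_inv_cancel₀ (Nat.cast_ne_zero.2 Fintype.card_ne_zero), one_mul,
      ← (Multiplicative.ofAdd : F ≃ Multiplicative F).sum_comp,
      ← Finset.add_sum_erase _ _ (Finset.mem_univ (0 : F))]
    refine congrArg₂ (· + ·) ?_ (Finset.sum_congr rfl fun t ht => ?_)
    · simp
    · rw [hval t (Finset.ne_of_mem_erase ht)]
  have hψ'c : ∀ t : F, ψ' (Multiplicative.ofAdd t) = ψ (Multiplicative.ofAdd (ν * t)) := fun t => rfl
  have hψsum : ∑ t ∈ Finset.univ.erase (0 : F), conj (ψ (Multiplicative.ofAdd t)) = -1 := by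
    have := classInner_irr_of_ne (isIrrCharacter_one (G := Multiplicative F))
      (isIrrCharacter_of_monoidHom ψ) fun e => hψ (MonoidHom.ext fun x => (congrFun e x).symm)
    simp only [classInner, one_mul, mul_eq_zero] at this
    have := this.resolve_left (inv_ne_zero card_ne_zero)
    rw [← (Multiplicative.ofAdd : F ≃ Multiplicative F).sum_comp,
      ← Finset.add_sum_erase _ _ (Finset.mem_univ (0 : F)), ofAdd_zero, map_one, map_one] at this
    linear_combination this
  have hswap : ∑ t ∈ Finset.univ.erase (0 : F),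
      (if IsSquare t then A else B) * conj (ψ' (Multiplicative.ofAdd t)) =
      ∑ t ∈ Finset.univ.erase (0 : F),
      (if IsSquare t then B else A) * conj (ψ (Multiplicative.ofAdd t)) := by
    refine Finset.sum_nbij' (fun t => ν * t) (fun t => ν⁻¹ * t) ?_ ?_ ?_ ?_ ?_
    · intro t ht; simpa [hν0] using ht
    · intro t ht; simpa [hν0] using ht
    · intro t _; simp [hν0]
    · intro t _; simp [hν0]
    · intro t ht
      have ht0 : t ≠ 0 := Finset.ne_of_mem_erase ht
      rw [hψ'c]
      congr 1
      by_cases h : IsSquare t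
      · have : ¬ IsSquare (ν * t) := fun h' => hν (by
          obtain ⟨a, rfl⟩ := h
          obtain ⟨b, hb⟩ := h'
          have ha : a ≠ 0 := left_ne_zero_of_mul ht0
          exact ⟨b / a, by field_simp; linear_combination hb⟩)
        rw [if_pos h, if_neg this]
      · rw [if_neg h, if_pos (isSquare_mul_of_not h2 hν h)]
  have htot : (Fintype.card F : ℂ) * ((n : ℂ) + n') = 2 * θ.1 1 - (A + B) := by
    rw [mul_add, ← hn, ← hn', hexp, hexp, hswap]
    rw [show θ.1 1 + ∑ t ∈ Finset.univ.erase (0 : F),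
          (if IsSquare t then A else B) * conj (ψ (Multiplicative.ofAdd t)) +
        (θ.1 1 + ∑ t ∈ Finset.univ.erase (0 : F),
          (if IsSquare t then B else A) * conj (ψ (Multiplicative.ofAdd t))) =
        2 * θ.1 1 + ∑ t ∈ Finset.univ.erase (0 : F),
          (A + B) * conj (ψ (Multiplicative.ofAdd t)) by
      rw [show ∀ a b c : ℂ, a + b + (a + c) = 2 * a + (b + c) from fun a b c => by ring,
        ← Finset.sum_add_distrib]
      congr 1
      refine Finset.sum_congr rfl fun t _ => ?_
      split_ifs <;> ring]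
    rw [← Finset.mul_sum, hψsum]
    ring
  have hzero : θ.1 1 + ∑ t ∈ Finset.univ.erase (0 : F), (if IsSquare t then A else B) = 0 := by
    have h := hc.sum_unipotent
    rw [← Finset.add_sum_erase _ _ (Finset.mem_univ (0 : F))] at h
    refine Eq.trans ?_ h
    refine congrArg₂ (· + ·) ?_ (Finset.sum_congr rfl fun t ht => ?_)
    · refine congrArg θ.1 (Matrix.SpecialLinearGroup.ext _ _ fun i j => ?_)
      fin_cases i <;> fin_cases j <;> simp [coe_bmkS]
    · rw [← hval t (Finset.ne_of_mem_erase ht)]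
      refine congrArg θ.1 (Matrix.SpecialLinearGroup.ext _ _ fun i j => ?_)
      fin_cases i <;> fin_cases j <;> simp [coe_bmkS, uniHom_apply, coe_uni]
  have hswap' : ∑ t ∈ Finset.univ.erase (0 : F), (if IsSquare t then A else B) =
      ∑ t ∈ Finset.univ.erase (0 : F), (if IsSquare t then B else A) := by
    refine Finset.sum_nbij' (fun t => ν * t) (fun t => ν⁻¹ * t) ?_ ?_ ?_ ?_ ?_
    · intro t ht; simpa [hν0] using ht
    · intro t ht; simpa [hν0] using ht
    · intro t _; simp [hν0]
    · intro t _; simp [hν0]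
    · intro t ht
      have ht0 : t ≠ 0 := Finset.ne_of_mem_erase ht
      by_cases h : IsSquare t
      · have : ¬ IsSquare (ν * t) := fun h' => hν (by
          obtain ⟨a, rfl⟩ := h
          obtain ⟨b, hb⟩ := h'
          have ha : a ≠ 0 := left_ne_zero_of_mul ht0
          exact ⟨b / a, by field_simp; linear_combination hb⟩)
        rw [if_pos h, if_neg this]
      · rw [if_neg h, if_pos (isSquare_mul_of_not h2 hν h)]
  have hdeg : 2 * θ.1 1 + ((Fintype.card F : ℂ) - 1) * (A + B) = 0 := by
    have e : ∑ t ∈ Finset.univ.erase (0 : F), (if IsSquare t then A else B) +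
        ∑ t ∈ Finset.univ.erase (0 : F), (if IsSquare t then B else A) =
        ((Fintype.card F : ℂ) - 1) * (A + B) := by
      rw [← Finset.sum_add_distrib, Finset.sum_congr rfl (g := fun _ => A + B)
        (fun t _ => by split_ifs <;> ring), Finset.sum_const,
        Finset.card_erase_of_mem (Finset.mem_univ _), Finset.card_univ, nsmul_eq_mul,
        Nat.cast_sub (Fintype.card_pos (α := F)), Nat.cast_one]
    rw [← hswap'] at e
    linear_combination 2 * hzero - e
  have hq : (Fintype.card F : ℂ) ≠ 0 := by exact_mod_cast Fintype.card_ne_zero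
  have hdeg' : 2 * θ.1 1 = ((n + n' : ℕ) : ℂ) * ((Fintype.card F : ℂ) - 1) := by
    refine mul_left_cancel₀ hq ?_
    push_cast
    linear_combination hdeg - ((Fintype.card F : ℂ) - 1) * htot
  refine ⟨n + n', ?_, hdeg'⟩
  have : n + n' ≠ 0 := fun h => by
    rw [h, Nat.cast_zero, zero_mul, mul_eq_zero] at hdeg'
    exact hdeg'.elim two_ne_zero (IsIrrCharacter.apply_one_ne_zero θ.2)
  omega

end Cfsg.Agent.GL2Char
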