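import Cfsg.Prelude.Def_ParabolicCharacters
import Cfsg.Agent.Lib.GL2Char.Induced
import Cfsg.Agent.Lib.Char.Linear
import Mathlib.NumberTheory.MulChar.Duality
import Mathlib.RingTheory.RootsOfUnity.AlgebraicallyClosed
import Mathlib.LinearAlgebra.Matrix.GeneralLinearGroup.Card

/-!
The principal series of `GL₂` over a finite field.
-/

set_option autoImplicit false

namespace Cfsg.Agent.GL2Char

open Cfsg.Agent.Char Matrix
open scoped ComplexConjugate MatrixGroups

variable {F : Type*} [Field F]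

/-- The Borel subgroup. -/
abbrev BB (F : Type*) [Field F] : Subgroup (GL (Fin 2) F) := Cfsg.upperTriangularGL 2 F

theorem mem_BB {g : GL (Fin 2) F} : g ∈ BB F ↔ (g : Matrix (Fin 2) (Fin 2) F) 1 0 = 0 := by
  change (g : Matrix (Fin 2) (Fin 2) F).BlockTriangular id ↔ _
  refine ⟨fun h => h (by decide), fun h i j hij => ?_⟩
  fin_cases i <;> fin_cases j <;> simp_all

/-- The invertible matrix with the given entries. -/
def mk2 (a b c d : F) (h : a * d - b * c ≠ 0) : GL (Fin 2) F :=
  GeneralLinearGroup.mkOfDetNeZero !![a, b; c, d] (by rwa [det_fin_two_of])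

@[simp] theorem coe_mk2 (a b c d : F) (h : a * d - b * c ≠ 0) :
    (mk2 a b c d h : Matrix (Fin 2) (Fin 2) F) = !![a, b; c, d] := rfl

theorem det_ne (g : GL (Fin 2) F) :
    (g : Matrix (Fin 2) (Fin 2) F) 0 0 * (g : Matrix (Fin 2) (Fin 2) F) 1 1 -
      (g : Matrix (Fin 2) (Fin 2) F) 0 1 * (g : Matrix (Fin 2) (Fin 2) F) 1 0 ≠ 0 := by
  rw [← det_fin_two]
  exact GeneralLinearGroup.det_ne_zero g

theorem ext2 {g h : GL (Fin 2) F}
    (h00 : (g : Matrix (Fin 2) (Fin 2) F) 0 0 = (h : Matrix (Fin 2) (Fin 2) F) 0 0)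
    (h01 : (g : Matrix (Fin 2) (Fin 2) F) 0 1 = (h : Matrix (Fin 2) (Fin 2) F) 0 1)
    (h10 : (g : Matrix (Fin 2) (Fin 2) F) 1 0 = (h : Matrix (Fin 2) (Fin 2) F) 1 0)
    (h11 : (g : Matrix (Fin 2) (Fin 2) F) 1 1 = (h : Matrix (Fin 2) (Fin 2) F) 1 1) : g = h := by
  refine Units.ext (Matrix.ext fun i j => ?_)
  fin_cases i <;> fin_cases j <;> assumption

/-! ### Coset representatives -/

/-- Representatives of the cosets of the Borel subgroup. -/
def rep : Option F → GL (Fin 2) F
  | none => 1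
  | some x => mk2 x 1 1 0 (by simp)

theorem rep_inv (x : F) : (rep (some x))⁻¹ = mk2 0 1 1 (-x) (by simp) := by
  refine inv_eq_of_mul_eq_one_right (ext2 ?_ ?_ ?_ ?_) <;> simp [rep, mul_apply]

theorem rep_conj (x : F) (g : GL (Fin 2) F) :
    (((rep (some x))⁻¹ * g * rep (some x) : GL (Fin 2) F) : Matrix (Fin 2) (Fin 2) F) =
      !![(g : Matrix (Fin 2) (Fin 2) F) 1 0 * x + (g : Matrix (Fin 2) (Fin 2) F) 1 1,
          (g : Matrix (Fin 2) (Fin 2) F) 1 0;
        (g : Matrix (Fin 2) (Fin 2) F) 0 0 * x + (g : Matrix (Fin 2) (Fin 2) F) 0 1 -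
          x * ((g : Matrix (Fin 2) (Fin 2) F) 1 0 * x + (g : Matrix (Fin 2) (Fin 2) F) 1 1),
          (g : Matrix (Fin 2) (Fin 2) F) 0 0 - x * (g : Matrix (Fin 2) (Fin 2) F) 1 0] := by
  rw [rep_inv]
  ext i j
  fin_cases i <;> fin_cases j <;>
    simp [rep, mul_apply, Matrix.vecMul, dotProduct, Fin.sum_univ_two] <;> ring

theorem rep_bijective : Function.Bijective fun i : Option F => ((rep i : GL (Fin 2) F) : GL (Fin 2) F ⧸ BB F) := by
  constructor
  · rintro i j h
    have h := QuotientGroup.eq.1 h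
    rw [mem_BB] at h
    rcases i with _ | x <;> rcases j with _ | y
    · rfl
    · simp [rep] at h
    · rw [rep_inv] at h
      simp [rep] at h
    · rw [rep_inv] at h
      simp [rep, mul_apply] at h
      rw [Option.some_inj]
      linear_combination -h
  · intro q
    induction q using QuotientGroup.induction_on with
    | _ g =>
      by_cases h : (g : Matrix (Fin 2) (Fin 2) F) 1 0 = 0
      · exact ⟨none, QuotientGroup.eq.2 (by simpa [rep, mem_BB] using h)⟩
      · refine ⟨some ((g : Matrix (Fin 2) (Fin 2) F) 0 0 / (g : Matrix (Fin 2) (Fin 2) F) 1 0),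
          QuotientGroup.eq.2 ?_⟩
        rw [mem_BB, rep_inv]
        simp [mul_apply, h]

/-! ### Linear characters of the Borel subgroup and of `GL₂` -/

/-- The linear character `b ↦ α b₁₁ β b₂₂`. -/
noncomputable def theta (α β : MulChar F ℂ) : BB F → ℂ := fun b =>
  α (((b : GL (Fin 2) F) : Matrix (Fin 2) (Fin 2) F) 0 0) *
    β (((b : GL (Fin 2) F) : Matrix (Fin 2) (Fin 2) F) 1 1)

theorem BB_mul_diag (b c : BB F) (i : Fin 2) :
    (((b * c : BB F) : GL (Fin 2) F) : Matrix (Fin 2) (Fin 2) F) i i =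
      ((b : GL (Fin 2) F) : Matrix (Fin 2) (Fin 2) F) i i *
        ((c : GL (Fin 2) F) : Matrix (Fin 2) (Fin 2) F) i i := by
  have hb := mem_BB.1 b.2
  have hc := mem_BB.1 c.2
  fin_cases i <;> simp [mul_apply, hb, hc]

/-- `theta` as a homomorphism. -/
noncomputable def thetaHom (α β : MulChar F ℂ) : BB F →* ℂ where
  toFun := theta α β
  map_one' := by simp [theta]
  map_mul' b c := by simp only [theta, BB_mul_diag, map_mul]; ring

theorem isClassFunction_theta (α β : MulChar F ℂ) : IsClassFunction (BB F) (theta α β) :=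
  IsCharacter.isClassFunction
    (IsIrrCharacter.isCharacter (isIrrCharacter_of_monoidHom (thetaHom α β)))

theorem isCharacter_theta (α β : MulChar F ℂ) : IsCharacter (BB F) (theta α β) :=
  IsIrrCharacter.isCharacter (isIrrCharacter_of_monoidHom (thetaHom α β))

/-- A multiplicative character on the units. -/
noncomputable def unitHom (α : MulChar F ℂ) : Fˣ →* ℂ := (Units.coeHom ℂ).comp α.toUnitHom

@[simp] theorem unitHom_apply (α : MulChar F ℂ) (a : Fˣ) : unitHom α a = α a :=
  MulChar.coe_toUnitHom α a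

theorem unitHom_injective : Function.Injective (unitHom (F := F)) := fun α β h =>
  MulChar.ext fun a => by rw [← unitHom_apply, h, unitHom_apply]

/-- The linear character `g ↦ α (det g)`. -/
noncomputable def detChar (α : MulChar F ℂ) : GL (Fin 2) F →* ℂ :=
  (unitHom α).comp GeneralLinearGroup.det

theorem detChar_apply (α : MulChar F ℂ) (g : GL (Fin 2) F) :
    detChar α g = α ((g : Matrix (Fin 2) (Fin 2) F).det) := by
  simp [detChar]

/-- Borel elements from their entries. -/
def bmk (p : Fˣ × Fˣ × F) : BB F :=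
  ⟨mk2 p.1 p.2.2 0 p.2.1 (by simp), mem_BB.2 rfl⟩

theorem bmk_bijective : Function.Bijective (bmk (F := F)) := by
  constructor
  · rintro ⟨a, d, b⟩ ⟨a', d', b'⟩ h
    have e : (!![(a : F), b; 0, (d : F)] : Matrix (Fin 2) (Fin 2) F) = !![(a' : F), b'; 0, (d' : F)] :=
      congrArg (fun g : BB F => ((g : GL (Fin 2) F) : Matrix (Fin 2) (Fin 2) F)) h
    exact Prod.ext (Units.ext (congrFun (congrFun e 0) 0))
      (Prod.ext (Units.ext (congrFun (congrFun e 1) 1)) (congrFun (congrFun e 0) 1))
  · intro b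
    have hb := mem_BB.1 b.2
    have hd := det_ne (b : GL (Fin 2) F)
    rw [hb, mul_zero, sub_zero, mul_ne_zero_iff] at hd
    exact ⟨(Units.mk0 _ hd.1, Units.mk0 _ hd.2, ((b : GL (Fin 2) F) : Matrix (Fin 2) (Fin 2) F) 0 1),
      Subtype.ext (ext2 rfl rfl hb.symm rfl)⟩

variable [Fintype F] [DecidableEq F]

omit [DecidableEq F] in
theorem card_units : Nat.card Fˣ = Fintype.card F - 1 := by
  rw [Nat.card_units, Nat.card_eq_fintype_card]

theorem card_BB :
    Nat.card (BB F) = (Fintype.card F - 1) * (Fintype.card F - 1) * Fintype.card F := by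
  rw [← Nat.card_congr (Equiv.ofBijective _ (bmk_bijective (F := F))), Nat.card_prod, Nat.card_prod,
    card_units, Nat.card_eq_fintype_card, mul_assoc]

/-- Orthogonality of multiplicative characters. -/
theorem sum_units_mul_conj (α β : MulChar F ℂ) [Decidable (α = β)] :
    ∑ a : Fˣ, α (a : F) * conj (β (a : F)) =
      if α = β then ((Fintype.card F - 1 : ℕ) : ℂ) else 0 := by
  have h : classInner (unitHom α : Fˣ → ℂ) (unitHom β) = if α = β then 1 else 0 := by
    split_ifs with he
    · subst he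
      exact classInner_irr_self (isIrrCharacter_of_monoidHom _)
    · exact classInner_irr_of_ne (isIrrCharacter_of_monoidHom _) (isIrrCharacter_of_monoidHom _)
        fun e => he (unitHom_injective (MonoidHom.ext (congrFun e)))
  simp only [classInner, unitHom_apply] at h
  have hc : (Nat.card Fˣ : ℂ) ≠ 0 := card_ne_zero
  rw [inv_mul_eq_iff_eq_mul₀ hc] at h
  rw [h, card_units]
  split_ifs <;> simp

/-! ### The principal series -/

/-- The principal series character. -/
noncomputable def PS (α β : MulChar F ℂ) : GL (Fin 2) F → ℂ := indFun (BB F) (theta α β)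

theorem isCharacter_PS (α β : MulChar F ℂ) : IsCharacter (GL (Fin 2) F) (PS α β) :=
  isCharacter_indFun (BB F) (isCharacter_theta α β)

theorem PS_apply (α β : MulChar F ℂ) (g : GL (Fin 2) F) :
    PS α β g = extendByZero (BB F) (theta α β) g +
      ∑ x : F, extendByZero (BB F) (theta α β) ((rep (some x))⁻¹ * g * rep (some x)) := by
  rw [PS, indFun_eq_sum_reps (BB F) (isClassFunction_theta α β) rep rep_bijective,
    Fintype.sum_option]
  simp [rep]

theorem PS_one (α β : MulChar F ℂ) : PS α β 1 = (Fintype.card F : ℂ) + 1 := by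
  simp [PS_apply, extendByZero_of_mem, theta, add_comm]

theorem PS_borel (α β : MulChar F ℂ) (g : GL (Fin 2) F)
    (hg : (g : Matrix (Fin 2) (Fin 2) F) 1 0 = 0) :
    PS α β g =
      α ((g : Matrix (Fin 2) (Fin 2) F) 0 0) * β ((g : Matrix (Fin 2) (Fin 2) F) 1 1) +
        ∑ x : F, if (g : Matrix (Fin 2) (Fin 2) F) 0 1 =
            x * (g : Matrix (Fin 2) (Fin 2) F) 1 1 - (g : Matrix (Fin 2) (Fin 2) F) 0 0 * x then
          α ((g : Matrix (Fin 2) (Fin 2) F) 1 1) * β ((g : Matrix (Fin 2) (Fin 2) F) 0 0) else 0 := by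
  rw [PS_apply, extendByZero_of_mem _ _ (mem_BB.2 hg)]
  refine congrArg₂ (· + ·) rfl (Finset.sum_congr rfl fun x _ => ?_)
  have e := rep_conj x g
  simp only [hg, zero_mul, zero_add, mul_zero, sub_zero] at e
  have hm : (rep (some x))⁻¹ * g * rep (some x) ∈ BB F ↔ (g : Matrix (Fin 2) (Fin 2) F) 0 1 =
      x * (g : Matrix (Fin 2) (Fin 2) F) 1 1 - (g : Matrix (Fin 2) (Fin 2) F) 0 0 * x := by
    rw [mem_BB, e]
    simp only [of_apply, cons_val', cons_val_zero, cons_val_one]
    constructor <;> intro h <;> linear_combination h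
  split_ifs with h
  · rw [extendByZero_of_mem _ _ (hm.2 h)]
    simp only [theta, e]
    simp
  · rw [extendByZero_of_notMem _ _ (fun h' => h (hm.1 h'))]

theorem PS_transvection (α β : MulChar F ℂ) (u : GL (Fin 2) F) {t : F} (ht : t ≠ 0)
    (hu : (u : Matrix (Fin 2) (Fin 2) F) = !![1, t; 0, 1]) : PS α β u = 1 := by
  rw [PS_borel α β u (by rw [hu]; rfl), hu]
  simp [ht]

theorem PS_eq_zero (α β : MulChar F ℂ) (g : GL (Fin 2) F)
    (hg : ∀ (c : F) (v : Fin 2 → F), v ≠ 0 →
      (g : Matrix (Fin 2) (Fin 2) F).mulVec v ≠ c • v) : PS α β g = 0 := by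
  refine indFun_eq_zero_of_forall_notMem _ _ fun x hx => ?_
  have h10 := mem_BB.1 hx
  set y := x⁻¹ * g * x with hy
  have e : (g : Matrix (Fin 2) (Fin 2) F) * (x : Matrix (Fin 2) (Fin 2) F) =
      (x : Matrix (Fin 2) (Fin 2) F) * (y : Matrix (Fin 2) (Fin 2) F) := by
    rw [← GeneralLinearGroup.coe_mul, ← GeneralLinearGroup.coe_mul, hy]
    congr 1
    group
  refine hg ((y : Matrix (Fin 2) (Fin 2) F) 0 0) (fun i => (x : Matrix (Fin 2) (Fin 2) F) i 0) ?_ ?_
  · intro h0
    exact det_ne x (by simp [congrFun h0 0, congrFun h0 1])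
  · funext i
    have := congrFun (congrFun e i) 0
    simpa [mul_apply, Fin.sum_univ_two, h10, mulVec, dotProduct, mul_comm] using this

theorem classInner_PS_theta (α β α' β' : MulChar F ℂ) [Decidable (α = α' ∧ β = β')]
    [Decidable (β = α' ∧ α = β')] :
    classInner (PS α β) (PS α' β') =
      (if α = α' ∧ β = β' then 1 else 0) + (if β = α' ∧ α = β' then 1 else 0) := by
  classical
  show classInner (PS α β) (indFun (BB F) (theta α' β')) = _
  rw [classInner_indFun_right (BB F) _ (IsCharacter.isClassFunction (isCharacter_PS α β))]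
  have hq : (Fintype.card F : ℂ) ≠ 0 := by exact_mod_cast Fintype.card_ne_zero
  have hq1 : ((Fintype.card F - 1 : ℕ) : ℂ) ≠ 0 := by
    have := Fintype.one_lt_card (α := F)
    exact_mod_cast (show Fintype.card F - 1 ≠ 0 by omega)
  have key : ∀ p : Fˣ × Fˣ,
      (∑ b : F, PS α β (bmk (p.1, p.2, b) : GL (Fin 2) F) * conj (theta α' β' (bmk (p.1, p.2, b)))) =
        (Fintype.card F : ℂ) *
          (α (p.1 : F) * conj (α' (p.1 : F)) * (β (p.2 : F) * conj (β' (p.2 : F))) +
            β (p.1 : F) * conj (α' (p.1 : F)) * (α (p.2 : F) * conj (β' (p.2 : F)))) := by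
    intro p
    have hb : ∀ b : F, PS α β (bmk (p.1, p.2, b) : GL (Fin 2) F) =
        α (p.1 : F) * β (p.2 : F) +
          ∑ x : F, if b = x * (p.2 : F) - (p.1 : F) * x then α (p.2 : F) * β (p.1 : F) else 0 :=
      fun b => by rw [PS_borel α β _ rfl]; rfl
    simp only [hb, show ∀ b : F, theta α' β' (bmk (p.1, p.2, b)) = α' (p.1 : F) * β' (p.2 : F) from
      fun b => rfl, add_mul, Finset.sum_add_distrib, ← Finset.sum_mul]
    rw [Finset.sum_comm]
    simp only [Finset.sum_ite_eq', Finset.mem_univ, if_true, Finset.sum_const, Finset.card_univ,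
      nsmul_eq_mul, map_mul]
    ring
  rw [classInner, ← (Equiv.ofBijective _ (bmk_bijective (F := F))).sum_comp]
  simp only [Equiv.ofBijective_apply]
  rw [Fintype.sum_prod_type]
  simp only [Fintype.sum_prod_type]
  rw [Finset.sum_congr rfl fun a _ => Finset.sum_congr rfl fun d _ => key (a, d)]
  simp only [Finset.sum_add_distrib, ← Finset.mul_sum, ← Finset.sum_mul, sum_units_mul_conj,
    card_BB, Nat.cast_mul]
  field_simp
  split_ifs <;> simp_all <;> ring

theorem classInner_PS_detChar (α β γ : MulChar F ℂ) [Decidable (α = γ ∧ β = γ)] :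
    classInner (PS α β) (detChar γ : GL (Fin 2) F → ℂ) = if α = γ ∧ β = γ then 1 else 0 := by
  classical
  rw [PS, classInner_indFun (BB F) _
    (IsCharacter.isClassFunction (IsIrrCharacter.isCharacter (isIrrCharacter_of_monoidHom _)))]
  have hγ : (fun h : BB F => detChar γ (h : GL (Fin 2) F)) = thetaHom γ γ := by
    funext h
    rw [detChar_apply, det_fin_two, mem_BB.1 h.2, mul_zero, sub_zero, map_mul]
    rfl
  rw [hγ]
  split_ifs with he
  · rw [he.1, he.2]
    exact classInner_irr_self (isIrrCharacter_of_monoidHom (thetaHom γ γ))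
  · refine classInner_irr_of_ne (isIrrCharacter_of_monoidHom (thetaHom α β))
      (isIrrCharacter_of_monoidHom (thetaHom γ γ)) fun e => he ?_
    refine ⟨MulChar.ext fun a => ?_, MulChar.ext fun a => ?_⟩
    · simpa [thetaHom, theta, bmk] using congrFun e (bmk (a, 1, 0))
    · simpa [thetaHom, theta, bmk] using congrFun e (bmk (1, a, 0))

theorem isIrrCharacter_PS {α β : MulChar F ℂ} (h : α ≠ β) :
    IsIrrCharacter (GL (Fin 2) F) (PS α β) := by
  classical
  refine isIrrCharacter_iff.2 ⟨isCharacter_PS α β, ?_⟩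
  rw [classInner_PS_theta, if_pos ⟨rfl, rfl⟩, if_neg fun e => h e.1.symm, add_zero]

theorem PS_swap (α β : MulChar F ℂ) : PS α β = PS β α := by
  classical
  refine sub_eq_zero.1 (classInner_self_eq_zero ?_)
  rw [classInner_sub_left, classInner_sub_right, classInner_sub_right, classInner_PS_theta,
    classInner_PS_theta, classInner_PS_theta, classInner_PS_theta]
  by_cases h : α = β
  · subst h; simp
  · simp [h, Ne.symm h]

theorem PS_eq_iff (α β α' β' : MulChar F ℂ) :
    PS α β = PS α' β' ↔ (α = α' ∧ β = β') ∨ (α = β' ∧ β = α') := by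
  classical
  constructor
  · intro h
    have e := classInner_PS_theta α β α' β'
    rw [← h, classInner_PS_theta, if_pos ⟨rfl, rfl⟩] at e
    by_contra hc
    push Not at hc
    rw [if_neg (c := α = α' ∧ β = β') fun x => hc.1 x.1 x.2,
      if_neg (c := β = α' ∧ α = β') fun x => hc.2 x.2 x.1] at e
    split_ifs at e <;> norm_num at e
  · rintro (⟨rfl, rfl⟩ | ⟨rfl, rfl⟩)
    · rfl
    · exact PS_swap _ _

end Cfsg.Agent.GL2Char
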