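import Cfsg.Agent.Lib.GL2Char.OddCount
import Cfsg.Agent.Lib.GL2Char.SLAbove

/-!
The irreducible characters of `SL₂` inside the principal series: cases, values, unipotent sums.
-/

set_option autoImplicit false
set_option linter.style.haveILetI false

namespace Cfsg.Agent.GL2Char

open Cfsg.Agent.Char Matrix
open scoped ComplexConjugate MatrixGroups

variable {F : Type*} [Field F] [Fintype F] [DecidableEq F]

theorem two_ne_zero_of_odd_card (hodd : Odd (Fintype.card F)) : (2 : F) ≠ 0 := by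
  refine Ring.two_ne_zero fun h => ?_
  have := FiniteField.even_card_of_char_two h
  rw [Nat.odd_iff] at hodd
  omega

/-- An irreducible character which meets the principal series. -/
theorem noncusp_cases (hodd : Odd (Fintype.card F)) (θ : IrrCharacter (SpecialLinearGroup (Fin 2) F))
    (h : ¬ IsCuspS θ) :
    (∃ γ : MulChar F ℂ, γ ^ 2 ≠ 1 ∧ θ.1 = PSS γ) ∨ θ = trivialChar (SpecialLinearGroup (Fin 2) F) ∨ θ = stS ∨
      ∃ (σ : MulChar F ℂ) (fa fb : SpecialLinearGroup (Fin 2) F → ℂ), σ ^ 2 = 1 ∧ σ ≠ 1 ∧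
        PSS σ = fa + fb ∧ fa 1 = (((Fintype.card F + 1) / 2 : ℕ) : ℂ) ∧
        fb 1 = (((Fintype.card F + 1) / 2 : ℕ) : ℂ) ∧ (θ.1 = fa ∨ θ.1 = fb) ∧
        ∃ x : GL (Fin 2) F, ∀ g k : SpecialLinearGroup (Fin 2) F,
          SpecialLinearGroup.toGL k = x * SpecialLinearGroup.toGL g * x⁻¹ → fb k = fa g := by
  classical
  simp only [IsCuspS, not_forall] at h
  obtain ⟨γ, hγ⟩ := h
  by_cases h2 : γ ^ 2 = 1
  · by_cases h1 : γ = 1
    · subst h1
      rw [show PSS (1 : MulChar F ℂ) = (trivialChar (SpecialLinearGroup (Fin 2) F)).1 + (stS (F := F)).1 from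
        (add_sub_cancel _ _).symm, classInner_add_right] at hγ
      by_cases e : θ = trivialChar (SpecialLinearGroup (Fin 2) F)
      · exact Or.inr (Or.inl e)
      · refine Or.inr (Or.inr (Or.inl ?_))
        by_contra e'
        exact hγ (by rw [classInner_irr_of_ne θ.2 (trivialChar _).2 fun h => e (Subtype.ext h),
          classInner_irr_of_ne θ.2 stS.2 fun h => e' (Subtype.ext h), add_zero])
    · obtain ⟨fa, fb, ha, hb, -, hsum, hda, hdb, hx⟩ := PSS_order_two hodd γ h2 h1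
      refine Or.inr (Or.inr (Or.inr ⟨γ, fa, fb, h2, h1, hsum, hda, hdb, ?_, hx⟩))
      by_contra hc
      simp only [not_or] at hc
      exact hγ (by rw [hsum, classInner_add_right, classInner_irr_of_ne θ.2 ha hc.1,
        classInner_irr_of_ne θ.2 hb hc.2, add_zero])
  · refine Or.inl ⟨γ, h2, ?_⟩
    by_contra e
    exact hγ (classInner_irr_of_ne θ.2 ((isIrrCharacter_PSS_iff γ).2 h2) e)

theorem noncusp_degree (hodd : Odd (Fintype.card F)) (θ : IrrCharacter (SpecialLinearGroup (Fin 2) F))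
    (h : ¬ IsCuspS θ) :
    θ.1 1 = (Fintype.card F : ℂ) + 1 ∨ θ.1 1 = 1 ∨ θ.1 1 = (Fintype.card F : ℂ) ∨
      θ.1 1 = (((Fintype.card F + 1) / 2 : ℕ) : ℂ) := by
  rcases noncusp_cases hodd θ h with ⟨γ, -, e⟩ | e | e | ⟨σ, fa, fb, -, -, -, ha, hb, e, -⟩
  · exact Or.inl (by rw [e, PSS_one'])
  · exact Or.inr (Or.inl (by rw [e, trivialChar_apply]))
  · exact Or.inr (Or.inr (Or.inl (by rw [e, stS_apply_one])))
  · exact Or.inr (Or.inr (Or.inr (by rcases e with e | e <;> rw [e] <;> assumption)))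

theorem cusp_degree (hodd : Odd (Fintype.card F)) (θ : IrrCharacter (SpecialLinearGroup (Fin 2) F))
    (h : IsCuspS θ) :
    θ.1 1 = (Fintype.card F : ℂ) - 1 ∨ θ.1 1 = (((Fintype.card F - 1) / 2 : ℕ) : ℂ) := by
  obtain ⟨n, hn, e⟩ := IsCuspS.exists_mult hodd h
  obtain ⟨m, hm⟩ := hodd
  rw [hm, show (2 * m + 1 - 1) / 2 = m by omega]
  rcases hn with rfl | rfl <;> rw [hm] at e <;> push_cast at e ⊢
  · exact Or.inr (by linear_combination (1 / 2 : ℂ) * e)
  · exact Or.inl (by linear_combination (1 / 2 : ℂ) * e)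

/-- On the elements which are determined by their trace the two halves of `PSS σ` agree. -/
theorem half_eq_of_tr {fa fb : SpecialLinearGroup (Fin 2) F → ℂ} {x : GL (Fin 2) F}
    (hx : ∀ g k : SpecialLinearGroup (Fin 2) F,
      SpecialLinearGroup.toGL k = x * SpecialLinearGroup.toGL g * x⁻¹ → fb k = fa g)
    (hb : IsClassFunction (SpecialLinearGroup (Fin 2) F) fb)
    (g : SpecialLinearGroup (Fin 2) F) (h4 : PSL2.tr g ^ 2 ≠ 4) : fb g = fa g := by
  have hd : ((x * SpecialLinearGroup.toGL g * x⁻¹ : GL (Fin 2) F) : Matrix (Fin 2) (Fin 2) F).det = 1 := by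
    rw [Units.val_mul, Units.val_mul, Matrix.coe_units_inv, Matrix.det_conj x.isUnit]
    exact g.2
  obtain ⟨k, hk⟩ : ∃ k : SpecialLinearGroup (Fin 2) F,
      SpecialLinearGroup.toGL k = x * SpecialLinearGroup.toGL g * x⁻¹ := ⟨⟨_, hd⟩, Units.ext rfl⟩
  have ht : PSL2.tr k = PSL2.tr g := by
    rw [PSL2.tr_eq_trace, PSL2.tr_eq_trace]
    show ((SpecialLinearGroup.toGL k : GL (Fin 2) F) : Matrix (Fin 2) (Fin 2) F).trace = _
    rw [hk, Units.val_mul, Units.val_mul, Matrix.trace_units_conj]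
    rfl
  rw [← hx g k hk]
  exact IsClassFunction.apply_of_isConj hb (PSL2.isConj_of_tr ht.symm h4)

omit [Fintype F] [DecidableEq F] in
/-- Conjugation by `GL₂` on the unipotent radical, up to `SL₂`. -/
theorem exists_sl_conj_uni (x : GL (Fin 2) F) :
    ∃ (s : SpecialLinearGroup (Fin 2) F) (δ : F), δ ≠ 0 ∧ ∀ b : F,
      SpecialLinearGroup.toGL (s * uni (δ * b) * s⁻¹) = x * SpecialLinearGroup.toGL (uni b) * x⁻¹ := by
  set δ := (x : Matrix (Fin 2) (Fin 2) F).det
  have hδ : δ ≠ 0 := GeneralLinearGroup.det_ne_zero x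
  let d : GL (Fin 2) F := mk2 δ 0 0 1 (by simpa using hδ)
  have hs : ((x * d⁻¹ : GL (Fin 2) F) : Matrix (Fin 2) (Fin 2) F).det = 1 := by
    have h1 : ((x * d⁻¹ : GL (Fin 2) F) : Matrix (Fin 2) (Fin 2) F).det *
        (d : Matrix (Fin 2) (Fin 2) F).det = δ := by
      rw [← det_mul, ← Units.val_mul, inv_mul_cancel_right]
    rw [show (d : Matrix (Fin 2) (Fin 2) F).det = δ by simp [d, det_fin_two]] at h1
    exact (mul_eq_right₀ hδ).1 h1
  obtain ⟨k, hk⟩ : ∃ k : SpecialLinearGroup (Fin 2) F, SpecialLinearGroup.toGL k = x * d⁻¹ :=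
    ⟨⟨_, hs⟩, Units.ext rfl⟩
  refine ⟨k, δ, hδ, fun b => ?_⟩
  have e : d * SpecialLinearGroup.toGL (uni b) = SpecialLinearGroup.toGL (uni (δ * b)) * d := by
    apply ext2 <;> simp [d, mul_apply, show ∀ c : F, ((SpecialLinearGroup.toGL (uni c) : GL (Fin 2) F) : Matrix (Fin 2) (Fin 2) F) = !![1, c; 0, 1] from fun c => rfl]
  rw [map_mul, map_mul, map_inv, hk, _root_.mul_inv_rev, inv_inv,
    show x * d⁻¹ * SpecialLinearGroup.toGL (uni (δ * b)) * (d * x⁻¹) =
      x * d⁻¹ * (SpecialLinearGroup.toGL (uni (δ * b)) * d) * x⁻¹ by group, ← e]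
  group

omit [DecidableEq F] in
theorem half_sum_uni {fa fb : SpecialLinearGroup (Fin 2) F → ℂ} {x : GL (Fin 2) F}
    (hx : ∀ g k : SpecialLinearGroup (Fin 2) F,
      SpecialLinearGroup.toGL k = x * SpecialLinearGroup.toGL g * x⁻¹ → fb k = fa g)
    (hb : IsClassFunction (SpecialLinearGroup (Fin 2) F) fb) :
    ∑ b, fb (uni b) = ∑ b, fa (uni b) := by
  obtain ⟨s, δ, hδ, hs⟩ := exists_sl_conj_uni x
  refine Fintype.sum_equiv (Equiv.mulLeft₀ δ⁻¹ (inv_ne_zero hδ)) _ _ fun b => ?_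
  rw [← hx _ _ (hs (Equiv.mulLeft₀ δ⁻¹ (inv_ne_zero hδ) b))]
  rw [Equiv.mulLeft₀_apply, mul_inv_cancel_left₀ hδ]
  exact (hb _ s).symm

omit [Fintype F] [DecidableEq F] in
theorem uni_eq_bmkS (b : F) : uni b = (bmkS ((1 : Fˣ), b) : SpecialLinearGroup (Fin 2) F) :=
  PSL2.ext2 (by simp [uni, bmkS]) (by simp [uni, bmkS]) (by simp [uni, bmkS]) (by simp [uni, bmkS])

theorem PSS_sum_uni (γ : MulChar F ℂ) : ∑ b, PSS γ (uni b) = 2 * (Fintype.card F : ℂ) := by
  have h : ∀ b, PSS γ (uni b) = if b = 0 then (Fintype.card F : ℂ) + 1 else 1 := by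
    intro b
    split_ifs with hb
    · rw [hb, show uni (0 : F) = 1 from PSL2.ext2 rfl rfl rfl rfl, PSS_one']
    · rw [PSS_eq, PS_parabolic γ 1 _ rfl rfl hb]
      show γ 1 * (1 : MulChar F ℂ) 1 = 1
      rw [map_one, map_one, mul_one]
  simp only [h]
  rw [Fintype.sum_eq_add_sum_compl (0 : F), if_pos rfl, Finset.sum_congr rfl (g := fun _ => (1 : ℂ))
    fun b hb => if_neg (by simpa using hb), Finset.sum_const, nsmul_eq_mul, mul_one, Finset.card_compl,
    Finset.card_singleton, Nat.cast_sub (Fintype.card_pos)]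
  push_cast
  ring

theorem stS_sum_uni : ∑ b, (stS (F := F)).1 (uni b) = (Fintype.card F : ℂ) := by
  have h : ∀ g, (stS (F := F)).1 g = PSS 1 g - 1 := fun g => rfl
  simp only [h, Finset.sum_sub_distrib, PSS_sum_uni, Finset.sum_const, Finset.card_univ, nsmul_eq_mul]
  ring

end Cfsg.Agent.GL2Char
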