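import Cfsg.Agent.Lib.GL2Char.SLAbove
import Cfsg.Agent.Lib.GL2Char.OddCount
import Mathlib.NumberTheory.GaussSum

/-!
Values of the irreducible characters of `SL₂` at tori and transvections.
-/

set_option autoImplicit false
set_option linter.style.haveILetI false

namespace Cfsg.Agent.GL2Char

open Cfsg.Agent.Char Matrix
open scoped ComplexConjugate MatrixGroups

variable {F : Type*} [Field F] [Fintype F] [DecidableEq F]

omit [DecidableEq F] in
theorem ringChar_ne_two (hodd : Odd (Fintype.card F)) : ringChar F ≠ 2 := fun h => by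
  have := FiniteField.even_card_of_char_two h
  rw [Nat.odd_iff] at hodd
  omega

/-! ### Sums over the cosets of the unipotent group -/

theorem sum_coset_eq (θ : IrrCharacter (SpecialLinearGroup (Fin 2) F)) [Fintype (MulChar F ℂ)]
    (a₀ : Fˣ) :
    ∑ b : F, θ.1 (bmkS (a₀, b) : SpecialLinearGroup (Fin 2) F) =
      (Fintype.card F : ℂ) * ∑ γ : MulChar F ℂ, γ (a₀ : F) * classInner θ.1 (PSS γ) := by
  classical
  have hM : Fintype.card (MulChar F ℂ) = Fintype.card F - 1 := by
    rw [← Nat.card_eq_fintype_card, card_mulChar]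
  have hq : (Fintype.card F : ℂ) ≠ 0 := by exact_mod_cast Fintype.card_ne_zero
  have hq1 : ((Fintype.card F - 1 : ℕ) : ℂ) ≠ 0 := by
    have := Fintype.one_lt_card (α := F)
    exact_mod_cast (show Fintype.card F - 1 ≠ 0 by omega)
  have h0 : ∀ γ : MulChar F ℂ, ((Fintype.card F - 1 : ℕ) : ℂ) * (Fintype.card F : ℂ) *
      classInner θ.1 (PSS γ) = ∑ a : Fˣ,
        (∑ b : F, θ.1 (bmkS (a, b) : SpecialLinearGroup (Fin 2) F)) * conj (γ (a : F)) := by
    intro γ
    rw [PSS, classInner_indFun_right (BS F) _ (IsCharacter.isClassFunction (irr_isCharacter θ)),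
      classInner, ← (Equiv.ofBijective _ (bmkS_bijective (F := F))).sum_comp, Fintype.sum_prod_type,
      card_BS, Nat.cast_mul, ← mul_assoc, mul_inv_cancel₀ (mul_ne_zero hq1 hq), one_mul]
    refine Finset.sum_congr rfl fun a _ => ?_
    rw [Finset.sum_mul]
    rfl
  refine mul_left_cancel₀ hq1 ?_
  calc ((Fintype.card F - 1 : ℕ) : ℂ) * ∑ b : F, θ.1 (bmkS (a₀, b) : SpecialLinearGroup (Fin 2) F)
      = ∑ a : Fˣ, (∑ b : F, θ.1 (bmkS (a, b) : SpecialLinearGroup (Fin 2) F)) *
          ∑ γ : MulChar F ℂ, γ (a₀ : F) * conj (γ (a : F)) := by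
        simp only [sum_mulChar_mul_conj, mul_ite, mul_zero, Finset.sum_ite_eq', Finset.mem_univ,
          if_true, hM]
        ring
    _ = ∑ γ : MulChar F ℂ, γ (a₀ : F) * ∑ a : Fˣ,
          (∑ b : F, θ.1 (bmkS (a, b) : SpecialLinearGroup (Fin 2) F)) * conj (γ (a : F)) := by
        simp only [Finset.mul_sum]
        rw [Finset.sum_comm]
        exact Finset.sum_congr rfl fun γ _ => Finset.sum_congr rfl fun a _ => by ring
    _ = _ := by
        simp only [← h0, Finset.mul_sum]
        exact Finset.sum_congr rfl fun γ _ => by ring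

/-- Cuspidal characters of `SL₂` vanish on the regular part of the split torus. -/
theorem IsCuspS.torus {θ : IrrCharacter (SpecialLinearGroup (Fin 2) F)} (hc : IsCuspS θ)
    (g : SpecialLinearGroup (Fin 2) F) (h01 : (g : Matrix (Fin 2) (Fin 2) F) 0 1 = 0)
    (h10 : (g : Matrix (Fin 2) (Fin 2) F) 1 0 = 0)
    (ha : (g : Matrix (Fin 2) (Fin 2) F) 0 0 ^ 2 ≠ 1) : θ.1 g = 0 := by
  classical
  haveI := Fintype.ofFinite (MulChar F ℂ)
  have hd := g.2
  rw [det_fin_two, h10, mul_zero, sub_zero] at hd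
  have hg0 := left_ne_zero_of_mul_eq_one hd
  set a : Fˣ := Units.mk0 _ (left_ne_zero_of_mul_eq_one hd) with hA
  have h := sum_coset_eq θ a
  rw [Finset.sum_eq_zero (f := fun γ : MulChar F ℂ => γ (a : F) * classInner θ.1 (PSS γ))
    (fun γ _ => by rw [hc γ, mul_zero]), mul_zero] at h
  have h11 : (g : Matrix (Fin 2) (Fin 2) F) 1 1 = ((a⁻¹ : Fˣ) : F) := by
    rw [Units.val_inv_eq_inv_val, eq_comm]
    exact inv_eq_of_mul_eq_one_right hd
  have hne : ((a⁻¹ : Fˣ) : F) - (a : F) ≠ 0 := fun h' => ha (by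
    rw [← h11, sub_eq_zero] at h'
    rw [sq]; nth_rw 2 [show (g : Matrix (Fin 2) (Fin 2) F) 0 0 = (g : Matrix (Fin 2) (Fin 2) F) 1 1 from h'.symm]
    exact hd)
  have e : ∀ b : F, θ.1 (bmkS (a, b) : SpecialLinearGroup (Fin 2) F) = θ.1 g := by
    intro b
    refine (IsClassFunction.apply_of_isConj (IsCharacter.isClassFunction (irr_isCharacter θ))
      (isConj_iff.2 ⟨uni (b / (((a⁻¹ : Fˣ) : F) - (a : F))), ?_⟩)).symm
    rw [mul_inv_eq_iff_eq_mul]
    refine Matrix.SpecialLinearGroup.ext _ _ fun i j => ?_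
    rw [Matrix.SpecialLinearGroup.coe_mul, Matrix.SpecialLinearGroup.coe_mul, coe_uni, coe_bmkS]
    fin_cases i <;> fin_cases j <;>
      simp [mul_apply, Fin.sum_univ_two, h01, h10, h11, hA, Units.val_inv_eq_inv_val] at hne ⊢ <;>
      field_simp <;> ring
  simp only [e, Finset.sum_const, Finset.card_univ, nsmul_eq_mul, mul_eq_zero] at h
  exact h.resolve_left (by simp)

/-! ### The characters below the principal series -/

/-- A constituent of a non-trivial principal series. -/
theorem PSS_constituent {θ : IrrCharacter (SpecialLinearGroup (Fin 2) F)} {γ : MulChar F ℂ}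
    (hγ : γ ≠ 1) (h : classInner (PSS γ) θ.1 ≠ 0) :
    (γ ^ 2 ≠ 1 ∧ θ.1 = PSS γ) ∨
    (γ ^ 2 = 1 ∧ Odd (Fintype.card F) ∧
      θ.1 1 = (((Fintype.card F + 1) / 2 : ℕ) : ℂ) ∧
      (∃ θ' : IrrCharacter (SpecialLinearGroup (Fin 2) F), θ' ≠ θ ∧ PSS γ = θ.1 + θ'.1) ∧
      ∀ g : SpecialLinearGroup (Fin 2) F,
        (∀ (c : F) (v : Fin 2 → F), v ≠ 0 → (g : Matrix (Fin 2) (Fin 2) F).mulVec v ≠ c • v) →
        θ.1 g = 0) := by
  classical
  by_cases h2 : γ ^ 2 = 1
  swap
  · refine Or.inl ⟨h2, ?_⟩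
    by_contra hc
    exact h (classInner_irr_of_ne ((isIrrCharacter_PSS_iff γ).2 h2) θ.2 (Ne.symm hc))
  refine Or.inr ?_
  rcases Nat.even_or_odd (Fintype.card F) with hev | hodd
  · exact absurd (eq_one_of_sq_of_even hev h2) hγ
  obtain ⟨fa, fb, ha, hb, hne, hsum, hda, hdb, x, hx⟩ := PSS_order_two hodd γ h2 hγ
  have hθ : θ.1 = fa ∨ θ.1 = fb := by
    by_contra hc
    simp only [not_or] at hc
    exact h (by rw [hsum, classInner_add_left, classInner_irr_of_ne ha θ.2 (Ne.symm hc.1),
      classInner_irr_of_ne hb θ.2 (Ne.symm hc.2), add_zero])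
  refine ⟨h2, hodd, ?_, ?_, fun g hg => ?_⟩
  · rcases hθ with e | e <;> rw [e] <;> assumption
  · rcases hθ with e | e
    · exact ⟨⟨fb, hb⟩, fun h' => hne (e.symm.trans (congrArg Subtype.val h').symm),
        by rw [e]; exact hsum⟩
    · exact ⟨⟨fa, ha⟩, fun h' => hne ((congrArg Subtype.val h').trans e),
        by rw [e, add_comm]; exact hsum⟩
  · -- the two halves agree at elliptic elements
    have h0 : PSS γ g = 0 := by rw [PSS_eq]; exact PS_eq_zero γ 1 _ hg
    set h' : SpecialLinearGroup (Fin 2) F :=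
      ⟨((x * SpecialLinearGroup.toGL g * x⁻¹ : GL (Fin 2) F) : Matrix (Fin 2) (Fin 2) F), by
        rw [GeneralLinearGroup.coe_mul, GeneralLinearGroup.coe_mul, det_units_conj]
        exact g.2⟩ with hh
    have hconj : SpecialLinearGroup.toGL h' = x * SpecialLinearGroup.toGL g * x⁻¹ := Units.ext rfl
    have htr : (g : Matrix (Fin 2) (Fin 2) F).trace ^ 2 ≠ 4 := by
      intro h4
      have hd := g.2
      rw [det_fin_two] at hd
      rw [trace_fin_two] at h4
      have h2' : (2 : F) ≠ 0 := Ring.two_ne_zero (ringChar_ne_two hodd)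
      set r := ((g : Matrix (Fin 2) (Fin 2) F) 0 0 + (g : Matrix (Fin 2) (Fin 2) F) 1 1) / 2 with hr
      obtain ⟨v, hv, hv'⟩ := (Matrix.exists_mulVec_eq_zero_iff
        (M := (g : Matrix (Fin 2) (Fin 2) F) - r • 1)).2 (by
          have e2 : 2 * r = (g : Matrix (Fin 2) (Fin 2) F) 0 0 + (g : Matrix (Fin 2) (Fin 2) F) 1 1 := by
            rw [hr]; field_simp
          rw [det_fin_two]
          simp only [Matrix.sub_apply, Matrix.smul_apply, Matrix.one_apply_eq, smul_eq_mul, mul_one,
            Matrix.one_apply_ne (show (0 : Fin 2) ≠ 1 by decide),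
            Matrix.one_apply_ne (show (1 : Fin 2) ≠ 0 by decide), mul_zero, sub_zero]
          have h4' : (2 * r) ^ 2 = 4 := by rw [e2]; exact h4
          have : r * r = 1 := mul_left_cancel₀ (mul_ne_zero h2' h2') (by linear_combination h4')
          linear_combination hd + r * e2 - this)
      rw [Matrix.sub_mulVec, Matrix.smul_mulVec, Matrix.one_mulVec, sub_eq_zero] at hv'
      exact hg r v hv hv'
    have htr' : (h' : Matrix (Fin 2) (Fin 2) F).trace = (g : Matrix (Fin 2) (Fin 2) F).trace := by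
      show ((x * SpecialLinearGroup.toGL g * x⁻¹ : GL (Fin 2) F) : Matrix (Fin 2) (Fin 2) F).trace = _
      rw [GeneralLinearGroup.coe_mul, GeneralLinearGroup.coe_mul, trace_units_conj]
      rfl
    have hc : IsConj g h' := PSL2.TraceClasses.isConj_of_trace g h'
      (PSL2.TraceClasses.not_isScalar'_of_trace g htr)
      (PSL2.TraceClasses.not_isScalar'_of_trace h' (by rw [htr']; exact htr)) htr'.symm htr
    have hab : fb g = fa g := by
      rw [IsClassFunction.apply_of_isConj
        (IsCharacter.isClassFunction (IsIrrCharacter.isCharacter hb)) hc]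
      exact hx g h' hconj
    rw [hsum, Pi.add_apply, hab] at h0
    rcases hθ with e | e <;> rw [e]
    · linear_combination (1 / 2 : ℂ) * h0
    · rw [hab]; linear_combination (1 / 2 : ℂ) * h0

/-- The constituents of the non-trivial principal series, trivial, Steinberg, and the rest. -/
theorem cases_SL (θ : IrrCharacter (SpecialLinearGroup (Fin 2) F)) :
    θ = trivialChar (SpecialLinearGroup (Fin 2) F) ∨ θ = stS ∨
      (∃ γ : MulChar F ℂ, γ ≠ 1 ∧ classInner (PSS γ) θ.1 ≠ 0) ∨ IsCuspS θ := by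
  classical
  by_cases hc : IsCuspS θ
  · exact Or.inr (Or.inr (Or.inr hc))
  simp only [IsCuspS, not_forall] at hc
  obtain ⟨γ, hγ⟩ := hc
  by_cases h1 : γ = 1
  · subst h1
    rw [show PSS (1 : MulChar F ℂ) = (trivialChar (SpecialLinearGroup (Fin 2) F)).1 + (stS (F := F)).1
      from (add_sub_cancel _ _).symm, classInner_add_right] at hγ
    by_contra hc
    simp only [not_or] at hc
    exact hγ (by rw [classInner_irr_of_ne θ.2 (trivialChar _).2 fun e => hc.1 (Subtype.ext e),
      classInner_irr_of_ne θ.2 stS.2 fun e => hc.2.1 (Subtype.ext e), add_zero])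
  · refine Or.inr (Or.inr (Or.inl ⟨γ, h1, fun h0 => hγ ?_⟩))
    rw [← conj_classInner, h0, map_zero]

theorem isCuspS_of_degree (hodd : Odd (Fintype.card F)) (h5 : 5 ≤ Fintype.card F)
    (θ : IrrCharacter (SpecialLinearGroup (Fin 2) F))
    (h : θ.1 1 = (Fintype.card F : ℂ) - 1 ∨ θ.1 1 = (((Fintype.card F - 1) / 2 : ℕ) : ℂ)) :
    IsCuspS θ := by
  obtain ⟨m, hm⟩ := hodd
  have key : ∀ d : ℕ, θ.1 1 = (d : ℂ) → d = 2 * m ∨ d = m := by
    intro d hd
    rw [hm, show (2 * m + 1 - 1) / 2 = m by omega] at h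
    rcases h with h | h <;> rw [hd] at h
    · left
      have : (d : ℂ) = ((2 * m : ℕ) : ℂ) := by push_cast at h ⊢; linear_combination h
      exact Nat.cast_injective this
    · exact Or.inr (Nat.cast_injective h)
  rcases cases_SL θ with e | e | ⟨γ, hγ, e⟩ | e
  · have := key 1 (by rw [e, trivialChar_apply, Nat.cast_one])
    omega
  · have := key _ (by rw [e, stS_apply_one])
    omega
  · rcases PSS_constituent hγ e with ⟨-, e'⟩ | ⟨-, -, e', -, -⟩
    · have := key (2 * m + 2) (by rw [e', PSS_one', hm]; push_cast; ring)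
      omega
    · rw [hm, show (2 * m + 1 + 1) / 2 = m + 1 by omega] at e'
      have := key _ e'
      omega
  · exact e

/-! ### Transvections -/

theorem value_uni_of_degree_q_add_one (θ : IrrCharacter (SpecialLinearGroup (Fin 2) F))
    (h : θ.1 1 = (Fintype.card F : ℂ) + 1) : θ.1 (uni 1) = 1 := by
  rcases above_cases θ with e | e | ⟨γ, hγ, e⟩ | ⟨χ, hc, e⟩
  · rw [e, trivialChar_apply] at h
    exact absurd h.symm (by simp)
  · rw [e, stS_apply_one] at h
    simp at h
  · rw [← eq_of_constituent_degree (isCharacter_PSS γ) θ e (by rw [h, PSS_one']), PSS_eq]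
    exact PS_transvection γ 1 _ one_ne_zero rfl
  · exfalso
    obtain ⟨n, hn⟩ := degree_le_of_constituent
      (IsCharacter.comp (irr_isCharacter χ) SpecialLinearGroup.toGL) θ e
    simp only [map_one] at hn
    rw [hc.apply_one, h] at hn
    have : ((n + 2 : ℕ) : ℂ) = ((0 : ℕ) : ℂ) := by push_cast; linear_combination -hn
    exact absurd (Nat.cast_injective this) (Nat.succ_ne_zero _)

theorem value_uni_of_degree_q_sub_one (hq : 4 ≤ Fintype.card F)
    (θ : IrrCharacter (SpecialLinearGroup (Fin 2) F))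
    (h : θ.1 1 = (Fintype.card F : ℂ) - 1) : θ.1 (uni 1) = -1 := by
  rcases above_cases θ with e | e | ⟨γ, hγ, e⟩ | ⟨χ, hc, e⟩
  · exfalso
    rw [e, trivialChar_apply] at h
    have : ((2 : ℕ) : ℂ) = Fintype.card F := by push_cast; linear_combination h
    have := Nat.cast_injective this
    omega
  · rw [e, stS_apply_one] at h
    exact absurd (show (1 : ℂ) = 0 by linear_combination h) one_ne_zero
  · exfalso
    rcases PSS_constituent hγ e with ⟨-, e'⟩ | ⟨-, hodd, e', -, -⟩
    · rw [e', PSS_one'] at h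
      exact two_ne_zero (show (2 : ℂ) = 0 by linear_combination h)
    · obtain ⟨m, hm⟩ := hodd
      rw [e', hm, show (2 * m + 1 + 1) / 2 = m + 1 by omega] at h
      have : ((m + 1 : ℕ) : ℂ) = ((2 * m : ℕ) : ℂ) := by push_cast at h ⊢; linear_combination h
      have := Nat.cast_injective this
      omega
  · have he := eq_of_constituent_degree
      (IsCharacter.comp (irr_isCharacter χ) SpecialLinearGroup.toGL) θ e
      (by simp only [map_one]; rw [hc.apply_one, h])
    rw [← he]
    exact hc.apply_transvection _ rfl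

/-- The value at `uni t` in terms of the quadratic character. -/
theorem value_uni_eq (hodd : Odd (Fintype.card F)) (θ : IrrCharacter (SpecialLinearGroup (Fin 2) F)) :
    ∃ s D : ℂ, θ.1 (uni 1) = (s + D) / 2 ∧ ∀ t : F, t ≠ 0 →
      θ.1 (uni t) = s / 2 + D / 2 * ((quadraticChar F t : ℤ) : ℂ) := by
  obtain ⟨ν, hν⟩ := FiniteField.exists_nonsquare (ringChar_ne_two hodd)
  have h2 : (2 : F) ≠ 0 := Ring.two_ne_zero (ringChar_ne_two hodd)
  have hν0 : ν ≠ 0 := fun h => hν (h ▸ IsSquare.zero)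
  have hsq : ∀ a t : F, a ≠ 0 → θ.1 (uni (a * a * t)) = θ.1 (uni t) := by
    intro a t ha
    refine (IsClassFunction.apply_of_isConj (IsCharacter.isClassFunction (irr_isCharacter θ))
      (isConj_iff.2 ⟨(bmkS (Units.mk0 a ha, 0) : SpecialLinearGroup (Fin 2) F), ?_⟩)).symm
    rw [mul_inv_eq_iff_eq_mul]
    refine Matrix.SpecialLinearGroup.ext _ _ fun i j => ?_
    rw [Matrix.SpecialLinearGroup.coe_mul, Matrix.SpecialLinearGroup.coe_mul]
    fin_cases i <;> fin_cases j <;> simp [coe_uni, coe_bmkS, mul_apply, Fin.sum_univ_two] <;>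
      field_simp
  refine ⟨θ.1 (uni 1) + θ.1 (uni ν), θ.1 (uni 1) - θ.1 (uni ν), by ring, fun t ht => ?_⟩
  by_cases hs : IsSquare t
  · rw [(quadraticChar_one_iff_isSquare ht).2 hs]
    obtain ⟨a, rfl⟩ := hs
    have := hsq a 1 (left_ne_zero_of_mul ht)
    rw [mul_one] at this
    rw [this]
    push_cast
    ring
  · rw [quadraticChar_neg_one_iff_not_isSquare.2 hs]
    obtain ⟨a, ha⟩ := isSquare_mul_of_not h2 hs hν
    have ha0 : a ≠ 0 := fun h0 => mul_ne_zero ht hν0 (by rw [ha, h0, zero_mul])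
    have := hsq (a / ν) ν (div_ne_zero ha0 hν0)
    rw [show a / ν * (a / ν) * ν = t by field_simp; linear_combination -ha] at this
    rw [this]
    push_cast
    ring

theorem uni_zero : (uni (0 : F)) = 1 :=
  Matrix.SpecialLinearGroup.ext _ _ fun i j => by fin_cases i <;> fin_cases j <;> simp [coe_uni]

theorem bmkS_one_eq (b : F) :
    (bmkS ((1 : Fˣ), b) : SpecialLinearGroup (Fin 2) F) = uni b :=
  Matrix.SpecialLinearGroup.ext _ _ fun i j => by
    fin_cases i <;> fin_cases j <;> simp [coe_uni, coe_bmkS]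

/-- The quadratic equation for a character of degree `(q ± 1) / 2`. -/
theorem value_sq (hodd : Odd (Fintype.card F)) [Fintype (MulChar F ℂ)]
    (θ : IrrCharacter (SpecialLinearGroup (Fin 2) F)) {k : ℕ} {sg : ℂ} (hsg : sg = 1 ∨ sg = -1)
    (hd : 2 * θ.1 1 = (Fintype.card F : ℂ) + sg)
    (hk : ∑ γ : MulChar F ℂ, γ ((1 : Fˣ) : F) * classInner θ.1 (PSS γ) = k)
    (hk' : 2 * (k : ℂ) = 1 + sg) :
    (2 * θ.1 (uni 1) - sg) ^ 2 =
      (-1 : ℂ) ^ ((Fintype.card F - 1) / 2) * (Fintype.card F : ℂ) := by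
  classical
  have hF := ringChar_ne_two hodd
  obtain ⟨s, D, hA, hval⟩ := value_uni_eq hodd θ
  set q : ℂ := (Fintype.card F : ℂ) with hqdef
  have hq : q ≠ 0 := by rw [hqdef]; exact_mod_cast Fintype.card_ne_zero
  have hχsum : ∑ t ∈ Finset.univ.erase (0 : F), ((quadraticChar F t : ℤ) : ℂ) = 0 := by
    have h := quadraticChar_sum_zero hF
    rw [← Finset.add_sum_erase _ _ (Finset.mem_univ (0 : F)), MulChar.map_zero, zero_add] at h
    rw [← Int.cast_sum, h, Int.cast_zero]
  have hs : s = sg := by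
    have h := sum_coset_eq θ 1
    simp only [bmkS_one_eq] at h
    rw [hk, ← Finset.add_sum_erase _ _ (Finset.mem_univ (0 : F)), uni_zero,
      Finset.sum_congr rfl fun t ht => hval t (Finset.ne_of_mem_erase ht), Finset.sum_add_distrib,
      ← Finset.mul_sum, hχsum, mul_zero, add_zero, Finset.sum_const,
      Finset.card_erase_of_mem (Finset.mem_univ _), Finset.card_univ, nsmul_eq_mul,
      Nat.cast_sub (Fintype.card_pos (α := F)), Nat.cast_one, ← hqdef] at h
    have hq1 : q - 1 ≠ 0 := by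
      intro h1
      have : ((Fintype.card F : ℕ) : ℂ) = ((1 : ℕ) : ℂ) := by
        rw [← hqdef]; push_cast; linear_combination h1
      exact (Fintype.one_lt_card (α := F)).ne' (Nat.cast_injective this)
    refine mul_left_cancel₀ hq1 ?_
    linear_combination 2 * h - hd + q * hk'
  -- a non-trivial additive character
  obtain ⟨ψ, hψ⟩ : ∃ ψ : Multiplicative F →* ℂ, ψ ≠ 1 := by
    haveI : Fintype (Multiplicative F →* ℂ) := @Fintype.ofFinite _
      (Finite.of_injective _ (linIrr_injective (G := Multiplicative F)))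
    have hcm : commutator (Multiplicative F) = ⊥ := by
      rw [commutator_eq_bot_iff_center_eq_top]
      exact CommGroup.center_eq_top
    have h := card_monoidHom_complex (G := Multiplicative F)
    rw [hcm, Subgroup.index_bot, Nat.card_eq_fintype_card, Nat.card_eq_fintype_card,
      Fintype.card_multiplicative] at h
    exact Fintype.exists_ne_of_one_lt_card (h ▸ Fintype.one_lt_card) 1
  let φ : AddChar F ℂ := AddChar.toMonoidHomEquiv.symm ψ
  have hφv : ∀ t, φ t = ψ (Multiplicative.ofAdd t) := fun t => rfl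
  have hφ1 : φ ≠ 1 := fun h => hψ (MonoidHom.ext fun x => DFunLike.congr_fun h x.toAdd)
  let χc : MulChar F ℂ := (quadraticChar F).ringHomComp (Int.castRingHom ℂ)
  have hG := gaussSum_sq (χ := χc)
    ((MulChar.ringHomComp_ne_one_iff Int.cast_injective).2 (quadraticChar_ne_one hF))
    ((quadraticChar_isQuadratic F).comp _) (AddChar.IsPrimitive.of_ne_one hφ1)
  set G := gaussSum χc φ with hGdef
  have hδ : χc (-1) = (-1 : ℂ) ^ ((Fintype.card F - 1) / 2) := by
    show ((quadraticChar F (-1) : ℤ) : ℂ) = _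
    rw [quadraticChar_neg_one hF, ZMod.χ₄_eq_neg_one_pow (Nat.odd_iff.1 hodd)]
    obtain ⟨m, hm⟩ := hodd
    rw [hm, show (2 * m + 1) / 2 = m by omega, show (2 * m + 1 - 1) / 2 = m by omega]
    push_cast
    rfl
  rw [hδ, ← hqdef] at hG
  have hδ2 : ((-1 : ℂ) ^ ((Fintype.card F - 1) / 2)) ^ 2 = 1 := by
    rw [← pow_mul, mul_comm, pow_mul, neg_one_sq, one_pow]
  obtain ⟨n, hn1, hn⟩ := classInner_uni_le_one θ (φ⁻¹).toMonoidHom (fun h => hφ1 (by
    have h' : φ⁻¹ = 1 := AddChar.toMonoidHomEquiv.injective h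
    exact inv_eq_one.1 h'))
  have hconj : ∀ t, conj ((φ⁻¹).toMonoidHom (Multiplicative.ofAdd t)) = φ t := by
    intro t
    rw [IsCharacter.conj_apply (IsIrrCharacter.isCharacter (isIrrCharacter_of_monoidHom _)),
      ← ofAdd_neg]
    show (φ⁻¹) (-t) = φ t
    rw [AddChar.inv_apply, neg_neg]
  have hmain : q * (n : ℂ) = θ.1 1 - s / 2 + D / 2 * G := by
    rw [← hn, classInner, Nat.card_eq_fintype_card, Fintype.card_multiplicative, ← hqdef, ← mul_assoc,
      mul_inv_cancel₀ hq, one_mul, ← (Multiplicative.ofAdd : F ≃ Multiplicative F).sum_comp]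
    have hu : ∀ t : F, θ.1 (uniHom (Multiplicative.ofAdd t)) = θ.1 (uni t) := fun t => rfl
    simp only [hu, hconj]
    rw [← Finset.add_sum_erase _ _ (Finset.mem_univ (0 : F)), uni_zero, AddChar.map_zero_eq_one,
      mul_one, Finset.sum_congr rfl fun t ht => by rw [hval t (Finset.ne_of_mem_erase ht), add_mul],
      Finset.sum_add_distrib, ← Finset.mul_sum]
    have h1 : ∑ t ∈ Finset.univ.erase (0 : F), φ t = -1 := by
      have h := AddChar.sum_eq_zero_of_ne_one hφ1
      rw [← Finset.add_sum_erase _ _ (Finset.mem_univ (0 : F)), AddChar.map_zero_eq_one] at h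
      linear_combination h
    have h2 : ∑ t ∈ Finset.univ.erase (0 : F),
        D / 2 * ((quadraticChar F t : ℤ) : ℂ) * φ t = D / 2 * G := by
      rw [hGdef, gaussSum, Finset.mul_sum, ← Finset.add_sum_erase _ _ (Finset.mem_univ (0 : F)),
        MulChar.map_zero, zero_mul, mul_zero, zero_add]
      refine Finset.sum_congr rfl fun t _ => ?_
      show _ = D / 2 * (((quadraticChar F t : ℤ) : ℂ) * φ t)
      ring
    rw [h1, h2]
    ring
  have hnsq : (2 * (n : ℂ) - 1) ^ 2 = 1 := by
    interval_cases n <;> norm_num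
  have hDG : D * G = q * (2 * (n : ℂ) - 1) := by
    rw [hs] at hmain
    linear_combination -2 * hmain - hd
  have hD2 : D ^ 2 * ((-1 : ℂ) ^ ((Fintype.card F - 1) / 2) * q) = q ^ 2 := by
    rw [← hG, ← mul_pow, hDG, mul_pow, hnsq, mul_one]
  rw [show 2 * θ.1 (uni 1) - sg = D by rw [hA, hs]; ring]
  refine mul_left_cancel₀ (mul_ne_zero (pow_ne_zero _ (by norm_num : (-1 : ℂ) ≠ 0) :
    (-1 : ℂ) ^ ((Fintype.card F - 1) / 2) ≠ 0) hq) ?_
  linear_combination hD2 - q ^ 2 * hδ2

end Cfsg.Agent.GL2Char
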